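import Cfsg.Agent.Lib.ThreeTranspositions.Component

/-!
Primitivity of a generating class of 3-transpositions.
-/
set_option autoImplicit false

open Cfsg
open scoped IsMulCommutative

namespace Cfsg.Agent.Lib.ThreeTranspositions

universe u

variable {G : Type u} [Group G] {D : Set G} {a b c d : G}

/-- The image of a set under conjugation. -/
def conjImage (g : G) (S : Set G) : Set G := (fun x => g * x * g⁻¹) '' S

theorem mem_conjImage {g x : G} {S : Set G} : x ∈ conjImage g S ↔ g⁻¹ * x * g ∈ S := by
  constructor
  · rintro ⟨y, hy, rfl⟩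
    simpa [mul_assoc] using hy
  · intro h
    exact ⟨_, h, by group⟩

theorem conjImage_mul (g h : G) (S : Set G) :
    conjImage (g * h) S = conjImage g (conjImage h S) := by
  ext x; simp only [mem_conjImage, mul_inv_rev, mul_assoc]

theorem conjImage_one (S : Set G) : conjImage 1 S = S := by
  ext x; simp [mem_conjImage]

/-- The elements fixing every translate of `B`. -/
def translateKer (B : Set G) : Subgroup G where
  carrier := {k | ∀ g : G, conjImage (k * g) B = conjImage g B}
  one_mem' := fun g => by rw [one_mul]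
  mul_mem' := by
    intro k l hk hl g
    rw [mul_assoc, hk, hl]
  inv_mem' := by
    intro k hk g
    have := hk (k⁻¹ * g)
    rw [mul_inv_cancel_left] at this
    exact this.symm

theorem translateKer_normal (B : Set G) : (translateKer B).Normal := by
  refine ⟨fun k hk h g => ?_⟩
  rw [show h * k * h⁻¹ * g = h * (k * (h⁻¹ * g)) by group, conjImage_mul, hk, ← conjImage_mul,
    mul_inv_cancel_left]

variable [Finite G]

/-- A normal subgroup is central or contains the component. -/
theorem le_center_or_le (hD : IsThreeTranspositionClass D) (h2 : pCore 2 G ≤ Subgroup.center G)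
    (h3 : pCore 3 G ≤ Subgroup.center G) {L : Subgroup G} [L.Normal] (hL : IsQuasisimple L)
    (hF : generalizedFittingSubgroup G = L ⊔ Subgroup.center G) (N : Subgroup G) [N.Normal] :
    N ≤ Subgroup.center G ∨ L ≤ N := by
  rcases Components.Quasisimple.normal_le_center_or_eq_top hL
    (N := N.subgroupOf L) inferInstance with hc | htop
  swap
  · exact Or.inr (Subgroup.subgroupOf_eq_top.1 htop)
  refine Or.inl ?_
  have hCF : Subgroup.centralizer (generalizedFittingSubgroup G : Set G) ≤ Subgroup.center G := by
    set C := Subgroup.centralizer (generalizedFittingSubgroup G : Set G) with hCdef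
    haveI : (L ⊔ Subgroup.center G).Normal := inferInstance
    haveI hn : C.Normal := by rw [hCdef, hF]; infer_instance
    have hle : C ≤ generalizedFittingSubgroup G := Components.GenFitting.centralizer_le
    haveI : IsMulCommutative C := ⟨⟨fun x y => Subtype.ext
      (Subgroup.mem_centralizer_iff.1 y.2 x (hle x.2))⟩⟩
    exact (Cores.le_fittingSubgroup (N := C) CommGroup.isNilpotent).trans (fitting_le_center hD h2 h3)
  intro n hn
  apply hCF
  rw [hF]
  let f : L → L := fun l => ⟨(l : G) * n * (l : G)⁻¹ * n⁻¹, by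
    have := L.mul_mem l.2 ((inferInstance : L.Normal).conj_mem _ (L.inv_mem l.2) n)
    convert this using 1
    group⟩
  have hfN : ∀ l : L, f l ∈ Subgroup.center L := fun l => hc (by
    show (l : G) * n * (l : G)⁻¹ * n⁻¹ ∈ N
    exact N.mul_mem ((inferInstance : N.Normal).conj_mem n hn l) (N.inv_mem hn))
  let φ : L →* Subgroup.center L := MonoidHom.mk' (fun l => ⟨f l, hfN l⟩) (fun l m => Subtype.ext (by
    show f (l * m) = f l * f m
    rw [← Subgroup.mem_center_iff.1 (hfN l) (f m)]
    apply Subtype.ext
    show ((l * m : L) : G) * n * ((l * m : L) : G)⁻¹ * n⁻¹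
      = ((m : G) * n * (m : G)⁻¹ * n⁻¹) * ((l : G) * n * (l : G)⁻¹ * n⁻¹)
    have e1 : (l : G) * ((m : G) * n * (m : G)⁻¹ * n⁻¹) = ((m : G) * n * (m : G)⁻¹ * n⁻¹) * l :=
      congrArg Subtype.val (Subgroup.mem_center_iff.1 (hfN m) l)
    calc ((l * m : L) : G) * n * ((l * m : L) : G)⁻¹ * n⁻¹
        = (l : G) * ((m : G) * n * (m : G)⁻¹ * n⁻¹) * (n * (l : G)⁻¹ * n⁻¹) := by
          push_cast; group
      _ = _ := by rw [e1]; simp only [mul_assoc]))
  have hL' : ∀ l ∈ L, l * n = n * l := by
    intro l hl
    have h1 := eq_one_of_perfect_to_comm hL.1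
      (fun x y => Subtype.ext (Subgroup.mem_center_iff.1 y.2 x)) φ ⟨l, hl⟩
    have h2 : l * n * l⁻¹ * n⁻¹ = 1 :=
      congrArg (fun z : Subgroup.center L => ((z : L) : G)) h1
    exact commutatorElement_eq_one_iff_mul_comm.1 (by rw [commutatorElement_def]; exact h2)
  have hle : L ⊔ Subgroup.center G ≤ Subgroup.centralizer ({n} : Set G) :=
    sup_le (fun l hl => Subgroup.mem_centralizer_singleton_iff.2 (hL' l hl))
      fun z hz => Subgroup.mem_centralizer_singleton_iff.2 (Subgroup.mem_center_iff.1 hz n).symm
  exact Subgroup.mem_centralizer_iff.2 fun x hx => Subgroup.mem_centralizer_singleton_iff.1 (hle hx)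

theorem mem_or_conj_mem_of_index (hS : IsThreeTranspositionSet D) (hd : d ∈ D) {L : Subgroup G}
    [L.Normal] (hdL : d ∈ L ∨ L.index ≤ 2) (hL : d ∈ L → L = ⊤) (g : G) : g ∈ L ∨ g * d ∈ L := by
  by_cases hm : d ∈ L
  · exact Or.inl (hL hm ▸ Subgroup.mem_top g)
  have hi : L.index = 2 := by
    have h1 : L.index ≠ 0 := Subgroup.index_ne_zero_of_finite
    have h2 : L.index ≠ 1 := fun h => hm (Subgroup.index_eq_one.1 h ▸ Subgroup.mem_top d)
    have := hdL.resolve_left hm
    omega
  by_cases hg : g ∈ L
  · exact Or.inl hg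
  exact Or.inr ((Subgroup.mul_mem_iff_of_index_two hi).2 (iff_of_false hg hm))

theorem isPrimitive_of_index_le_two (hD : IsThreeTranspositionClass D)
    (hD2 : ∃ a ∈ D, ∃ b ∈ D, a ≠ b)
    (h2 : pCore 2 G ≤ Subgroup.center G) (h3 : pCore 3 G ≤ Subgroup.center G) {L : Subgroup G}
    [L.Normal] (hL : IsQuasisimple L)
    (hF : generalizedFittingSubgroup G = L ⊔ Subgroup.center G) (hi : L.index ≤ 2) :
    IsPrimitiveUnderConj D := by
  have hC := isClosedSet_of_class hD
  have hS := hC.1
  refine ⟨fun a ha b hb => class_exists_conj hD ha hb, hD2, fun B hBD hB => ?_⟩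
  by_contra hcon
  push Not at hcon
  obtain ⟨hnsub, hBne⟩ := hcon
  obtain ⟨a, ha, b, hb, hab⟩ := hnsub
  have hblock : ∀ g g' x, x ∈ conjImage g B → x ∈ conjImage g' B → conjImage g B = conjImage g' B := by
    intro g g' x hx hx'
    have h1 : conjImage (g'⁻¹ * g) B = B := by
      refine (hB (g'⁻¹ * g)).resolve_right fun hdis => ?_
      have h0 : g'⁻¹ * x * g' ∈ conjImage (g'⁻¹ * g) B := by
        rw [conjImage_mul]
        exact mem_conjImage.2 (by simpa [mul_assoc] using hx)
      exact Set.disjoint_left.1 hdis h0 (mem_conjImage.1 hx')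
    calc conjImage g B = conjImage g' (conjImage (g'⁻¹ * g) B) := by
          rw [← conjImage_mul, mul_inv_cancel_left]
      _ = conjImage g' B := by rw [h1]
  have hself : ∀ y ∈ B, y ∈ D ∧ conjImage y B = B := by
    intro y hy
    refine ⟨hBD hy, ?_⟩
    have := hblock y 1 y ⟨y, hy, by simp⟩ (by rwa [conjImage_one])
    rwa [conjImage_one] at this
  have hfix : ∀ p ∈ B, ∀ c g, c ∈ conjImage g B → Commute p c → conjImage (p * g) B = conjImage g B := by
    intro p _ c g hc hcomm
    refine hblock _ _ c ?_ hc
    rw [conjImage_mul]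
    exact ⟨c, hc, show p * c * p⁻¹ = c by rw [hcomm.eq, mul_inv_cancel_right]⟩
  have hmove : ∀ p ∈ B, ∀ c g, c ∈ conjImage g B → ¬ Commute p c →
      conjImage (p * g) B = conjImage c B := by
    intro p hp c g hc hcomm
    have hcD : c ∈ D := by
      obtain ⟨y, hy, rfl⟩ := hc; exact hC.2 g y (hBD hy)
    refine hblock _ _ (p * c * p⁻¹) ?_ ?_
    · rw [conjImage_mul]; exact ⟨c, hc, rfl⟩
    · refine ⟨p, hp, ?_⟩
      show c * p * c⁻¹ = p * c * p⁻¹
      rw [inv_eq hS hcD, inv_eq hS (hBD hp), braid hS hcD (hBD hp) (not_commute_symm hcomm)]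
  have hab' : a * b ∈ translateKer B := by
    have hsame : ∀ g, conjImage g B ≠ B → conjImage (a * g) B = conjImage (b * g) B := by
      intro g hg
      obtain ⟨c, hc⟩ : (conjImage g B).Nonempty := ⟨_, a, ha, rfl⟩
      have cross : ∀ p ∈ B, ∀ q ∈ B, Commute p c → ¬ Commute q c → False := by
        intro p hp q hq h1 h2
        have hcB : conjImage c B = B := by
          have := hblock c 1 p ⟨p, hp, show c * p * c⁻¹ = p by rw [← h1.eq, mul_inv_cancel_right]⟩
            (by rwa [conjImage_one])
          rwa [conjImage_one] at this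
        have := hmove q hq c g hc h2
        rw [hcB, conjImage_mul] at this
        apply hg
        have h3 := congrArg (conjImage q) this
        rw [(hself q hq).2, ← conjImage_mul, mul_self hS (hBD hq), conjImage_one] at h3
        exact h3
      by_cases h1 : Commute a c <;> by_cases h2 : Commute b c
      · rw [hfix a ha c g hc h1, hfix b hb c g hc h2]
      · exact (cross a ha b hb h1 h2).elim
      · exact (cross b hb a ha h2 h1).elim
      · rw [hmove a ha c g hc h1, hmove b hb c g hc h2]
    intro g
    by_cases hg : conjImage g B = B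
    · rw [conjImage_mul, hg, conjImage_mul, (hself b hb).2, (hself a ha).2]
    · have hbg : conjImage (b * g) B ≠ B := fun h => hg (by
        have h3 := congrArg (conjImage b) h
        rwa [(hself b hb).2, ← conjImage_mul, ← mul_assoc, mul_self hS (hBD hb), one_mul] at h3)
      have := hsame (b * g) hbg
      rwa [← mul_assoc b b, mul_self hS (hBD hb), one_mul, ← mul_assoc] at this
  haveI := translateKer_normal B
  rcases le_center_or_le hD h2 h3 hL hF (translateKer B) with hle | hle
  · have haD := hBD ha
    have hbD := hBD hb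
    have hz := hle hab'
    have hcab : Commute a b := by
      have h1 : a * b * a = a * (a * b) := (Subgroup.mem_center_iff.1 hz a).symm
      rw [mul_self_assoc hS haD] at h1
      show a * b = b * a
      calc a * b = a * b * a * a := by rw [mul_mul_self hS haD]
        _ = b * a := by rw [h1]
    obtain ⟨f, hf, hfa⟩ := exists_not_commute hD hD2 haD
    have hz2 : (a * b) ^ 2 = 1 := sq_eq_one_of_commute (mul_self hS haD) (mul_self hS hbD) hcab
    have hzf : Commute (a * b) (a * f) := (Subgroup.mem_center_iff.1 hz (a * f)).symm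
    have e : b * f = (a * b) * (a * f) := by
      rw [hcab.eq]; simp only [mul_assoc, mul_self_assoc hS haD]
    have haf3 := cube_eq_one hS haD hf hfa
    have haf2 : (a * f) ^ 2 ≠ 1 := fun h =>
      hfa (commute_of_sq_eq_one (mul_self hS haD) (mul_self hS hf) h)
    rcases hS.2 b hbD f hf with h | h <;> rw [e, hzf.mul_pow] at h
    · rw [hz2, one_mul] at h; exact haf2 h
    · rw [haf3, mul_one, pow_succ, hz2, one_mul] at h
      exact hab ((eq_inv_of_mul_eq_one_left h).trans (inv_eq hS hbD))
  · apply hBne
    refine Set.Subset.antisymm hBD fun x hx => ?_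
    obtain ⟨g, rfl⟩ := class_exists_conj hD (hBD ha) hx
    have key : ∀ l ∈ L, l * a * l⁻¹ ∈ B := by
      intro l hl
      have := hle hl 1
      rw [mul_one, conjImage_one] at this
      rw [← this]; exact ⟨a, ha, rfl⟩
    have hLtop : a ∈ L → L = ⊤ := fun h => by
      rw [eq_top_iff, ← hD.2.2, Subgroup.closure_le]
      intro y hy
      obtain ⟨k, rfl⟩ := class_exists_conj hD (hBD ha) hy
      exact (inferInstance : L.Normal).conj_mem a h k
    rcases mem_or_conj_mem_of_index hS (hBD ha) (Or.inr hi) hLtop g with h | h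
    · exact key g h
    · have := key _ h
      rw [mul_inv_rev, inv_eq hS (hBD ha)] at this
      convert this using 1
      simp only [mul_assoc, mul_self_assoc hS (hBD ha)]

theorem index_le_two_of_connected (hD : IsThreeTranspositionClass D) (hd : d ∈ D) {L : Subgroup G}
    [L.Normal] (hL : IsQuasisimple L) (hconn : (commutingGraph D).Connected) : L.index ≤ 2 := by
  have hC := isClosedSet_of_class hD
  have hS := hC.1
  set π := QuotientGroup.mk' L
  have hstep : ∀ x y : D, (commutingGraph D).Adj x y → π x = π y := by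
    intro x y hxy
    have hc : Commute (x : G) (y : G) := by
      rcases hxy.2 with h | h
      · exact h
      · exact h.symm
    refine QuotientGroup.eq.2 (inv_mul_mem_quasisimple hD hL x.2 y.2 ?_)
    rw [hc.eq, mul_inv_cancel_right, mul_inv_cancel]
    exact one_mem _
  have hall : ∀ e ∈ D, π e = π d := by
    intro e he
    obtain ⟨w⟩ := hconn.preconnected ⟨e, he⟩ ⟨d, hd⟩
    suffices h : ∀ {x y : D}, (commutingGraph D).Walk x y → π x = π y from h w
    intro x y w
    induction w with
    | nil => rfl
    | cons h _ ih => exact (hstep _ _ h).trans ih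
  have hgen : ∀ z : G ⧸ L, z ∈ Subgroup.zpowers (π d) := by
    intro z
    obtain ⟨g, rfl⟩ := QuotientGroup.mk'_surjective L z
    have : Subgroup.closure D ≤ (Subgroup.zpowers (π d)).comap π := by
      rw [Subgroup.closure_le]
      intro e he
      show π e ∈ Subgroup.zpowers (π d)
      rw [hall e he]; exact Subgroup.mem_zpowers _
    exact this (hD.2.2 ▸ Subgroup.mem_top g)
  have htop : Subgroup.zpowers (π d) = ⊤ := eq_top_iff.2 fun z _ => hgen z
  rw [Subgroup.index, ← Nat.card_congr Subgroup.topEquiv.toEquiv, ← htop, Nat.card_zpowers]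
  refine Nat.le_of_dvd (by norm_num) (orderOf_dvd_of_pow_eq_one ?_)
  rw [pow_two, ← map_mul, mul_self hS hd, map_one]

end Cfsg.Agent.Lib.ThreeTranspositions
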