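import Mathlib
import Cfsg.Prelude.Def_Solvable
import Cfsg.Agent.Lib.Cores.Basic
import Cfsg.Agent.Lib.Coprime.Glauberman
import Cfsg.Agent.Lib.PGroups.UniqueInvolution

/-!
A conjugation invariant set of involutions all of whose products have `p`-power order (`p` odd)
is contained in one coset of `O_p(G)`, given the Brauer–Suzuki theorem on quaternion Sylow
2-subgroups.
-/
set_option autoImplicit false

open Cfsg

namespace Cfsg.Agent.Lib.ThreeTranspositions

universe u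

variable {G : Type u} [Group G] {p : ℕ} {D : Set G} {a b d m x : G}

/-- Involutions, closed under conjugation, with all pairwise products of `p`-power order. -/
structure IsOddTrans (p : ℕ) (D : Set G) : Prop where
  sq : ∀ d ∈ D, d * d = 1
  ne : ∀ d ∈ D, d ≠ 1
  conj : ∀ g : G, ∀ d ∈ D, g * d * g⁻¹ ∈ D
  prod : ∀ a ∈ D, ∀ b ∈ D, ∃ k : ℕ, (a * b) ^ p ^ k = 1

namespace IsOddTrans

variable (hD : IsOddTrans p D)
include hD

theorem inv_self (ha : a ∈ D) : a⁻¹ = a := inv_eq_of_mul_eq_one_left (hD.sq a ha)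

theorem eq_of_sq_mul (hodd : Odd p) (ha : a ∈ D) (hb : b ∈ D) (h : (a * b) ^ 2 = 1) : a = b := by
  obtain ⟨k, hk⟩ := hD.prod a ha b hb
  have h1 := pow_gcd_eq_one.2 ⟨h, hk⟩
  rw [show Nat.gcd 2 (p ^ k) = 1 from Nat.Coprime.pow_right k hodd.coprime_two_left, pow_one] at h1
  rw [eq_inv_of_mul_eq_one_left h1, hD.inv_self hb]

theorem eq_of_commute (hodd : Odd p) (ha : a ∈ D) (hb : b ∈ D) (h : Commute a b) : a = b := by
  refine hD.eq_of_sq_mul hodd ha hb ?_
  rw [h.mul_pow, pow_two, pow_two, hD.sq a ha, hD.sq b hb, one_mul]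

theorem conj_pow_eq (ha : a ∈ D) (hb : b ∈ D) (j : ℕ) :
    (a * b) ^ j * a * ((a * b) ^ j)⁻¹ = (a * b) ^ (2 * j) * a := by
  have h1 : a * (a * b) * a⁻¹ = (a * b)⁻¹ := by
    rw [mul_inv_rev, hD.inv_self ha, hD.inv_self hb, ← mul_assoc, hD.sq a ha, one_mul]
  have h2 : a * ((a * b) ^ j)⁻¹ * a⁻¹ = (a * b) ^ j := by
    rw [← inv_pow, ← conj_pow, ← conj_inv, h1, inv_inv]
  rw [two_mul, pow_add, mul_assoc ((a * b) ^ j), mul_assoc]
  congr 1
  exact mul_inv_eq_iff_eq_mul.1 h2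

theorem exists_pow_conj (hodd : Odd p) (ha : a ∈ D) (hb : b ∈ D) :
    ∃ j : ℕ, (a * b) ^ j * a * ((a * b) ^ j)⁻¹ = b := by
  obtain ⟨k, hk⟩ := hD.prod a ha b hb
  obtain ⟨j, hj⟩ := hodd.pow (n := k)
  refine ⟨j, ?_⟩
  rw [hD.conj_pow_eq ha hb]
  have h1 : (a * b) ^ (2 * j) * (a * b) = 1 := by rw [← pow_succ, ← hj]; exact hk
  rw [eq_inv_of_mul_eq_one_left h1, mul_inv_rev, hD.inv_self ha, hD.inv_self hb, mul_assoc,
    hD.sq a ha, mul_one]

theorem exists_midpoint (hodd : Odd p) (ha : a ∈ D) (hb : b ∈ D) :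
    ∃ m ∈ D, m * a * m = b := by
  obtain ⟨j, hj⟩ := hD.exists_pow_conj hodd ha hb
  obtain ⟨k, hk⟩ := hD.prod a ha b hb
  refine ⟨(a * b) ^ j * a, ?_, ?_⟩
  · obtain ⟨l, hl⟩ := Nat.even_or_odd' j
    rcases hl with hl | hl
    · have := hD.conj ((a * b) ^ l) a ha
      rwa [hD.conj_pow_eq ha hb, ← hl] at this
    · obtain ⟨i, hi⟩ := hodd.pow (n := k)
      have := hD.conj ((a * b) ^ (l + i + 1)) a ha
      rw [hD.conj_pow_eq ha hb] at this
      rwa [show 2 * (l + i + 1) = j + p ^ k by omega, pow_add, hk, mul_one] at this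
  · have h2 : a * (a * b) ^ j = ((a * b) ^ j)⁻¹ * a := by
      have h1 : a * (a * b) * a⁻¹ = (a * b)⁻¹ := by
        rw [mul_inv_rev, hD.inv_self ha, hD.inv_self hb, ← mul_assoc, hD.sq a ha, one_mul]
      rw [← inv_pow, ← h1, conj_pow, mul_assoc, mul_assoc, inv_mul_cancel, mul_one]
    calc (a * b) ^ j * a * a * ((a * b) ^ j * a)
        = (a * b) ^ j * (a * a) * (a * b) ^ j * a := by simp only [mul_assoc]
      _ = (a * b) ^ j * (a * b) ^ j * a := by rw [hD.sq a ha, mul_one]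
      _ = b := by rw [← pow_add, ← two_mul, ← hD.conj_pow_eq ha hb]; exact hj

theorem eq_one_of_comm_inv (hodd : Odd p) (ha : a ∈ D) (hm : m ∈ D) (h1 : Commute a x)
    (h2 : m * x * m = x⁻¹) {k : ℕ} (hx : x ^ p ^ k = 1) : x = 1 := by
  obtain ⟨l, hl⟩ := hD.prod a ha m hm
  have h3 : a * x * a = x := by rw [h1.eq, mul_assoc, hD.sq a ha, mul_one]
  have h4 : a * x⁻¹ * a = x⁻¹ := by rw [h1.inv_right.eq, mul_assoc, hD.sq a ha, mul_one]
  have h5 : Commute ((a * m) ^ 2) x := by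
    have : (a * m) ^ 2 * x * ((a * m) ^ 2)⁻¹ = x := by
      rw [pow_two, mul_inv_rev, mul_inv_rev, hD.inv_self ha, hD.inv_self hm]
      have h2' : m * x⁻¹ * m = x := by
        rw [← h2, show m * (m * x * m) * m = (m * m) * x * (m * m) by simp only [mul_assoc],
          hD.sq m hm]
        simp
      calc a * m * (a * m) * x * (m * a * (m * a))
          = a * (m * (a * (m * x * m) * a) * m) * a := by simp only [mul_assoc]
        _ = x := by rw [h2, h4, h2', h3]
    exact mul_inv_eq_iff_eq_mul.1 this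
  obtain ⟨j, hj⟩ := hodd.pow (n := l)
  have h6 : Commute (a * m) x := by
    have e : ((a * m) ^ 2) ^ (j + 1) = a * m := by
      rw [← pow_mul, show 2 * (j + 1) = p ^ l + 1 by omega, pow_succ, hl, one_mul]
    exact e ▸ h5.pow_left _
  have h7 : x = x⁻¹ := by
    calc x = (a * m) * x * (a * m)⁻¹ := by rw [h6.eq, mul_inv_cancel_right]
      _ = a * (m * x * m) * a := by
        rw [mul_inv_rev, hD.inv_self ha, hD.inv_self hm]; simp only [mul_assoc]
      _ = x⁻¹ := by rw [h2, h4]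
  have h8 : x ^ 2 = 1 := by rw [pow_two]; nth_rw 2 [h7]; rw [mul_inv_cancel]
  have h9 := pow_gcd_eq_one.2 ⟨h8, hx⟩
  rwa [show Nat.gcd 2 (p ^ k) = 1 from Nat.Coprime.pow_right k hodd.coprime_two_left, pow_one] at h9

theorem midpoint_unique (hodd : Odd p) {m' : G} (ha : a ∈ D) (hm : m ∈ D) (hm' : m' ∈ D)
    (h : m * a * m = m' * a * m') : m = m' := by
  obtain ⟨k, hk⟩ := hD.prod m' hm' m hm
  have hc : Commute a (m' * m) := by
    have : (m' * m) * a * (m' * m)⁻¹ = a := by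
      rw [mul_inv_rev, hD.inv_self hm, hD.inv_self hm']
      calc m' * m * a * (m * m') = m' * (m * a * m) * m' := by simp only [mul_assoc]
        _ = (m' * m') * a * (m' * m') := by rw [h]; simp only [mul_assoc]
        _ = a := by rw [hD.sq m' hm']; simp
    exact (mul_inv_eq_iff_eq_mul.1 this).symm
  have hi : m * (m' * m) * m = (m' * m)⁻¹ := by
    rw [mul_inv_rev, hD.inv_self hm, hD.inv_self hm', mul_assoc, mul_assoc, hD.sq m hm, mul_one]
  have h1 := hD.eq_one_of_comm_inv hodd ha hm hc hi hk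
  exact ((eq_inv_of_mul_eq_one_left h1).trans (hD.inv_self hm)).symm

end IsOddTrans

end Cfsg.Agent.Lib.ThreeTranspositions
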