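import Cfsg.Agent.Lib.ThreeTranspositions.Basic
import Cfsg.Agent.Lib.ThreeTranspositions.OddTrans

/-!
If all products of a conjugation invariant set of involutions have `p`-power order (`p` odd) then
these products lie in `O_p(G)`, given the Brauer–Suzuki theorem for quaternion Sylow 2-subgroups.
-/
set_option autoImplicit false

open Cfsg

namespace Cfsg.Agent.Lib.ThreeTranspositions

universe u

/-- The Brauer–Suzuki theorem in the form used here. -/
def QuaternionCentre : Prop :=
  ∀ (G : Type u) [Group G] [Finite G] (S : Sylow 2 G) (n : ℕ),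
    ((S : Subgroup G) ≃* QuaternionGroup (2 ^ (n + 1))) →
    (∀ N : Subgroup G, N.Normal → Odd (Nat.card N) → N = ⊥) → Nat.card (Subgroup.center G) = 2

variable {G : Type u} [Group G] {p : ℕ} {D : Set G}

theorem ncard_conj_orbit [Finite G] (P : Subgroup G) (d : G) :
    ((fun g => g * d * g⁻¹) '' (P : Set G)).ncard
      = (Subgroup.centralizer ({d} : Set G)).relIndex P := by
  have hiff : ∀ g h : P, (g : G) * d * (g : G)⁻¹ = (h : G) * d * (h : G)⁻¹ ↔
      (g⁻¹ * h) ∈ (Subgroup.centralizer ({d} : Set G)).subgroupOf P := by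
    intro g h
    rw [Subgroup.mem_subgroupOf, Subgroup.mem_centralizer_singleton_iff]
    push_cast
    constructor
    · intro e
      symm
      calc d * ((g : G)⁻¹ * h) = (g : G)⁻¹ * ((g : G) * d * (g : G)⁻¹) * h := by group
        _ = (g : G)⁻¹ * h * d := by rw [e]; group
    · intro e
      calc (g : G) * d * (g : G)⁻¹ = (g : G) * (d * ((g : G)⁻¹ * h)) * (h : G)⁻¹ := by group
        _ = (h : G) * d * (h : G)⁻¹ := by rw [← e]; group
  rw [← Nat.card_coe_set_eq, Subgroup.relIndex, Subgroup.index]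
  refine (Nat.card_congr (Equiv.ofBijective
    (Quotient.lift (fun g : P => (⟨(g : G) * d * (g : G)⁻¹, ⟨(g : G), g.2, rfl⟩⟩ :
      ↥((fun g => g * d * g⁻¹) '' (P : Set G))))
      (fun g h e => Subtype.ext ((hiff g h).2 (QuotientGroup.leftRel_apply.1 e)))) ⟨?_, ?_⟩)).symm
  · intro x y
    induction x using Quotient.inductionOn with
    | h g =>
      induction y using Quotient.inductionOn with
      | h h =>
        intro e
        exact Quotient.sound (QuotientGroup.leftRel_apply.2 ((hiff g h).1 (congrArg Subtype.val e)))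
  · rintro ⟨_, g, hg, rfl⟩
    exact ⟨Quotient.mk'' ⟨g, hg⟩, rfl⟩

theorem IsOddTrans.comap (hD : IsOddTrans p D) (H : Subgroup G) :
    IsOddTrans p {x : H | (x : G) ∈ D} where
  sq d hd := Subtype.ext (hD.sq _ hd)
  ne d hd h := hD.ne _ hd (by simpa using congrArg Subtype.val h)
  conj g d hd := by simpa using hD.conj g _ hd
  prod a ha b hb := by
    obtain ⟨k, hk⟩ := hD.prod _ ha _ hb
    exact ⟨k, Subtype.ext (by simpa using hk)⟩

theorem IsOddTrans.map {K : Type u} [Group K] (hD : IsOddTrans p D) (π : G →* K)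
    (hπ : Function.Surjective π) (hne : ∀ d ∈ D, π d ≠ 1) : IsOddTrans p (π '' D) where
  sq := by rintro _ ⟨d, hd, rfl⟩; rw [← map_mul, hD.sq d hd, map_one]
  ne := by rintro _ ⟨d, hd, rfl⟩; exact hne d hd
  conj := by
    rintro g _ ⟨d, hd, rfl⟩
    obtain ⟨g, rfl⟩ := hπ g
    exact ⟨_, hD.conj g d hd, by simp⟩
  prod := by
    rintro _ ⟨a, ha, rfl⟩ _ ⟨b, hb, rfl⟩
    obtain ⟨k, hk⟩ := hD.prod a ha b hb
    exact ⟨k, by rw [← map_mul, ← map_pow, hk, map_one]⟩

/-- A member normalising a `q`-subgroup, `q ≠ p`, centralises it. -/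
theorem IsOddTrans.commute_of_normalizes (hD : IsOddTrans p D) (hp : p.Prime) {q : ℕ}
    (hq : q.Prime) (hqp : q ≠ p) {Q : Subgroup G} (hQ : IsPGroup q Q) {d : G} (hd : d ∈ D)
    (hn : d ∈ Subgroup.normalizer (Q : Set G)) : ∀ x ∈ Q, Commute d x := by
  intro x hx
  have hxd : x * d * x⁻¹ ∈ D := hD.conj x d hd
  have hmem : d * (x * d * x⁻¹) ∈ Q := by
    have h1 : d * x * d⁻¹ ∈ Q := (Subgroup.mem_normalizer_iff.1 hn x).1 hx
    have h2 : d * (x * d * x⁻¹) = (d * x * d⁻¹) * x⁻¹ := by
      rw [hD.inv_self hd]; simp only [mul_assoc]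
    rw [h2]; exact Q.mul_mem h1 (Q.inv_mem hx)
  obtain ⟨i, hi⟩ := hQ ⟨_, hmem⟩
  have hi' : (d * (x * d * x⁻¹)) ^ q ^ i = 1 := by simpa [Subtype.ext_iff] using hi
  obtain ⟨k, hk⟩ := hD.prod d hd _ hxd
  have h1 := pow_gcd_eq_one.2 ⟨hi', hk⟩
  rw [show Nat.gcd (q ^ i) (p ^ k) = 1 from Nat.Coprime.pow _ _ ((Nat.coprime_primes hq hp).2 hqp),
    pow_one] at h1
  have h2 : d = x * d * x⁻¹ := (eq_inv_of_mul_eq_one_left h1).trans (hD.inv_self hxd)
  show d * x = x * d
  calc d * x = (x * d * x⁻¹) * x := by rw [← h2]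
    _ = x * d := by group

/-- The inductive hypothesis. -/
def SmallerHolds (p : ℕ) (n : ℕ) : Prop :=
  ∀ (H : Type u) [Group H] [Finite H] (E : Set H), Nat.card H < n → IsOddTrans p E →
    ∀ a ∈ E, ∀ b ∈ E, a * b ∈ pCore p H

variable [Finite G]

theorem card_lt_of_ne_top {M : Subgroup G} (h : M ≠ ⊤) : Nat.card M < Nat.card G := by
  rw [← M.card_mul_index]
  refine lt_mul_of_one_lt_right Nat.card_pos ?_
  have h0 : M.index ≠ 0 := Subgroup.index_ne_zero_of_finite
  have h1 : M.index ≠ 1 := fun h1 => h (Subgroup.index_eq_one.1 h1)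
  omega

theorem products_mem_of_ne_top (ih : SmallerHolds.{u} p (Nat.card G)) (hD : IsOddTrans p D)
    {M : Subgroup G} (hM : M ≠ ⊤) :
    ∃ P : Subgroup G, P ≤ M ∧ IsPGroup p P ∧ M ≤ Subgroup.normalizer (P : Set G) ∧
      ∀ a ∈ D, a ∈ M → ∀ b ∈ D, b ∈ M → a * b ∈ P := by
  have hlt : Nat.card M < Nat.card G := card_lt_of_ne_top hM
  refine ⟨(pCore p M).map M.subtype, Subgroup.map_subtype_le _,
    (Cores.pCore_isPGroup p).map _, ?_, ?_⟩
  · intro g hg
    rw [Subgroup.mem_normalizer_iff]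
    have key : ∀ g ∈ M, ∀ x ∈ (pCore p M).map M.subtype, g * x * g⁻¹ ∈ (pCore p M).map M.subtype := by
      rintro g hg _ ⟨y, hy, rfl⟩
      exact ⟨⟨g, hg⟩ * y * ⟨g, hg⟩⁻¹,
        (inferInstance : (pCore p M).Normal).conj_mem y hy ⟨g, hg⟩, by simp⟩
    intro x
    refine ⟨key g hg x, fun h => ?_⟩
    have := key g⁻¹ (M.inv_mem hg) _ h
    convert this using 1
    group
  · intro a ha haM b hb hbM
    exact ⟨⟨a, haM⟩ * ⟨b, hbM⟩, ih M _ hlt (hD.comap M) _ ha _ hb, rfl⟩

theorem ncard_inter_eq_pow (hp : p.Prime) (hp2 : p ≠ 2) (ih : SmallerHolds.{u} p (Nat.card G))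
    (hD : IsOddTrans p D) {M : Subgroup G} (hM : M ≠ ⊤) {d : G} (hd : d ∈ D) (hdM : d ∈ M) :
    ∃ k : ℕ, {e : G | e ∈ D ∧ e ∈ M}.ncard = p ^ k := by
  haveI := Fact.mk hp
  obtain ⟨P, hPM, hP, -, hprod⟩ := products_mem_of_ne_top ih hD hM
  have hset : {e : G | e ∈ D ∧ e ∈ M} = (fun g => g * d * g⁻¹) '' (P : Set G) := by
    ext e
    constructor
    · rintro ⟨he, heM⟩
      obtain ⟨j, hj⟩ := hD.exists_pow_conj (hp.odd_of_ne_two hp2) hd he
      exact ⟨_, P.pow_mem (hprod d hd hdM e he heM) j, hj⟩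
    · rintro ⟨g, hg, rfl⟩
      exact ⟨hD.conj g d hd, M.mul_mem (M.mul_mem (hPM hg) hdM) (M.inv_mem (hPM hg))⟩
  rw [hset, ncard_conj_orbit]
  obtain ⟨n, hn⟩ := hP.exists_card_eq
  obtain ⟨k, -, hk⟩ := (Nat.dvd_prime_pow hp).1
    (hn ▸ Subgroup.relIndex_dvd_card (Subgroup.centralizer ({d} : Set G)) P)
  exact ⟨k, hk⟩

theorem products_mem_comap (ih : SmallerHolds.{u} p (Nat.card G)) (hD : IsOddTrans p D)
    (N : Subgroup G) [N.Normal] (hN : N ≠ ⊥) (hne : ∀ d ∈ D, d ∉ N) :
    ∀ a ∈ D, ∀ b ∈ D, a * b ∈ (pCore p (G ⧸ N)).comap (QuotientGroup.mk' N) := by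
  intro a ha b hb
  have hlt : Nat.card (G ⧸ N) < Nat.card G := by
    rw [← Subgroup.index_eq_card, ← N.card_mul_index]
    exact lt_mul_of_one_lt_left (Nat.pos_of_ne_zero Subgroup.index_ne_zero_of_finite)
      (N.one_lt_card_iff_ne_bot.2 hN)
  have h := ih (G ⧸ N) _ hlt (hD.map (QuotientGroup.mk' N) (QuotientGroup.mk'_surjective N)
    fun d hd h => hne d hd ((QuotientGroup.eq_one_iff _).1 h)) _ ⟨a, ha, rfl⟩ _ ⟨b, hb, rfl⟩
  rwa [← map_mul] at h

theorem card_comap_quotient (N : Subgroup G) [N.Normal] (Q : Subgroup (G ⧸ N)) :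
    Nat.card (Q.comap (QuotientGroup.mk' N)) = Nat.card N * Nat.card Q := by
  have h1 := (Q.comap (QuotientGroup.mk' N)).card_mul_index
  rw [Subgroup.index_comap_of_surjective _ (QuotientGroup.mk'_surjective N)] at h1
  have h2 := Q.card_mul_index
  rw [← Subgroup.index_eq_card] at h2
  refine Nat.eq_of_mul_eq_mul_right
    (Nat.pos_of_ne_zero (Subgroup.index_ne_zero_of_finite (H := Q))) ?_
  rw [h1, mul_assoc, h2, N.card_mul_index]

section main

variable (hp : p.Prime) (hp2 : p ≠ 2) (ih : SmallerHolds.{u} p (Nat.card G))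
  (hD : IsOddTrans p D) (hgen : Subgroup.closure D = ⊤) (hcore : pCore p G = ⊥)
  (hcen : ∀ t : G, t * t = 1 → t ≠ 1 → t ∈ Subgroup.center G → False)

include hp hp2 ih hD hcen in
theorem ncard_eq_pow_of_involution {d t : G} (hd : d ∈ D) (ht : t * t = 1) (ht1 : t ≠ 1)
    (htd : Commute t d) (hne : t ≠ d) : ∃ k : ℕ, D.ncard = p ^ k := by
  classical
  have hodd := hp.odd_of_ne_two hp2
  have htD : t ∉ D := fun h => hne (hD.eq_of_commute hodd h hd htd)
  have htinv : t⁻¹ = t := inv_eq_of_mul_eq_one_left ht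
  have hC : ∀ u : G, u * u = 1 → u ≠ 1 → Subgroup.centralizer ({u} : Set G) ≠ ⊤ := by
    intro u hu hu1 h
    refine hcen u hu hu1 (Subgroup.mem_center_iff.2 fun g => ?_)
    have hg : g ∈ Subgroup.centralizer ({u} : Set G) := h ▸ Subgroup.mem_top g
    exact Subgroup.mem_centralizer_singleton_iff.1 hg
  have htconj : ∀ {e}, e ∈ D → t * e * t ∈ D := fun he => by
    have := hD.conj t _ he; rwa [htinv] at this
  choose ψ hψD hψ using fun e : D => hD.exists_midpoint hodd e.2 (htconj e.2)
  have hψt : ∀ e, Commute t (ψ e) := by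
    intro e
    have h1 : t * ψ e * t ∈ D := htconj (hψD e)
    have h2 : (t * ψ e * t) * (t * (e : G) * t) * (t * ψ e * t) = (e : G) := by
      calc (t * ψ e * t) * (t * (e : G) * t) * (t * ψ e * t)
          = t * (ψ e * ((t * t) * (e : G) * (t * t)) * ψ e) * t := by simp only [mul_assoc]
        _ = t * (ψ e * (e : G) * ψ e) * t := by rw [ht, one_mul, mul_one]
        _ = (t * t) * (e : G) * (t * t) := by rw [hψ]; simp only [mul_assoc]
        _ = (e : G) := by rw [ht]; simp
    have h3 : ψ e * (t * (e : G) * t) * ψ e = (e : G) := by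
      rw [← hψ e, show ψ e * (ψ e * (e : G) * ψ e) * ψ e = (ψ e * ψ e) * e * (ψ e * ψ e) by
        simp only [mul_assoc], hD.sq _ (hψD e)]
      simp
    have h4 := hD.midpoint_unique hodd (htconj e.2) (hψD e) h1 (h3.trans h2.symm)
    show t * ψ e = ψ e * t
    calc t * ψ e = t * ψ e * (t * t) := by rw [ht, mul_one]
      _ = (t * ψ e * t) * t := by simp only [mul_assoc]
      _ = ψ e * t := by rw [← h4]
  have fibre : ∀ (g : G), g ∈ D → Commute t g → ∀ e : D,
      ψ e = g ↔ Commute (t * g) (e : G) := by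
    intro g hg htg e
    have key : (t * g) * (e : G) * (t * g)⁻¹ = t * (g * e * g) * t := by
      rw [mul_inv_rev, htinv, hD.inv_self hg]; simp only [mul_assoc]
    have cancel : ∀ x : G, t * (t * x * t) * t = x := fun x => by
      rw [show t * (t * x * t) * t = (t * t) * x * (t * t) by simp only [mul_assoc], ht]; simp
    constructor
    · intro h
      subst h
      apply mul_inv_eq_iff_eq_mul.1
      rw [key, hψ, cancel]
    · intro h
      refine hD.midpoint_unique hodd e.2 (hψD e) hg ?_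
      have h1 : t * (g * (e : G) * g) * t = e := by
        rw [← key, h.eq, mul_inv_cancel_right]
      rw [hψ, ← cancel (g * (e : G) * g), h1]
  let ψ' : D → {g : G | g ∈ D ∧ g ∈ Subgroup.centralizer ({t} : Set G)} := fun e =>
    ⟨ψ e, hψD e, Subgroup.mem_centralizer_singleton_iff.2 (hψt e).symm.eq⟩
  have hdF : d ∈ Subgroup.centralizer ({t} : Set G) :=
    Subgroup.mem_centralizer_singleton_iff.2 htd.symm.eq
  obtain ⟨a, ha⟩ := ncard_inter_eq_pow hp hp2 ih hD (hC t ht ht1) hd hdF
  have comm_of : ∀ {g}, g ∈ Subgroup.centralizer ({t} : Set G) → Commute t g := fun hg =>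
    (Subgroup.mem_centralizer_singleton_iff.1 hg : _ = _).symm
  set f : G → ℕ := fun g => {e : G | e ∈ D ∧ e ∈ Subgroup.centralizer ({t * g} : Set G)}.ncard
  have hfib : ∀ g : {g : G | g ∈ D ∧ g ∈ Subgroup.centralizer ({t} : Set G)},
      Nat.card {e : D // ψ' e = g} = f g := by
    rintro ⟨g, hg, hgt⟩
    show _ = Set.ncard _
    rw [← Nat.card_coe_set_eq]
    refine Nat.card_congr
      { toFun := fun e => ⟨e.1.1, e.1.2, Subgroup.mem_centralizer_singleton_iff.2 ?_⟩
        invFun := fun e => ⟨⟨e.1, e.2.1⟩, Subtype.ext ?_⟩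
        left_inv := fun e => rfl
        right_inv := fun e => rfl }
    · exact ((fibre g hg (comm_of hgt) e.1).1 (congrArg Subtype.val e.2)).symm.eq
    · exact (fibre g hg (comm_of hgt) ⟨e.1, e.2.1⟩).2
        (Subgroup.mem_centralizer_singleton_iff.1 e.2.2 : _ = _).symm
  have htd2 : (t * d) * (t * d) = 1 := by
    rw [show t * d * (t * d) = t * (d * t) * d by simp only [mul_assoc], ← htd.eq,
      show t * (t * d) * d = (t * t) * (d * d) by simp only [mul_assoc], ht, hD.sq d hd, one_mul]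
  have htd1 : t * d ≠ 1 := fun h =>
    hne ((eq_inv_of_mul_eq_one_left h).trans (hD.inv_self hd))
  obtain ⟨b, hb⟩ := ncard_inter_eq_pow hp hp2 ih hD (hC _ htd2 htd1) hd
    (Subgroup.mem_centralizer_singleton_iff.2 ((htd.mul_left (Commute.refl d)).symm.eq))
  have hconst : ∀ g : {g : G | g ∈ D ∧ g ∈ Subgroup.centralizer ({t} : Set G)}, f g = p ^ b := by
    rintro ⟨g, hg, hgt⟩
    rw [← hb]
    obtain ⟨j, hj⟩ := hD.exists_pow_conj hodd hd hg
    set u := (d * g) ^ j
    have hut : Commute u t := (((htd.mul_right (comm_of hgt))).pow_right j).symm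
    have hu : u * (t * d) * u⁻¹ = t * g := by
      rw [← mul_assoc, hut.eq, mul_assoc t u d, mul_assoc, hj]
    show {e : G | e ∈ D ∧ e ∈ Subgroup.centralizer ({t * g} : Set G)}.ncard = _
    rw [show {e : G | e ∈ D ∧ e ∈ Subgroup.centralizer ({t * g} : Set G)}
      = (fun e => u * e * u⁻¹) '' {e : G | e ∈ D ∧ e ∈ Subgroup.centralizer ({t * d} : Set G)} by
        ext e
        constructor
        · rintro ⟨he, hec⟩
          refine ⟨u⁻¹ * e * u⁻¹⁻¹, ⟨hD.conj _ e he, ?_⟩, by group⟩
          have h1 : Commute e (t * g) := Subgroup.mem_centralizer_singleton_iff.1 hec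
          rw [Subgroup.mem_centralizer_singleton_iff]
          show Commute _ _
          rwa [← Commute.conj_iff u, hu, show u * (u⁻¹ * e * u⁻¹⁻¹) * u⁻¹ = e by group]
        · rintro ⟨x, ⟨hx, hxc⟩, rfl⟩
          refine ⟨hD.conj u x hx, ?_⟩
          have h1 : Commute x (t * d) := Subgroup.mem_centralizer_singleton_iff.1 hxc
          rw [Subgroup.mem_centralizer_singleton_iff, ← hu]
          exact ((Commute.conj_iff u).2 h1).eq]
    exact Set.ncard_image_of_injective _ fun x y h => conj_injective h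
  refine ⟨a + b, ?_⟩
  letI := Fintype.ofFinite {g : G | g ∈ D ∧ g ∈ Subgroup.centralizer ({t} : Set G)}
  rw [← Nat.card_coe_set_eq, ← Nat.card_congr (Equiv.sigmaFiberEquiv ψ'), Nat.card_sigma]
  simp only [hfib, hconst, Finset.sum_const, smul_eq_mul, Finset.card_univ]
  rw [← Nat.card_eq_fintype_card, Nat.card_coe_set_eq, ha, pow_add]

include hp hp2 ih hD hgen in
theorem ncard_eq_pow_of_unique (hBS : QuaternionCentre.{u})
    (hcen : ∀ t : G, t * t = 1 → t ≠ 1 → t ∈ Subgroup.center G → False) {d : G} (hd : d ∈ D)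
    (huniq : ∀ t : G, t * t = 1 → t ≠ 1 → Commute t d → t = d) : ∃ k : ℕ, D.ncard = p ^ k := by
  have hodd := hp.odd_of_ne_two hp2
  haveI : Fact (Nat.Prime 2) := ⟨Nat.prime_two⟩
  have hdord : orderOf d = 2 :=
    orderOf_eq_prime (by rw [pow_two]; exact hD.sq d hd) (hD.ne d hd)
  have hdT : IsPGroup 2 (Subgroup.zpowers d) :=
    IsPGroup.of_card (n := 1) (by rw [Nat.card_zpowers, hdord, pow_one])
  obtain ⟨T, hT⟩ := hdT.exists_le_sylow
  have hdT' : d ∈ (T : Subgroup G) := hT (Subgroup.mem_zpowers d)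
  have hTC : ∀ y ∈ (T : Subgroup G), Commute d y := by
    intro y hy
    have h1 := hD.conj y d hd
    have hmem : d * (y * d * y⁻¹) ∈ (T : Subgroup G) :=
      mul_mem hdT' (mul_mem (mul_mem hy hdT') (inv_mem hy))
    obtain ⟨k, hk⟩ := hD.prod d hd _ h1
    obtain ⟨i, hi⟩ := T.isPGroup' ⟨_, hmem⟩
    have hi' : (d * (y * d * y⁻¹)) ^ 2 ^ i = 1 := by simpa [Subtype.ext_iff] using hi
    have h2 := pow_gcd_eq_one.2 ⟨hi', hk⟩
    rw [show Nat.gcd (2 ^ i) (p ^ k) = 1 from
      Nat.Coprime.pow _ _ (Nat.coprime_two_left.2 hodd), pow_one] at h2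
    have h3 : d = y * d * y⁻¹ := (eq_inv_of_mul_eq_one_left h2).trans (hD.inv_self h1)
    show d * y = y * d
    calc d * y = (y * d * y⁻¹) * y := by rw [← h3]
      _ = y * d := by group
  have inv_eq_d : ∀ y : (T : Subgroup G), orderOf y = 2 → (y : G) = d := by
    intro y hy
    refine huniq _ ?_ ?_ (hTC _ y.2).symm
    · have := pow_orderOf_eq_one y
      rw [hy, pow_two] at this
      simpa using congrArg Subtype.val this
    · intro h
      rw [show y = 1 from Subtype.ext h, orderOf_one] at hy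
      omega
  have hcentral_d : d ∈ Subgroup.center G → D = {d} := fun h =>
    Set.eq_singleton_iff_unique_mem.2 ⟨hd, fun e he =>
      hD.eq_of_commute hodd he hd (Subgroup.mem_center_iff.1 h e)⟩
  by_cases hN : ∃ N : Subgroup G, N.Normal ∧ Odd (Nat.card N) ∧ N ≠ ⊥
  · obtain ⟨N, hNn, hNo, hNb⟩ := hN
    have hNd : ∀ e ∈ D, e ∉ N := by
      intro e he heN
      have h1 := N.orderOf_dvd_natCard heN
      rw [orderOf_eq_prime (by rw [pow_two]; exact hD.sq e he) (hD.ne e he)] at h1
      exact (Nat.not_even_iff_odd.2 hNo) (even_iff_two_dvd.2 h1)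
    set K := (pCore p (G ⧸ N)).comap (QuotientGroup.mk' N)
    haveI : Fact p.Prime := ⟨hp⟩
    have hprod := products_mem_comap ih hD N hNb hNd
    have hKodd : Odd (Nat.card K) := by
      rw [card_comap_quotient]
      obtain ⟨n, hn⟩ := (Cores.pCore_isPGroup (G := G ⧸ N) p).exists_card_eq
      rw [hn]
      exact hNo.mul hodd.pow
    have hset : D = (fun g => g * d * g⁻¹) '' (K : Set G) := by
      ext e
      constructor
      · intro he
        obtain ⟨j, hj⟩ := hD.exists_pow_conj hodd hd he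
        exact ⟨_, K.pow_mem (hprod d hd e he) j, hj⟩
      · rintro ⟨g, -, rfl⟩
        exact hD.conj g d hd
    refine ⟨((Subgroup.centralizer ({d} : Set G)).relIndex K).primeFactorsList.length, ?_⟩
    rw [hset, ncard_conj_orbit]
    refine Nat.eq_prime_pow_of_unique_prime_dvd Subgroup.index_ne_zero_of_finite fun {q} hq hdvd => ?_
    by_contra hqp
    haveI : Fact q.Prime := ⟨hq⟩
    obtain ⟨Q, hQ⟩ := Cfsg.Agent.Lib.Coprime.exists_invariant_sylow (A := Subgroup.zpowers d)
      (K := K) (Subgroup.le_normalizer_of_normal)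
      (by rw [Nat.card_zpowers, hdord]; exact Nat.coprime_two_left.2 hKodd)
      (Or.inl (Cfsg.Agent.Lib.Coprime.isSolvable_zpowers d)) q
    have hQc : (Q : Subgroup K) ≤ (Subgroup.centralizer ({d} : Set G)).subgroupOf K := by
      intro x hx
      rw [Subgroup.mem_subgroupOf, Subgroup.mem_centralizer_singleton_iff]
      exact ((hD.commute_of_normalizes hp hq hqp (Q.isPGroup'.map K.subtype) hd
        (hQ (Subgroup.mem_zpowers d))) _ ⟨x, hx, rfl⟩).symm.eq
    exact Q.not_dvd_index (hdvd.trans (Subgroup.index_dvd_of_le hQc))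
  push Not at hN
  exfalso
  haveI : Fact (Nat.Prime 2) := ⟨Nat.prime_two⟩
  rcases Cfsg.Agent.Lib.PGroups.isCyclic_or_quaternion (G := (T : Subgroup G)) T.isPGroup' (fun x y hx hy =>
      ⟨1, (zpow_one x).trans (Subtype.ext ((inv_eq_d x hx).trans (inv_eq_d y hy).symm))⟩)
    with hcyc | ⟨-, n, hn, ⟨e⟩⟩
  · have hmin : (Nat.card G).minFac = 2 := by
      rw [Nat.minFac_eq_two_iff]
      rw [← hdord]; exact orderOf_dvd_natCard d
    have hcomp := hcyc.isComplement' hmin
    set N := (MonoidHom.transferSylow T (hcyc.normalizer_le_centralizer hmin)).ker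
    have hNo : Odd (Nat.card N) :=
      Nat.odd_iff.2 (Nat.two_dvd_ne_zero.1
        (MonoidHom.not_dvd_card_ker_transferSylow T (hcyc.normalizer_le_centralizer hmin)))
    have hTtop : (T : Subgroup G) = ⊤ := by
      rw [hN N inferInstance hNo] at hcomp
      exact Subgroup.isComplement'_bot_left.1 hcomp
    have hdc : d ∈ Subgroup.center G := Subgroup.mem_center_iff.2 fun g =>
      (hTC g (hTtop ▸ Subgroup.mem_top g)).symm
    exact hcen d (hD.sq d hd) (hD.ne d hd) hdc
  · obtain ⟨m, rfl⟩ : ∃ m, n = m + 1 := ⟨n - 1, by omega⟩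
    have hc := hBS G T m e hN
    obtain ⟨t, ht⟩ : ∃ t : Subgroup.center G, t ≠ 1 := by
      by_contra hh
      push Not at hh
      haveI : Subsingleton (Subgroup.center G) := ⟨fun a b => (hh a).trans (hh b).symm⟩
      rw [Nat.card_unique] at hc
      omega
    have ht2 : (t : G) * t = 1 := by
      have := pow_card_eq_one' (x := t)
      rw [hc, pow_two] at this
      simpa using congrArg Subtype.val this
    exact hcen t ht2 (fun h => ht (Subtype.ext h)) t.2

include hp hp2 ih hD hgen hcore in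
theorem contradiction_of_pow {d : G} (hd : d ∈ D) {c : G} (hc : c ∈ D) (hcd : c ≠ d) {k : ℕ}
    (hk : D.ncard = p ^ k) : False := by
  haveI : Fact p.Prime := ⟨hp⟩
  have hodd := hp.odd_of_ne_two hp2
  have hdn : ∀ {R : Subgroup G}, (∀ x ∈ R, d * x * d⁻¹ ∈ R) →
      d ∈ Subgroup.normalizer (R : Set G) := by
    intro R h
    rw [Subgroup.mem_normalizer_iff]
    refine fun x => ⟨h x, fun hx => ?_⟩
    have h2 := h _ hx
    rwa [hD.inv_self hd, show d * (d * x * d) * d = (d * d) * x * (d * d) by simp only [mul_assoc],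
      hD.sq d hd, one_mul, mul_one] at h2
  have hx0 : IsPGroup p (Subgroup.zpowers (d * c)) ∧
      d ∈ Subgroup.normalizer ((Subgroup.zpowers (d * c) : Subgroup G) : Set G) := by
    obtain ⟨i, hi⟩ := hD.prod d hd c hc
    refine ⟨?_, hdn ?_⟩
    · intro y
      obtain ⟨z, hz⟩ := y.2
      refine ⟨i, Subtype.ext ?_⟩
      rw [SubmonoidClass.coe_pow, ← hz]
      show ((d * c) ^ z) ^ p ^ i = 1
      rw [← zpow_natCast ((d * c) ^ z), ← zpow_mul, mul_comm, zpow_mul, zpow_natCast, hi, one_zpow]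
    · rintro _ ⟨z, rfl⟩
      refine ⟨-z, ?_⟩
      show (d * c) ^ (-z) = d * (d * c) ^ z * d⁻¹
      rw [← conj_zpow, zpow_neg, ← inv_zpow]
      congr 1
      rw [mul_inv_rev, hD.inv_self hd, hD.inv_self hc, ← mul_assoc, hD.sq d hd, one_mul]
  obtain ⟨R, hxR, ⟨hR, hRd⟩, hmax⟩ := Finite.exists_le_maximal
    (p := fun R : Subgroup G => IsPGroup p R ∧ d ∈ Subgroup.normalizer (R : Set G)) hx0
  have hRne : R ≠ ⊥ := by
    intro h
    have := hxR (Subgroup.mem_zpowers (d * c))
    rw [h, Subgroup.mem_bot] at this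
    exact hcd ((eq_inv_of_mul_eq_one_left this).trans (hD.inv_self hc)).symm
  set M := Subgroup.normalizer (R : Set G) with hMdef
  have hM : M ≠ ⊤ := by
    intro h
    haveI := Subgroup.normalizer_eq_top_iff.1 h
    have := Cores.le_pCore (N := R) hR
    rw [hcore] at this
    exact hRne (le_bot_iff.1 this)
  obtain ⟨P, hPM, hP, hPn, hprod⟩ := products_mem_of_ne_top ih hD hM
  have hPR : P ≤ R := by
    refine le_sup_right.trans (hmax ⟨IsPGroup.to_sup_of_normal_left' hR hP hPM, ?_⟩ le_sup_left)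
    have hd' : Subgroup.zpowers d ≤ Subgroup.normalizer ((R ⊔ P : Subgroup G) : Set G) :=
      Cfsg.Agent.Lib.Coprime.le_normalizer_sup (Subgroup.zpowers_le.2 hRd)
        (Subgroup.zpowers_le.2 (hPn hRd))
    exact hd' (Subgroup.mem_zpowers d)
  set C := M ⊓ Subgroup.centralizer ({d} : Set G) with hCdef
  obtain ⟨S⟩ : Nonempty (Sylow p C) := inferInstance
  have hSR : (S : Subgroup C).map C.subtype ≤ R := by
    have hSC : (S : Subgroup C).map C.subtype ≤ C := Subgroup.map_subtype_le _
    refine le_sup_right.trans (hmax ⟨IsPGroup.to_sup_of_normal_left' hR (S.isPGroup'.map _)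
      (hSC.trans inf_le_left), ?_⟩ le_sup_left)
    have hd' : Subgroup.zpowers d ≤ Subgroup.normalizer
        ((R ⊔ (S : Subgroup C).map C.subtype : Subgroup G) : Set G) := by
      refine Cfsg.Agent.Lib.Coprime.le_normalizer_sup (Subgroup.zpowers_le.2 hRd)
        (Subgroup.zpowers_le.2 (hdn fun x hx => ?_))
      have : Commute d x := (Subgroup.mem_centralizer_singleton_iff.1 (hSC hx).2 : _ = _).symm
      rw [this.eq, mul_inv_cancel_right]
      exact hx
    exact hd' (Subgroup.mem_zpowers d)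
  have hRM : R ≤ M := Subgroup.le_normalizer
  have hndvd : ¬ p ∣ R.relIndex M := by
    have h1 : R.relIndex M = R.relIndex C := by
      symm
      refine Nat.card_congr (Equiv.ofBijective
        (Quotient.map' (fun x : C => (⟨(x : G), x.2.1⟩ : M)) fun x y h => ?_) ⟨?_, ?_⟩)
      · rw [QuotientGroup.leftRel_apply] at h ⊢
        exact h
      · intro x y
        induction x using Quotient.inductionOn' with
        | h x =>
          induction y using Quotient.inductionOn' with
          | h y =>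
            intro e
            exact Quotient.sound' (QuotientGroup.leftRel_apply.2
              (QuotientGroup.leftRel_apply.1 (Quotient.exact' e) : _))
      · intro y
        induction y using Quotient.inductionOn' with
        | h y =>
          have hyd : (y : G) * d * (y : G)⁻¹ ∈ M := M.mul_mem (M.mul_mem y.2 hRd) (M.inv_mem y.2)
          obtain ⟨j, hj⟩ := hD.exists_pow_conj hodd hd (hD.conj (y : G) d hd)
          set u := (d * ((y : G) * d * (y : G)⁻¹)) ^ j
          have hu : u ∈ R := R.pow_mem (hPR (hprod d hd hRd _ (hD.conj _ d hd) hyd)) j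
          have hcM : u⁻¹ * (y : G) ∈ M := M.mul_mem (M.inv_mem (hRM hu)) y.2
          have hcC : u⁻¹ * (y : G) ∈ C := by
            refine ⟨hcM, Subgroup.mem_centralizer_singleton_iff.2 ?_⟩
            calc (u⁻¹ * (y : G)) * d = u⁻¹ * ((y : G) * d * (y : G)⁻¹) * y := by group
              _ = d * (u⁻¹ * (y : G)) := by rw [← hj]; group
          refine ⟨Quotient.mk'' ⟨u⁻¹ * (y : G), hcC⟩, Quotient.sound' ?_⟩
          rw [QuotientGroup.leftRel_apply, Subgroup.mem_subgroupOf]
          show (u⁻¹ * (y : G))⁻¹ * (y : G) ∈ R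
          have := (Subgroup.mem_normalizer_iff.1 (M.inv_mem y.2) u).1 hu
          convert this using 1
          group
    rw [h1]
    intro h
    refine S.not_dvd_index (h.trans (Subgroup.index_dvd_of_le fun x hx => ?_))
    exact hSR ⟨x, hx, rfl⟩
  obtain ⟨n, hn⟩ := hR.exists_card_eq
  have hsyl : ¬ p ^ (n + 1) ∣ Nat.card G := fun h =>
    hndvd (Sylow.prime_dvd_card_quotient_normalizer h hn)
  set Cd := Subgroup.centralizer ({d} : Set G) with hCd
  have hDset : D = (fun g => g * d * g⁻¹) '' ((⊤ : Subgroup G) : Set G) := by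
    ext e
    constructor
    · intro he
      obtain ⟨j, hj⟩ := hD.exists_pow_conj hodd hd he
      exact ⟨_, trivial, hj⟩
    · rintro ⟨g, -, rfl⟩
      exact hD.conj g d hd
  have hidx : Cd.index = p ^ k := by
    rw [← hk, hDset, ncard_conj_orbit, Subgroup.relIndex_top_right]
  have horb : (fun g => g * d * g⁻¹) '' (R : Set G) = D := by
    refine Set.eq_of_subset_of_ncard_le ?_ ?_ (Set.toFinite _)
    · rintro _ ⟨g, -, rfl⟩; exact hD.conj g d hd
    rw [hk, ncard_conj_orbit]
    obtain ⟨i, hi⟩ := (hR.to_le (inf_le_right : Cd ⊓ R ≤ R)).exists_card_eq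
    have h1 := (Cd.subgroupOf R).card_mul_index
    rw [show Nat.card (Cd.subgroupOf R) = Nat.card ↥(Cd ⊓ R) from by
      rw [← Subgroup.inf_subgroupOf_right]
      exact Nat.card_congr (Subgroup.subgroupOfEquivOfLe inf_le_right).toEquiv, hn, hi] at h1
    have h2 : p ^ (i + k) ∣ Nat.card G := by
      rw [← Cd.card_mul_index, hidx, pow_add, ← hi]
      exact mul_dvd_mul_right (Subgroup.card_dvd_of_le inf_le_left) _
    have h3 : i + k ≤ n := by
      by_contra h
      exact hsyl ((pow_dvd_pow p (by omega)).trans h2)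
    refine Nat.le_of_mul_le_mul_left ?_ (pow_pos hp.pos i)
    show p ^ i * p ^ k ≤ p ^ i * Cd.relIndex R
    rw [Subgroup.relIndex, h1, ← pow_add]
    exact Nat.pow_le_pow_right hp.pos h3
  have hdR : ∀ e ∈ D, d * e ∈ R := by
    intro e he
    rw [← horb] at he
    obtain ⟨u, hu, rfl⟩ := he
    have h1 : d * u * d⁻¹ ∈ R := (Subgroup.mem_normalizer_iff.1 hRd u).1 hu
    have h2 := R.mul_mem h1 (R.inv_mem hu)
    convert h2 using 1
    rw [hD.inv_self hd]; simp only [mul_assoc]
  apply hM
  rw [eq_top_iff, ← hgen, Subgroup.closure_le]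
  intro e he
  have h1 : e = d * (d * e) := by rw [← mul_assoc, hD.sq d hd, one_mul]
  rw [h1]
  exact M.mul_mem hRd (hRM (hdR e he))

end main

theorem mul_mem_pCore_aux (hp : p.Prime) (hp2 : p ≠ 2) (hBS : QuaternionCentre.{u}) :
    ∀ n, SmallerHolds.{u} p n := by
  haveI : Fact p.Prime := ⟨hp⟩
  intro n
  induction n with
  | zero => intro H _ _ E h; exact absurd h (Nat.not_lt_zero _)
  | succ n ihn =>
    intro G _ _ D hcard hD a ha b hb
    rcases (Nat.lt_succ_iff_lt_or_eq.1 hcard) with hlt | heq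
    · exact ihn G D hlt hD a ha b hb
    subst heq
    have hodd := hp.odd_of_ne_two hp2
    by_cases hab : a = b
    · rw [hab, hD.sq b hb]; exact one_mem _
    by_cases hgen : Subgroup.closure D = ⊤
    swap
    · haveI := closure_normal hD.conj
      have hlt : Nat.card (Subgroup.closure D) < Nat.card G := card_lt_of_ne_top hgen
      have h := ihn _ _ hlt (hD.comap _) ⟨a, Subgroup.subset_closure ha⟩ ha
        ⟨b, Subgroup.subset_closure hb⟩ hb
      have := Cores.le_pCore (N := (pCore p (Subgroup.closure D)).map (Subgroup.closure D).subtype)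
        (hN := Cores.normal_map_subtype _ _) ((Cores.pCore_isPGroup p).map _)
      exact this ⟨_, h, rfl⟩
    by_contra hnot
    by_cases hcore : pCore p G = ⊥
    swap
    · have hne : ∀ e ∈ D, e ∉ pCore p G := by
        intro e he hmem
        obtain ⟨i, hi⟩ := Cores.pCore_isPGroup p ⟨e, hmem⟩
        have hi' : e ^ p ^ i = 1 := by simpa [Subtype.ext_iff] using hi
        have h1 := pow_gcd_eq_one.2 ⟨(pow_two e).trans (hD.sq e he), hi'⟩
        rw [show Nat.gcd 2 (p ^ i) = 1 from Nat.Coprime.pow_right i hodd.coprime_two_left,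
          pow_one] at h1
        exact hD.ne e he h1
      have h := products_mem_comap ihn hD _ hcore hne a ha b hb
      rw [Subgroup.mem_comap, Cores.pCore_quotient_pCore, Subgroup.mem_bot] at h
      exact hnot ((QuotientGroup.eq_one_iff _).1 h)
    have hcen : ∀ t : G, t * t = 1 → t ≠ 1 → t ∈ Subgroup.center G → False := by
      intro t ht ht1 htc
      set N := Subgroup.zpowers t
      haveI : N.Normal := by
        constructor
        intro x hx g
        obtain ⟨z, rfl⟩ := hx
        have : g * t ^ z * g⁻¹ = t ^ z := by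
          rw [← conj_zpow]; congr 1
          rw [Subgroup.mem_center_iff.1 htc g, mul_inv_cancel_right]
        rw [this]; exact ⟨z, rfl⟩
      have hcardN : Nat.card N = 2 := by
        rw [Nat.card_zpowers]
        exact orderOf_eq_prime (by rw [pow_two]; exact ht) ht1
      have hNc : N ≤ Subgroup.center G := Subgroup.zpowers_le.2 htc
      have hne : ∀ e ∈ D, e ∉ N := fun e he h =>
        hab (((hD.eq_of_commute hodd ha he (Subgroup.mem_center_iff.1 (hNc h) a))).trans
          (hD.eq_of_commute hodd hb he (Subgroup.mem_center_iff.1 (hNc h) b)).symm)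
      have hNb : N ≠ ⊥ := fun h => by rw [h, Subgroup.card_bot] at hcardN; omega
      have hK := products_mem_comap ihn hD N hNb hne a ha b hb
      set K := (pCore p (G ⧸ N)).comap (QuotientGroup.mk' N) with hKdef
      obtain ⟨i, hi⟩ := (Cores.pCore_isPGroup (G := G ⧸ N) p).exists_card_eq
      have hKcard : Nat.card K = 2 * p ^ i := by rw [card_comap_quotient, hcardN, hi]
      obtain ⟨P⟩ : Nonempty (Sylow p K) := inferInstance
      have hPi : (P : Subgroup K).index ∣ 2 := by
        have h1 : (P : Subgroup K).index ∣ 2 * p ^ i := hKcard ▸ Subgroup.index_dvd_card _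
        exact (Nat.Coprime.pow_right i
          (((Nat.Prime.coprime_iff_not_dvd hp).2 P.not_dvd_index).symm)).dvd_of_dvd_mul_right h1
      have hPn : (P : Subgroup K).Normal := by
        rcases (Nat.dvd_prime Nat.prime_two).1 hPi with h | h
        · rw [Subgroup.index_eq_one.1 h]; infer_instance
        · exact Subgroup.normal_of_index_eq_two h
      haveI := Sylow.characteristic_of_normal P hPn
      have hle := Cores.le_pCore (N := (P : Subgroup K).map K.subtype)
        (hN := Cores.normal_map_subtype _ _) (P.isPGroup'.map _)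
      rw [hcore, le_bot_iff, Subgroup.map_eq_bot_iff_of_injective _ K.subtype_injective] at hle
      have hK2 : Nat.card K ∣ 2 := by
        have := (P : Subgroup K).card_mul_index
        rw [hle, Subgroup.card_bot, one_mul] at this
        rwa [hle, this] at hPi
      have hsq : (a * b) ^ 2 = 1 :=
        orderOf_dvd_iff_pow_eq_one.1 ((K.orderOf_dvd_natCard hK).trans hK2)
      exact hab (hD.eq_of_sq_mul hodd ha hb hsq)
    obtain ⟨k, hk⟩ : ∃ k, D.ncard = p ^ k := by
      by_cases ht : ∃ t : G, t * t = 1 ∧ t ≠ 1 ∧ Commute t a ∧ t ≠ a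
      · obtain ⟨t, h1, h2, h3, h4⟩ := ht
        exact ncard_eq_pow_of_involution hp hp2 ihn hD hcen ha h1 h2 h3 h4
      · push Not at ht
        exact ncard_eq_pow_of_unique hp hp2 ihn hD hgen hBS hcen ha ht
    exact contradiction_of_pow hp hp2 ihn hD hgen hcore ha hb (Ne.symm hab) hk

theorem mul_mem_pCore_of_isOddTrans (hp : p.Prime) (hp2 : p ≠ 2) (hBS : QuaternionCentre.{u})
    (hD : IsOddTrans p D) {a b : G} (ha : a ∈ D) (hb : b ∈ D) : a * b ∈ pCore p G :=
  mul_mem_pCore_aux hp hp2 hBS (Nat.card G + 1) G D (Nat.lt_succ_self _) hD a ha b hb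

theorem mul_mem_pCore_conjugates (hp : p.Prime) (hp2 : p ≠ 2) (hBS : QuaternionCentre.{u})
    (d : G) (hd : orderOf d = 2)
    (hprod : ∀ a ∈ conjugatesOf d, ∀ b ∈ conjugatesOf d, ∃ k : ℕ, orderOf (a * b) = p ^ k) :
    ∀ a ∈ conjugatesOf d, ∀ b ∈ conjugatesOf d, a * b ∈ pCore p G := by
  have hord : ∀ a ∈ conjugatesOf d, orderOf a = 2 := by
    intro a ha
    obtain ⟨g, rfl⟩ := isConj_iff.1 ha
    show orderOf (MulAut.conj g d) = 2
    rw [MulEquiv.orderOf_eq, hd]
  have hD : IsOddTrans p (conjugatesOf d) :=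
    { sq := fun a ha => by
        have h := pow_orderOf_eq_one a
        rwa [hord a ha, pow_two] at h
      ne := fun a ha h => by
        have := hord a ha
        rw [h, orderOf_one] at this
        omega
      conj := fun g a ha => IsConj.trans ha (isConj_iff.2 ⟨g, rfl⟩)
      prod := fun a ha b hb => by
        obtain ⟨k, hk⟩ := hprod a ha b hb
        exact ⟨k, hk ▸ pow_orderOf_eq_one _⟩ }
  exact fun a ha b hb => mul_mem_pCore_of_isOddTrans hp hp2 hBS hD ha hb

end Cfsg.Agent.Lib.ThreeTranspositions
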