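import Cfsg.Agent.S0201
import Cfsg.Agent.Lib.ThreeTranspositions.OddMain

/-!
The Brauer–Suzuki theorem in the form used by the 3-transposition library.
-/
set_option autoImplicit false

universe u

namespace Cfsg.Agent.Lib.ThreeTranspositions

/-- The Brauer–Suzuki theorem. -/
theorem quaternionCentre : QuaternionCentre.{u} :=
  fun _ _ _ S n e hO => Cfsg.Agent.S0201.result S n e hO

end Cfsg.Agent.Lib.ThreeTranspositions
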