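import Cfsg.Agent.Lib.ThreeTranspositions.Blocks
import Cfsg.Agent.Lib.ThreeTranspositions.OddMain

/-!
Width one and the `W`-blocks, given the Brauer–Suzuki theorem.
-/
set_option autoImplicit false

open Cfsg

namespace Cfsg.Agent.Lib.ThreeTranspositions

universe u

variable {G : Type u} [Group G] {D : Set G} {a b d v w : G}

theorem isOddTrans_of_width_one (hD : IsClosedSet D)
    (hw : ∀ a ∈ D, ∀ b ∈ D, Commute a b → a = b) : IsOddTrans 3 D where
  sq _ h := mul_self hD.1 h
  ne _ h := ne_one hD.1 h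
  conj := hD.2
  prod a ha b hb := by
    by_cases h : Commute a b
    · exact ⟨0, by rw [pow_zero, pow_one, hw a ha b hb h, mul_self hD.1 hb]⟩
    · exact ⟨1, by rw [pow_one]; exact cube_eq_one hD.1 ha hb h⟩

variable [Finite G]

theorem width_one_mul_mem (hBS : QuaternionCentre.{u}) (hD : IsClosedSet D)
    (hw : ∀ a ∈ D, ∀ b ∈ D, Commute a b → a = b) (ha : a ∈ D) (hb : b ∈ D) :
    a * b ∈ pCore 3 G :=
  mul_mem_pCore_of_isOddTrans Nat.prime_three (by norm_num) hBS (isOddTrans_of_width_one hD hw) ha hb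

theorem wPart_isPGroup (hBS : QuaternionCentre.{u}) (hD : IsClosedSet D) (ha : a ∈ D) :
    IsPGroup 3 (blockPart (wSet D) a) := by
  have hR := isBlockSystem_wSet hD
  set H := Subgroup.closure (wSet D a) with hH
  have hfix : ∀ g : G, g ∈ H → ∀ b ∈ wSet D a, g * b * g⁻¹ ∈ wSet D a := by
    intro g hg
    induction hg using Subgroup.closure_induction with
    | mem c hc =>
      intro b hb
      have h1 := hR.conj c b (hR.sub a ha hb) c (by rw [hR.eq_of_mem a ha b hb]; exact hc)
      rw [mul_inv_cancel_right] at h1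
      have h2 := hR.eq_of_mem _ (hD.2 c b (hR.sub a ha hb)) c h1
      rw [hR.eq_of_mem a ha c hc] at h2
      rw [h2]
      exact hR.self_mem _ (hD.2 c b (hR.sub a ha hb))
    | one => intro b hb; simpa using hb
    | mul x y _ _ hx hy =>
      intro b hb
      have := hx _ (hy b hb)
      convert this using 1
      group
    | inv x _ hx =>
      intro b hb
      have hinj : Set.InjOn (fun c => x * c * x⁻¹) (wSet D a) := fun c _ c' _ h => conj_injective h
      have himg : (fun c => x * c * x⁻¹) '' wSet D a = wSet D a :=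
        Set.eq_of_subset_of_ncard_le (by rintro _ ⟨c, hc, rfl⟩; exact hx c hc)
          (le_of_eq (Set.ncard_image_of_injOn hinj).symm) (Set.toFinite _)
      rw [← himg] at hb
      obtain ⟨c, hc, rfl⟩ := hb
      convert hc using 1
      group
  set E : Set H := {x | (x : G) ∈ wSet D a}
  have hE : IsClosedSet E := by
    refine ⟨⟨fun x hx => ?_, fun x hx y hy => ?_⟩, fun g x hx => ?_⟩
    · rw [← Subgroup.orderOf_coe]; exact hD.1.1 _ hx.1
    · rcases hD.1.2 _ hx.1 _ hy.1 with h | h
      · exact Or.inl (Subtype.ext (by simpa using h))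
      · exact Or.inr (Subtype.ext (by simpa using h))
    · simpa [E] using hfix g g.2 _ hx
  have hw : ∀ x ∈ E, ∀ y ∈ E, Commute x y → x = y := by
    intro x hx y hy h
    by_contra hne
    have hyx : (y : G) ∈ wSet D (x : G) := by rw [hR.eq_of_mem a ha _ hx]; exact hy
    exact not_commute_of_mem_wSet hx.1 hyx (fun h' => hne (Subtype.ext h').symm)
      (h.symm.map H.subtype)
  have hle : blockPart (wSet D) a ≤ (pCore 3 H).map H.subtype := by
    rw [blockPart, Subgroup.closure_le]
    rintro _ ⟨b, hb, c, hc, rfl⟩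
    exact ⟨⟨b, Subgroup.subset_closure hb⟩ * ⟨c, Subgroup.subset_closure hc⟩,
      width_one_mul_mem hBS hE hw hb hc, rfl⟩
  exact ((Cores.pCore_isPGroup 3).map _).to_le hle

theorem mul_mem_pCore_three (hBS : QuaternionCentre.{u}) (hD : IsClosedSet D) (hd : d ∈ D)
    (hw : w ∈ wSet D d) : w * d ∈ pCore 3 G := by
  have hR := isBlockSystem_wSet hD
  haveI := blockKer_normal hD hR
  haveI : Fact (Nat.Prime 3) := ⟨Nat.prime_three⟩
  exact Cores.le_pCore (blockKer_isPGroup hD hR fun a ha => wPart_isPGroup hBS hD ha)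
    (Subgroup.subset_closure ⟨d, hd, w, hw, rfl⟩)

theorem mem_wSet_of_mem_pGroup (hD : IsClosedSet D) {N : Subgroup G} [N.Normal]
    (hN : IsPGroup 3 N) (hd : d ∈ D) (hv : v ∈ D) (hmem : d⁻¹ * v ∈ N) : v ∈ wSet D d := by
  have hS := hD.1
  have tiny : ∀ p q, p ∈ D → q ∈ D → Commute p q → p * q ∈ N → p = q := by
    intro p q hp hq hc hm
    obtain ⟨k, hk⟩ := hN ⟨_, hm⟩
    have hk' : (p * q) ^ 3 ^ k = 1 := by simpa [Subtype.ext_iff] using hk
    have h := pow_gcd_eq_one.2 ⟨sq_eq_one_of_commute (mul_self hS hp) (mul_self hS hq) hc, hk'⟩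
    rw [show Nat.gcd 2 (3 ^ k) = 1 from Nat.Coprime.pow_right k (by norm_num), pow_one] at h
    rw [eq_inv_of_mul_eq_one_left h, inv_eq hS hq]
  have main : ∀ p q, p ∈ D → q ∈ D → p⁻¹ * q ∈ N → ∀ y ∈ D, y ≠ p → Commute p y →
      y ≠ q ∧ Commute q y := by
    intro p q hp hq hpq y hy hne hpy
    rw [inv_eq hS hp] at hpq
    refine ⟨fun h => hne ?_, ?_⟩
    · subst h
      exact (tiny p y hp hy hpy hpq).symm
    by_contra hn
    set π := QuotientGroup.mk' N
    have h1 : π p = π q := QuotientGroup.eq.2 (by rw [inv_eq hS hp]; exact hpq)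
    have h2 : π ((q * y) ^ 2) = 1 := by
      rw [map_pow, map_mul, ← h1, ← map_mul, ← map_pow,
        sq_eq_one_of_commute (mul_self hS hp) (mul_self hS hy) hpy, map_one]
    have h3 : π ((q * y) ^ 3) = 1 := by rw [cube_eq_one hS hq hy hn, map_one]
    have h4 : π (q * y) = 1 := by
      rw [pow_succ, map_mul, h2, one_mul] at h3
      exact h3
    have h5 : p * y ∈ N := by
      rw [← QuotientGroup.eq_one_iff]
      show π (p * y) = 1
      rw [map_mul, h1, ← map_mul, h4]
    exact hne (tiny p y hp hy hpy h5).symm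
  rw [mem_wSet_iff]
  refine ⟨hv, fun y hy => ⟨fun h => main d v hd hv hmem y hy h.1 h.2, fun h => ?_⟩⟩
  refine main v d hv hd ?_ y hy h.1 h.2
  have := N.inv_mem hmem
  rwa [mul_inv_rev, inv_inv] at this

theorem exists_pCore_three_conj (hBS : QuaternionCentre.{u}) (hD : IsClosedSet D) (hd : d ∈ D)
    (hw : w ∈ wSet D d) : ∃ g ∈ pCore 3 G, g * d * g⁻¹ = w := by
  by_cases hne : w = d
  · exact ⟨1, one_mem _, by rw [hne]; group⟩
  refine ⟨d * w, ?_, ?_⟩
  · have h := inv_mem (mul_mem_pCore_three hBS hD hd hw)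
    rwa [mul_inv_rev, inv_eq hD.1 hd, inv_eq hD.1 hw.1] at h
  have hc := not_commute_of_mem_wSet hd hw hne
  rw [mul_inv_rev, inv_eq hD.1 hd, inv_eq hD.1 hw.1]
  calc d * w * d * (w * d) = d * (w * d * w) * d := by simp only [mul_assoc]
    _ = d * (d * w * d) * d := by rw [braid hD.1 hw.1 hd hc]
    _ = (d * d) * w * (d * d) := by simp only [mul_assoc]
    _ = w := by rw [mul_self hD.1 hd]; simp

end Cfsg.Agent.Lib.ThreeTranspositions
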