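import Cfsg.Agent.Lib.ThreeTranspositions.Basic

/-!
The plane of two commuting 3-transpositions and a third one commuting with neither:
a homomorphism from the symmetric group of degree four.
-/
set_option autoImplicit false

open Cfsg

namespace Cfsg.Agent.Lib.ThreeTranspositions

def s4Gen : Fin 3 → Equiv.Perm (Fin 4) := ![Equiv.swap 0 1, Equiv.swap 1 2, Equiv.swap 2 3]

def s4Word : Fin 24 → List (Fin 3) :=
  ![[], [2], [2, 1], [2, 1, 0], [1], [1, 2],
    [1, 2, 1], [1, 2, 1, 0], [1, 0], [1, 0, 2], [1, 0, 2, 1], [1, 0, 2, 1, 0],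
    [0], [0, 2], [0, 2, 1], [0, 2, 1, 0], [0, 1], [0, 1, 2],
    [0, 1, 2, 1], [0, 1, 2, 1, 0], [0, 1, 0], [0, 1, 0, 2], [0, 1, 0, 2, 1], [0, 1, 0, 2, 1, 0]]

def s4Next : Fin 24 → Fin 3 → Fin 24 :=
  ![![12, 4, 1], ![13, 2, 0], ![3, 1, 6], ![2, 15, 7], ![8, 0, 5], ![9, 6, 4],
    ![7, 5, 2], ![6, 11, 3], ![4, 20, 9], ![5, 10, 8], ![11, 9, 22], ![10, 7, 23],
    ![0, 16, 13], ![1, 14, 12], ![15, 13, 18], ![14, 3, 19], ![20, 12, 17], ![21, 18, 16],
    ![19, 17, 14], ![18, 23, 15], ![16, 8, 21], ![17, 22, 20], ![23, 21, 10], ![22, 19, 11]]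

def s4Perm (k : Fin 24) : Equiv.Perm (Fin 4) := ((s4Word k).map s4Gen).prod

theorem s4Perm_bijective : Function.Bijective s4Perm := by
  have h : Function.Injective s4Perm := by unfold Function.Injective; decide +kernel
  exact (Fintype.bijective_iff_injective_and_card _).2
    ⟨h, by rw [Fintype.card_fin, Fintype.card_perm, Fintype.card_fin]; rfl⟩

theorem s4Perm_next : ∀ (k : Fin 24) (i : Fin 3), s4Perm (s4Next k i) = s4Perm k * s4Gen i := by
  decide +kernel

noncomputable def s4Equiv : Fin 24 ≃ Equiv.Perm (Fin 4) := Equiv.ofBijective _ s4Perm_bijective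

variable {M : Type*} [Group M]

def s4Eval (a b c : M) (w : List (Fin 3)) : M := (w.map ![a, b, c]).prod

/-- Evaluation of the normal form. -/
noncomputable def s4Fun (a b c : M) (σ : Equiv.Perm (Fin 4)) : M :=
  s4Eval a b c (s4Word (s4Equiv.symm σ))

theorem s4Eval_next {a b c : M} (ha : a * a = 1) (hb : b * b = 1) (hc : c * c = 1)
    (hac : Commute a c) (hab : a * b * a = b * a * b) (hbc : b * c * b = c * b * c) :
    ∀ (k : Fin 24) (i : Fin 3),
      s4Eval a b c (s4Word (s4Next k i)) = s4Eval a b c (s4Word k) * ![a, b, c] i := by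
  have ha' : ∀ x, a * (a * x) = x := fun x => by rw [← mul_assoc, ha, one_mul]
  have hb' : ∀ x, b * (b * x) = x := fun x => by rw [← mul_assoc, hb, one_mul]
  have hc' : ∀ x, c * (c * x) = x := fun x => by rw [← mul_assoc, hc, one_mul]
  have hca : c * a = a * c := hac.eq.symm
  have hca' : ∀ x, c * (a * x) = a * (c * x) := fun x => by rw [← mul_assoc, hca, mul_assoc]
  have hba : b * (a * b) = a * (b * a) := by rw [← mul_assoc, ← hab, mul_assoc]
  have hba' : ∀ x, b * (a * (b * x)) = a * (b * (a * x)) := fun x => by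
    rw [← mul_assoc, ← mul_assoc, ← hab, mul_assoc, mul_assoc]
  have hcb : c * (b * c) = b * (c * b) := by rw [← mul_assoc, ← hbc, mul_assoc]
  have hcb' : ∀ x, c * (b * (c * x)) = b * (c * (b * x)) := fun x => by
    rw [← mul_assoc, ← mul_assoc, ← hbc, mul_assoc, mul_assoc]
  have h4 : c * (b * (a * c)) = b * (c * (b * a)) := by
    rw [← hca, hcb']
  have h4' : ∀ x, c * (b * (a * (c * x))) = b * (c * (b * (a * x))) := fun x => by
    rw [← hca', hcb']
  intro k i
  fin_cases k <;> fin_cases i <;>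
    simp [s4Eval, s4Word, s4Next, mul_assoc, ha, hb, hc, ha', hb', hc', hca, hca', hba, hba',
      hcb, hcb', h4, h4']

/-- The homomorphism from `S₄` attached to three involutions with the Coxeter relations. -/
noncomputable def s4Hom {a b c : M} (ha : a * a = 1) (hb : b * b = 1) (hc : c * c = 1)
    (hac : Commute a c) (hab : a * b * a = b * a * b) (hbc : b * c * b = c * b * c) :
    Equiv.Perm (Fin 4) →* M :=
  MonoidHom.mk' (s4Fun a b c) (by
    have step : ∀ σ i, s4Fun a b c (σ * s4Gen i) = s4Fun a b c σ * ![a, b, c] i := by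
      intro σ i
      obtain ⟨k, rfl⟩ := s4Equiv.surjective σ
      have : s4Equiv k * s4Gen i = s4Equiv (s4Next k i) := (s4Perm_next k i).symm
      simp only [s4Fun, this, Equiv.symm_apply_apply]
      exact s4Eval_next ha hb hc hac hab hbc k i
    have steps : ∀ (w : List (Fin 3)) σ,
        s4Fun a b c (σ * (w.map s4Gen).prod) = s4Fun a b c σ * s4Eval a b c w := by
      intro w
      induction w with
      | nil => intro σ; simp [s4Eval]
      | cons i w ih =>
        intro σ
        rw [List.map_cons, List.prod_cons, ← mul_assoc, ih, step]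
        simp [s4Eval, mul_assoc]
    intro σ τ
    obtain ⟨k, rfl⟩ := s4Equiv.surjective τ
    rw [show (s4Equiv k : Equiv.Perm (Fin 4)) = ((s4Word k).map s4Gen).prod from rfl, steps]
    congr 1
    simp only [s4Fun]
    rw [show ((s4Word k).map s4Gen).prod = s4Equiv k from rfl, Equiv.symm_apply_apply])

variable {a b c : M} (ha : a * a = 1) (hb : b * b = 1) (hc : c * c = 1)
    (hac : Commute a c) (hab : a * b * a = b * a * b) (hbc : b * c * b = c * b * c)

include ha hb hc hac hab hbc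

theorem s4Hom_gen (i : Fin 3) : s4Hom ha hb hc hac hab hbc (s4Gen i) = ![a, b, c] i := by
  have h0 : s4Equiv.symm 1 = (0 : Fin 24) := by
    rw [Equiv.symm_apply_eq]; rfl
  have h1 := s4Eval_next ha hb hc hac hab hbc 0 i
  have h2 : s4Equiv (s4Next 0 i) = s4Gen i := by
    show s4Perm _ = _
    rw [s4Perm_next]; exact one_mul _
  show s4Eval a b c (s4Word (s4Equiv.symm (s4Gen i))) = _
  rw [← h2, Equiv.symm_apply_apply, h1]
  simp [s4Word, s4Eval]

theorem s4Hom_injective (hne : a ≠ c) :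
    Function.Injective (s4Hom ha hb hc hac hab hbc) := by
  set f := s4Hom ha hb hc hac hab hbc
  have hf : f (Equiv.swap 0 1 * Equiv.swap 2 3) ≠ 1 := by
    rw [map_mul]
    have e0 := s4Hom_gen ha hb hc hac hab hbc 0
    have e2 := s4Hom_gen ha hb hc hac hab hbc 2
    simp only [s4Gen, Matrix.cons_val_zero, Matrix.cons_val_two] at e0 e2
    rw [show f (Equiv.swap 0 1) = a from e0, show f (Equiv.swap 2 3) = c from e2]
    intro h
    exact hne ((eq_inv_of_mul_eq_one_left h).trans (inv_eq_of_mul_eq_one_left hc))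
  rw [← MonoidHom.ker_eq_bot_iff, Subgroup.eq_bot_iff_forall]
  intro x hx
  by_contra hx1
  apply hf
  have hn : ∀ g : Equiv.Perm (Fin 4), f (g * x * g⁻¹) = 1 := fun g => by
    rw [map_mul, map_mul, MonoidHom.mem_ker.1 hx, mul_one, ← map_mul, mul_inv_cancel, map_one]
  have key : ∀ x : Equiv.Perm (Fin 4), x ≠ 1 → ∃ g g' : Equiv.Perm (Fin 4),
      g * x * g⁻¹ = Equiv.swap 0 1 * Equiv.swap 2 3 ∨
      (g * x * g⁻¹) * (g' * x * g'⁻¹) = Equiv.swap 0 1 * Equiv.swap 2 3 ∨
      (g * x * g⁻¹) * (g' * x * g'⁻¹)⁻¹ = Equiv.swap 0 1 * Equiv.swap 2 3 := by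
    decide +kernel
  obtain ⟨g, g', h | h | h⟩ := key x hx1
  · rw [← h]; exact hn g
  · rw [← h, map_mul, hn, hn, one_mul]
  · rw [← h, map_mul, map_inv, hn, hn, one_mul, inv_one]

end Cfsg.Agent.Lib.ThreeTranspositions
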