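import Cfsg.Agent.Lib.ThreeTranspositions.Primitive
import Cfsg.Agent.Lib.RankThree.Main

/-!
Primitive groups of 3-transpositions of width at least two: the component, connectedness and the
maximality of the subgroup generated by the transpositions commuting with one of them.
-/
set_option autoImplicit false

open Cfsg
open Cfsg.Agent.Lib.RankThree (IsModule ModulesTrivial comSet eq_of_comSet orb_com)

namespace Cfsg.Agent.Lib.ThreeTranspositions

universe u

variable {G : Type u} [Group G] {D : Set G} {a b c d : G}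

theorem class_of_primitive (hD : IsThreeTranspositionGroup D) (hprim : IsPrimitiveUnderConj D) :
    IsThreeTranspositionClass D := by
  obtain ⟨htr, ⟨d, hd, -⟩, -⟩ := hprim
  refine ⟨hD.1, ⟨d, hd, Set.ext fun x => ⟨fun hx => ?_, fun hx => ?_⟩⟩, hD.2.2⟩
  · exact isConj_iff.2 (htr d hd x hx)
  · obtain ⟨g, rfl⟩ := isConj_iff.1 hx
    exact hD.2.1 g d hd

/-- An invariant equivalence relation of a primitive class is discrete or universal. -/
theorem primitive_universal (hC : IsClosedSet D) (hprim : IsPrimitiveUnderConj D)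
    {E : G → G → Prop} (hrefl : ∀ x ∈ D, E x x) (hsymm : ∀ {x y}, E x y → E y x)
    (htrans : ∀ {x y z}, E x y → E y z → E x z)
    (hconj : ∀ (g : G) {x y}, E x y → E (g * x * g⁻¹) (g * y * g⁻¹))
    (hb : b ∈ D) (hc : c ∈ D) (hne : b ≠ c) (h : E b c) : ∀ x ∈ D, ∀ y ∈ D, E x y := by
  set B : Set G := {y | y ∈ D ∧ E b y} with hB
  have hblock : ∀ g : G, (fun x => g * x * g⁻¹) '' B = B ∨
      Disjoint ((fun x => g * x * g⁻¹) '' B) B := by
    intro g
    by_cases hd : Disjoint ((fun x => g * x * g⁻¹) '' B) B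
    · exact Or.inr hd
    refine Or.inl ?_
    obtain ⟨z, ⟨y, ⟨hy, hby⟩, rfl⟩, hz, hbz⟩ := Set.not_disjoint_iff.1 hd
    have h1 : E b (g * b * g⁻¹) := htrans hbz (hsymm (hconj g hby))
    ext w
    constructor
    · rintro ⟨u, ⟨hu, hbu⟩, rfl⟩
      exact ⟨hC.2 g u hu, htrans h1 (hconj g hbu)⟩
    · rintro ⟨hw, hbw⟩
      refine ⟨g⁻¹ * w * g⁻¹⁻¹, ⟨hC.2 g⁻¹ w hw, ?_⟩, by group⟩
      have h2 := hconj g⁻¹ (htrans (hsymm h1) hbw)
      rwa [show g⁻¹ * (g * b * g⁻¹) * g⁻¹⁻¹ = b by group] at h2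
  rcases hprim.2.2 B (fun _ h => h.1) hblock with hs | hBD
  · exact absurd (hs ⟨hb, hrefl b hb⟩ ⟨hc, h⟩) hne
  · intro x hx y hy
    rw [← hBD] at hx hy
    exact htrans (hsymm hx.2) hy.2

theorem modulesTrivial_of_primitive (hC : IsClosedSet D) (hprim : IsPrimitiveUnderConj D) :
    ModulesTrivial D := fun hE _ _ hb hc hne h =>
  primitive_universal hC hprim (fun x _ => hE.refl x) hE.symm hE.trans hE.conj hb hc hne h

theorem eq_of_mem_block (hC : IsClosedSet D) (hprim : IsPrimitiveUnderConj D) {R : G → Set G}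
    (hR : IsBlockSystem D R) (hne : ∃ p ∈ D, ∃ q ∈ D, q ∉ R p) (hd : d ∈ D) (hv : b ∈ R d) :
    b = d := by
  by_contra hbd
  obtain ⟨p, hp, q, hq, hpq⟩ := hne
  have hbD := hR.sub d hd hv
  let E : G → G → Prop := fun x y => (x ∈ D ∧ y ∈ R x) ∨ x = y
  have hsymm : ∀ {x y}, E x y → E y x := by
    rintro x y (⟨hx, hy⟩ | rfl)
    · exact Or.inl ⟨hR.sub x hx hy, by rw [hR.eq_of_mem x hx y hy]; exact hR.self_mem x hx⟩
    · exact Or.inr rfl
  have htrans : ∀ {x y z}, E x y → E y z → E x z := by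
    rintro x y z (⟨hx, hy⟩ | rfl) h
    · rcases h with ⟨hyD, hz⟩ | rfl
      · exact Or.inl ⟨hx, by rwa [hR.eq_of_mem x hx y hy] at hz⟩
      · exact Or.inl ⟨hx, hy⟩
    · exact h
  have hconj : ∀ (g : G) {x y}, E x y → E (g * x * g⁻¹) (g * y * g⁻¹) := by
    rintro g x y (⟨hx, hy⟩ | rfl)
    · exact Or.inl ⟨hC.2 g x hx, hR.conj g x hx y hy⟩
    · exact Or.inr rfl
  rcases primitive_universal hC hprim (E := E) (fun _ _ => Or.inr rfl) hsymm htrans hconj hd hbD
    (Ne.symm hbd) (Or.inl ⟨hd, hv⟩) p hp q hq with ⟨-, h⟩ | h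
  · exact hpq h
  · subst h; exact hpq (hR.self_mem _ hp)

variable [Finite G]

theorem cores_central_of_primitive (hD : IsThreeTranspositionClass D) (hprim : IsPrimitiveUnderConj D)
    (hw : ∃ a ∈ D, ∃ b ∈ D, a ≠ b ∧ Commute a b) :
    pCore 2 G ≤ Subgroup.center G ∧ pCore 3 G ≤ Subgroup.center G := by
  have hC := isClosedSet_of_class hD
  have hD2 := hprim.2.1
  obtain ⟨a, ha, b, hb, hab, hcab⟩ := hw
  have hN : ∀ p, ∀ g ∈ pCore p G, ∀ d : G, d⁻¹ * (g * d * g⁻¹) ∈ pCore p G := by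
    intro p g hg d
    have h2 := mul_mem ((inferInstance : (pCore p G).Normal).conj_mem g hg d⁻¹) (inv_mem hg)
    convert h2 using 1
    group
  constructor
  · by_contra hn
    obtain ⟨g, hg, hne⟩ := exists_pair_of_pCore_not_central hD 2 hn ha
    have hv := mem_vSet_of_mem_pGroup hC (Cores.pCore_isPGroup 2) ha (hC.2 g a ha) (hN 2 g hg a)
    obtain ⟨f, hf, hfa⟩ := exists_not_commute hD hD2 ha
    exact hne (eq_of_mem_block hC hprim (isBlockSystem_vSet hC)
      ⟨a, ha, f, hf, fun h => hfa (commute_of_mem_vSet ha h).symm⟩ ha hv)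
  · by_contra hn
    obtain ⟨g, hg, hne⟩ := exists_pair_of_pCore_not_central hD 3 hn ha
    have hv := mem_wSet_of_mem_pGroup hC (Cores.pCore_isPGroup 3) ha (hC.2 g a ha) (hN 3 g hg a)
    exact hne (eq_of_mem_block hC hprim (isBlockSystem_wSet hC)
      ⟨a, ha, b, hb, fun h => not_commute_of_mem_wSet ha h (Ne.symm hab) hcab.symm⟩ ha hv)

/-- The component: unique and equal to the layer. -/
theorem exists_component (hD : IsThreeTranspositionClass D) (hD2 : ∃ a ∈ D, ∃ b ∈ D, a ≠ b)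
    (h2 : pCore 2 G ≤ Subgroup.center G) (h3 : pCore 3 G ≤ Subgroup.center G) :
    ∃ L : Subgroup G, L.Normal ∧ IsComponent L ∧ layer G = L ∧
      generalizedFittingSubgroup G = L ⊔ Subgroup.center G := by
  obtain ⟨d, hd, -⟩ := id hD2
  obtain ⟨K, hK⟩ : ∃ K : Subgroup G, IsComponent K := by
    rcases trichotomy quaternionCentre hD hD2 with h | h | h
    · exact absurd h2 h.1
    · exact absurd h3 h.2.1
    · exact Components.Layer.layer_ne_bot_iff.1 h.2.2
  have hlay : layer G = K := le_antisymm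
    (sSup_le fun K' hK' => (component_unique hD hd hK' hK).le) (le_sSup hK)
  refine ⟨K, component_normal hD hK, hK, hlay, ?_⟩
  have hF : fittingSubgroup G = Subgroup.center G :=
    le_antisymm (fitting_le_center hD h2 h3) Cores.center_le_fittingSubgroup
  rw [generalizedFittingSubgroup, hlay, hF]

theorem connected_of_primitive (hD : IsThreeTranspositionClass D) (hprim : IsPrimitiveUnderConj D)
    (hw : ∃ a ∈ D, ∃ b ∈ D, a ≠ b ∧ Commute a b) : (commutingGraph D).Connected := by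
  have hC := isClosedSet_of_class hD
  obtain ⟨a, ha, b, hb, hab, hcab⟩ := hw
  let E : G → G → Prop := fun x y => ∃ (hx : x ∈ D) (hy : y ∈ D),
    (commutingGraph D).Reachable ⟨x, hx⟩ ⟨y, hy⟩
  have hconj : ∀ (g : G) {x y}, E x y → E (g * x * g⁻¹) (g * y * g⁻¹) := by
    rintro g x y ⟨hx, hy, h⟩
    refine ⟨hC.2 g x hx, hC.2 g y hy, ?_⟩
    let φ : commutingGraph D →g commutingGraph D :=
      { toFun := fun z => ⟨g * (z : G) * g⁻¹, hC.2 g z z.2⟩
        map_rel' := fun {u v} h => ⟨fun he => h.1 (Subtype.ext (conj_injective (congrArg Subtype.val he))),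
          h.2.imp (fun h => (Commute.conj_iff g).2 h) (fun h => (Commute.conj_iff g).2 h)⟩ }
    exact h.map φ
  have hu := primitive_universal hC hprim (E := E) (fun x hx => ⟨hx, hx, .refl _⟩)
    (fun ⟨hx, hy, h⟩ => ⟨hy, hx, h.symm⟩) (fun ⟨hx, hy, h⟩ ⟨_, hz, h'⟩ => ⟨hx, hz, h.trans h'⟩)
    hconj ha hb hab ⟨ha, hb, SimpleGraph.Adj.reachable ⟨fun he => hab (congrArg Subtype.val he),
      Or.inl hcab⟩⟩
  haveI : Nonempty D := ⟨⟨a, ha⟩⟩
  exact ⟨fun x y => by
    obtain ⟨_, _, h⟩ := hu x x.2 y y.2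
    exact h⟩

/-- One step of non-commutation inside the set of partners of `u`. -/
def AdjCom (D : Set G) (u y z : G) : Prop :=
  y ∈ comSet D u ∧ z ∈ comSet D u ∧ ¬ Commute y z

/-- The members reached from `v` by non-commutation inside the partners of `u`. -/
def reachSet (D : Set G) (u v : G) : Set G := {z | Relation.ReflTransGen (AdjCom D u) v z}

theorem reachSet_conj_subset (hC : IsClosedSet D) (g u v : G) :
    (fun z => g * z * g⁻¹) '' reachSet D u v ⊆ reachSet D (g * u * g⁻¹) (g * v * g⁻¹) := by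
  rintro _ ⟨z, hz, rfl⟩
  induction hz with
  | refl => exact Relation.ReflTransGen.refl
  | @tail y z _ h ih =>
    refine Relation.ReflTransGen.tail ih ⟨?_, ?_, fun hc => h.2.2 ((Commute.conj_iff g).1 hc)⟩
    · rw [← RankThree.comSet_image hC]; exact ⟨y, h.1, rfl⟩
    · rw [← RankThree.comSet_image hC]; exact ⟨z, h.2.1, rfl⟩

theorem reachSet_ncard (hC : IsClosedSet D) {u v u' v' : G} (h : RankThree.Orb u v u' v') :
    (reachSet D u v).ncard ≤ (reachSet D u' v').ncard := by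
  obtain ⟨g, rfl, rfl⟩ := h
  rw [← Set.ncard_image_of_injective (reachSet D u v) (RankThree.conj_inj' g)]
  exact Set.ncard_le_ncard (reachSet_conj_subset hC g u v) (Set.toFinite _)

theorem closure_commuting_maximal (hD : IsThreeTranspositionClass D) (hprim : IsPrimitiveUnderConj D)
    (hw : ∃ a ∈ D, ∃ b ∈ D, a ≠ b ∧ Commute a b) (hd : d ∈ D) {H : Subgroup G}
    (hH : IsDSubgroup D H) (hMH : Subgroup.closure {y : G | y ∈ D ∧ Commute d y} ≤ H) :
    H = Subgroup.closure {y : G | y ∈ D ∧ Commute d y} ∨ H = ⊤ := by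
  have hC := isClosedSet_of_class hD
  have hS := hC.1
  have hwall : ∀ u ∈ D, ∃ b ∈ D, b ≠ u ∧ Commute u b := by
    intro u hu
    obtain ⟨a, ha, b, hb, hab, hcab⟩ := hw
    obtain ⟨g, rfl⟩ := class_exists_conj hD ha hu
    exact ⟨g * b * g⁻¹, hC.2 g b hb, fun h => hab (conj_injective h).symm,
      (Commute.conj_iff g).2 hcab⟩
  by_cases hall : ∀ e ∈ D, e ∈ H → Commute d e
  · refine Or.inl (le_antisymm ?_ hMH)
    rw [← hH, Subgroup.closure_le]
    rintro e ⟨he, heH⟩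
    exact Subgroup.subset_closure ⟨he, hall e he heH⟩
  push Not at hall
  obtain ⟨e, heD, heH, hde⟩ := hall
  refine Or.inr ?_
  have hcomH : ∀ y ∈ D, Commute d y → y ∈ H := fun y hy hc => hMH (Subgroup.subset_closure ⟨hy, hc⟩)
  have hdH : d ∈ H := hcomH d hd (Commute.refl d)
  set E₁ : Set G := {y | ∃ h ∈ H, h * d * h⁻¹ = y} with hE₁
  have hE₁D : E₁ ⊆ D := by rintro _ ⟨h, -, rfl⟩; exact hC.2 h d hd
  have hE₁H : ∀ y ∈ E₁, y ∈ H := by
    rintro _ ⟨h, hh, rfl⟩; exact H.mul_mem (H.mul_mem hh hdH) (H.inv_mem hh)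
  have hdE : d ∈ E₁ := ⟨1, one_mem _, by group⟩
  have hadj : ∀ y ∈ E₁, ∀ z ∈ D, z ∈ H → ¬ Commute y z → z ∈ E₁ := by
    intro y hy z hz hzH hyz
    have hyD := hE₁D hy
    have hyH := hE₁H y hy
    obtain ⟨h, hh, rfl⟩ := hy
    refine ⟨h * d * h⁻¹ * z * h, H.mul_mem (H.mul_mem hyH hzH) hh, ?_⟩
    have hb := braid hS hyD hz hyz
    calc h * d * h⁻¹ * z * h * d * (h * d * h⁻¹ * z * h)⁻¹
        = (h * d * h⁻¹ * z) * (h * d * h⁻¹) * (z⁻¹ * (h * d * h⁻¹)⁻¹) := by group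
      _ = (h * d * h⁻¹ * z * (h * d * h⁻¹)) * (z * (h * d * h⁻¹)) := by
          rw [inv_eq hS hz, inv_eq hS hyD]
      _ = z * (h * d * h⁻¹) * ((z * z) * (h * d * h⁻¹)) := by rw [hb]; simp only [mul_assoc]
      _ = z := by rw [mul_self hS hz, one_mul, mul_assoc, mul_self hS hyD, mul_one]
  have heE : e ∈ E₁ := hadj d hdE e heD heH hde
  by_cases hx : ∃ x ∈ D, Commute d x ∧ x ∉ E₁
  swap
  · push Not at hx
    have hclosed : ∀ y ∈ E₁, ∀ z ∈ D, Commute y z → z ∈ E₁ := by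
      rintro _ ⟨h, hh, rfl⟩ z hz hc
      have h1 : Commute d (h⁻¹ * z * h⁻¹⁻¹) := by
        have := (Commute.conj_iff h⁻¹).2 hc
        rwa [show h⁻¹ * (h * d * h⁻¹) * h⁻¹⁻¹ = d by group] at this
      obtain ⟨k, hk, hkz⟩ := hx _ (hC.2 _ z hz) h1
      exact ⟨h * k, H.mul_mem hh hk, by
        rw [show h * k * d * (h * k)⁻¹ = h * (k * d * k⁻¹) * h⁻¹ by group, hkz]; group⟩
    have hconn := connected_of_primitive hD hprim hw
    rw [eq_top_iff, ← hD.2.2, Subgroup.closure_le]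
    intro z hz
    obtain ⟨w⟩ := hconn.preconnected ⟨d, hd⟩ ⟨z, hz⟩
    suffices h : ∀ {x y : D}, (commutingGraph D).Walk x y → (x : G) ∈ E₁ → (y : G) ∈ E₁ from
      hE₁H z (h w hdE)
    intro x y w
    induction w with
    | nil => exact fun h => h
    | @cons u v _ h _ ih =>
      exact fun hu => ih (hclosed u hu v v.2 (h.2.elim id fun h => h.symm))
  exfalso
  obtain ⟨x, hxD, hdx, hxE⟩ := hx
  have hxH := hcomH x hxD hdx
  have hxcom : ∀ y ∈ E₁, y ∈ comSet D x := fun y hy =>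
    ⟨hE₁D hy, fun h => hxE (h ▸ hy), by
      by_contra hn
      exact hxE (hadj y hy x hxD hxH fun h => hn h.symm)⟩
  have hsub : E₁ ⊆ reachSet D x d := by
    rintro _ ⟨h, hh, rfl⟩
    have hstep : ∀ f ∈ {z : G | z ∈ D ∧ z ∈ H}, ∀ y, y ∈ E₁ ∧ y ∈ reachSet D x d →
        f * y * f⁻¹ ∈ E₁ ∧ f * y * f⁻¹ ∈ reachSet D x d := by
      rintro f ⟨hfD, hfH⟩ y ⟨hyE, hyR⟩
      obtain ⟨k, hk, rfl⟩ := hyE
      have hyE : k * d * k⁻¹ ∈ E₁ := ⟨k, hk, rfl⟩
      have hfyE : f * (k * d * k⁻¹) * f⁻¹ ∈ E₁ := ⟨f * k, H.mul_mem hfH hk, by group⟩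
      refine ⟨hfyE, ?_⟩
      by_cases hc : Commute f (k * d * k⁻¹)
      · rwa [hc.eq, mul_inv_cancel_right]
      · refine Relation.ReflTransGen.tail hyR ⟨hxcom _ hyE, hxcom _ hfyE, ?_⟩
        exact RankThree.adj_conj hC hfD (hE₁D hyE) hc
    have hh' : h ∈ Subgroup.closure {z : G | z ∈ D ∧ z ∈ H} := by rw [hH]; exact hh
    suffices hs : ∀ y, y ∈ E₁ ∧ y ∈ reachSet D x d →
        h * y * h⁻¹ ∈ E₁ ∧ h * y * h⁻¹ ∈ reachSet D x d from
      (hs d ⟨hdE, Relation.ReflTransGen.refl⟩).2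
    clear hh
    induction hh' using Subgroup.closure_induction_left with
    | one => intro y hy; simpa using hy
    | mul_left f hf g _ ih =>
      intro y hy
      have := hstep f hf _ (ih y hy)
      rwa [show f * g * y * (f * g)⁻¹ = f * (g * y * g⁻¹) * f⁻¹ by group]
    | inv_mul_cancel f hf g _ ih =>
      intro y hy
      rw [inv_eq hS hf.1]
      have := hstep f hf _ (ih y hy)
      rwa [show f * g * y * (f * g)⁻¹ = f * (g * y * g⁻¹) * f⁻¹ by group]
  obtain ⟨a, haE, had, hda⟩ : ∃ a ∈ E₁, a ≠ d ∧ Commute d a := by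
    by_contra hno
    push Not at hno
    have hsubC : comSet D d ⊆ comSet D e := by
      rintro y ⟨hy, hyd, hdy⟩
      have hyE : y ∉ E₁ := fun h => hno y h hyd hdy
      refine ⟨hy, fun h => hde (h ▸ hdy), ?_⟩
      by_contra hn
      exact hyE (hadj e heE y hy (hcomH y hy hdy) hn)
    have h2 := Set.eq_of_subset_of_ncard_le hsubC (RankThree.comSet_ncard hD hd heD).ge
    exact ne_of_not_commute hde
      (eq_of_comSet hD (modulesTrivial_of_primitive hC hprim) hwall hd heD h2)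
  have haD := hE₁D haE
  have hsub2 : reachSet D d a ⊆ E₁ \ {d} := by
    intro z hz
    induction hz with
    | refl => exact ⟨haE, had⟩
    | @tail y z _ h ih =>
      exact ⟨hadj y ih.1 z h.2.1.1 (hcomH z h.2.1.1 h.2.1.2.2) h.2.2, h.2.1.2.1⟩
  have horb : RankThree.Orb x d d a := orb_com hD (modulesTrivial_of_primitive hC hprim) hwall
    x hxD d hd d hd a haD (fun h => hxE (h ▸ hdE)) had hdx.symm hda
  have hlt : (E₁ \ {d}).ncard < E₁.ncard := Set.ncard_sdiff_singleton_lt_of_mem hdE (Set.toFinite _)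
  have h1 := Set.ncard_le_ncard hsub (Set.toFinite _)
  have h2 := Set.ncard_le_ncard hsub2 (Set.toFinite _)
  have h3 := reachSet_ncard hC horb
  omega

theorem closure_commuting_ne_top (hD : IsThreeTranspositionClass D)
    (hD2 : ∃ a ∈ D, ∃ b ∈ D, a ≠ b) (hd : d ∈ D) :
    Subgroup.closure {y : G | y ∈ D ∧ Commute d y} ≠ ⊤ := by
  intro h
  refine not_mem_center hD hD2 hd (mem_center_of_commute_gen h fun e he => he.2)

end Cfsg.Agent.Lib.ThreeTranspositions
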