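import Cfsg.Agent.Lib.ThreeTranspositions.Sylow
import Cfsg.Agent.Lib.ThreeTranspositions.Plane
import Cfsg.Agent.Lib.Cores.Basic

/-!
The two equivalence relations on a conjugation invariant set of 3-transpositions: same commuting
members (`vSet`), and same commuting partners (`wSet`).
-/
set_option autoImplicit false

open Cfsg

namespace Cfsg.Agent.Lib.ThreeTranspositions

variable {G : Type*} [Group G] {D : Set G} {a b c d e f h v w x : G}

/-- The members with the same commuting set as `d`. -/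
def vSet (D : Set G) (d : G) : Set G := {v : G | v ∈ D ∧ ∀ e ∈ D, Commute v e ↔ Commute d e}

/-- The members with the same commuting partners as `d`. -/
def wSet (D : Set G) (d : G) : Set G :=
  {w : G | w ∈ D ∧ {y : G | y ∈ D ∧ y ≠ d ∧ Commute d y} = {y : G | y ∈ D ∧ y ≠ w ∧ Commute w y}}

theorem mem_wSet_iff : w ∈ wSet D d ↔
    w ∈ D ∧ ∀ y ∈ D, (y ≠ d ∧ Commute d y ↔ y ≠ w ∧ Commute w y) := by
  refine ⟨fun ⟨hw, he⟩ => ⟨hw, fun y hy => ?_⟩, fun ⟨hw, he⟩ => ⟨hw, ?_⟩⟩
  · exact ⟨fun h => ((Set.ext_iff.1 he y).1 ⟨hy, h⟩).2, fun h => ((Set.ext_iff.1 he y).2 ⟨hy, h⟩).2⟩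
  · ext y
    exact ⟨fun h => ⟨h.1, (he y h.1).1 h.2⟩, fun h => ⟨h.1, (he y h.1).2 h.2⟩⟩

theorem self_mem_vSet (hd : d ∈ D) : d ∈ vSet D d := ⟨hd, fun _ _ => Iff.rfl⟩

theorem self_mem_wSet (hd : d ∈ D) : d ∈ wSet D d := ⟨hd, rfl⟩

theorem vSet_eq_of_mem (hv : v ∈ vSet D d) : vSet D v = vSet D d := by
  ext u
  exact ⟨fun hu => ⟨hu.1, fun y hy => (hu.2 y hy).trans (hv.2 y hy)⟩,
    fun hu => ⟨hu.1, fun y hy => (hu.2 y hy).trans (hv.2 y hy).symm⟩⟩

theorem wSet_eq_of_mem (hw : w ∈ wSet D d) : wSet D w = wSet D d := by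
  ext u
  exact ⟨fun hu => ⟨hu.1, hw.2.trans hu.2⟩, fun hu => ⟨hu.1, hw.2.symm.trans hu.2⟩⟩

theorem mem_vSet_symm (hd : d ∈ D) (hv : v ∈ vSet D d) : d ∈ vSet D v := by
  rw [vSet_eq_of_mem hv]; exact self_mem_vSet hd

theorem mem_wSet_symm (hd : d ∈ D) (hw : w ∈ wSet D d) : d ∈ wSet D w := by
  rw [wSet_eq_of_mem hw]; exact self_mem_wSet hd

theorem commute_of_mem_vSet (hd : d ∈ D) (hv : v ∈ vSet D d) : Commute v d :=
  (hv.2 d hd).2 (Commute.refl d)

theorem not_commute_of_mem_wSet (hd : d ∈ D) (hw : w ∈ wSet D d) (hne : w ≠ d) :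
    ¬ Commute w d := fun h =>
  ((mem_wSet_iff.1 hw).2 d hd |>.2 ⟨hne.symm, h⟩).1 rfl

theorem conj_conj_inv (g y : G) : g * (g⁻¹ * y * g⁻¹⁻¹) * g⁻¹ = y := by group

theorem conj_mem_vSet (hD : IsClosedSet D) (g : G) (hv : v ∈ vSet D d) :
    g * v * g⁻¹ ∈ vSet D (g * d * g⁻¹) := by
  refine ⟨hD.2 g v hv.1, fun y hy => ?_⟩
  have h := hv.2 _ (hD.2 g⁻¹ y hy)
  rw [← Commute.conj_iff g (a := v), ← Commute.conj_iff g (a := d), conj_conj_inv] at h
  exact h

theorem conj_mem_wSet (hD : IsClosedSet D) (g : G) (hw : w ∈ wSet D d) :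
    g * w * g⁻¹ ∈ wSet D (g * d * g⁻¹) := by
  rw [mem_wSet_iff] at hw ⊢
  refine ⟨hD.2 g w hw.1, fun y hy => ?_⟩
  have h := hw.2 _ (hD.2 g⁻¹ y hy)
  rw [← Commute.conj_iff g (a := w), ← Commute.conj_iff g (a := d), conj_conj_inv] at h
  have e : ∀ u, g⁻¹ * y * g⁻¹⁻¹ ≠ u ↔ y ≠ g * u * g⁻¹ := fun u => by
    constructor
    · intro h1 h2; apply h1; rw [h2]; group
    · intro h1 h2; apply h1; rw [← h2]; group
  rwa [e, e] at h

/-- In the plane of `v, f, h` with `f, h` commuting, the point opposite to `v` commutes with `v`. -/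
theorem commute_opposite (hff : f * f = 1) (hvv : v * v = 1) (hfv : f * v * f = v * f * v)
    (hhv : h * v * h = v * h * v) (hfh : Commute f h) : Commute v (f * (h * v * h) * f) := by
  have e1 : f * (h * v * h) * f = f * v * h * v * f := by rw [hhv]; simp only [mul_assoc]
  have e2 : v * (f * v * h * v * f) * v = f * v * h * v * f := by
    calc v * (f * v * h * v * f) * v
        = (v * f * v) * h * (v * f * v) := by simp only [mul_assoc]
      _ = (f * v * f) * h * (f * v * f) := by rw [hfv]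
      _ = f * v * (f * h * f) * v * f := by simp only [mul_assoc]
      _ = f * v * h * v * f := by rw [hfh.eq, mul_assoc h, hff, mul_one]
  rw [e1]
  show v * _ = _ * v
  calc v * (f * v * h * v * f) = v * (f * v * h * v * f) * (v * v) := by rw [hvv, mul_one]
    _ = (v * (f * v * h * v * f) * v) * v := by simp only [mul_assoc]
    _ = f * v * h * v * f * v := by rw [e2]

theorem commute_conj_self_iff (hd : d * d = 1) : Commute (d * x * d) (d * b * d) ↔ Commute x b := by
  have : d⁻¹ = d := inv_eq_of_mul_eq_one_left hd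
  conv_lhs => rw [show d * x * d = d * x * d⁻¹ by rw [this],
    show d * b * d = d * b * d⁻¹ by rw [this]]
  exact Commute.conj_iff d

theorem flip_commute (hd : d * d = 1) : Commute x (d * b * d) ↔ Commute (d * x * d) b := by
  have h2 : ∀ y, d * (d * y * d) * d = y := fun y => by
    rw [show d * (d * y * d) * d = (d * d) * y * (d * d) by simp only [mul_assoc], hd]; simp
  rw [← commute_conj_self_iff hd (x := d * x * d) (b := b), h2]

/-- The product of two members of a `V`-block preserves commuting with any member. -/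
theorem commute_vConj (hD : IsClosedSet D) (hd : d ∈ D) (hv : v ∈ vSet D d) (hf : f ∈ D)
    (hh : h ∈ D) (hhf : Commute h f) : Commute h ((v * d) * f * (v * d)⁻¹) := by
  have hS := hD.1
  have hvd : Commute v d := commute_of_mem_vSet hd hv
  have hvD : v ∈ D := hv.1
  have hform : (v * d) * f * (v * d)⁻¹ = v * (d * f * d) * v := by
    rw [mul_inv_rev, inv_eq hS hd, inv_eq hS hvD]; simp only [mul_assoc]
  by_cases hfd : Commute d f
  · have hfv : Commute v f := (hv.2 f hf).2 hfd
    have : (v * d) * f * (v * d)⁻¹ = f := by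
      rw [(hfv.mul_left hfd).eq, mul_inv_cancel_right]
    rwa [this]
  by_cases hhd : Commute d h
  · have hhv : Commute v h := (hv.2 h hh).2 hhd
    have h1 : (v * d) * h * (v * d)⁻¹ = h := by
      rw [(hhv.mul_left hhd).eq, mul_inv_cancel_right]
    have := (Commute.conj_iff (v * d)).2 hhf
    rwa [h1] at this
  have hhv : ¬ Commute v h := fun h' => hhd ((hv.2 h hh).1 h')
  have hfv : ¬ Commute v f := fun h' => hfd ((hv.2 f hf).1 h')
  rw [hform, flip_commute (mul_self hS hvD), braid hS hd hf hfd, braid hS hvD hh hhv,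
    flip_commute (mul_self hS hf)]
  have hgD : f * (h * v * h) * f ∈ D := third_mem hD hf (third_mem hD hh hvD)
  have hgv := commute_opposite (mul_self hS hf) (mul_self hS hvD)
    (braid hS hf hvD (not_commute_symm hfv)) (braid hS hh hvD (not_commute_symm hhv)) hhf.symm
  exact ((hv.2 _ hgD).1 hgv).symm

theorem vConj_mem (hD : IsClosedSet D) (hd : d ∈ D) (hv : v ∈ vSet D d) (hf : f ∈ D) :
    (v * d) * f * (v * d)⁻¹ ∈ vSet D f := by
  refine ⟨hD.2 _ f hf, fun y hy => ?_⟩
  refine ⟨fun h => ?_, fun h => (commute_vConj hD hd hv hf hy h.symm).symm⟩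
  have h2 := commute_vConj hD hd hv (hD.2 (v * d) f hf) hy h.symm
  have hxx : (v * d) * (v * d) = 1 := by
    rw [← pow_two]
    exact sq_eq_one_of_commute (mul_self hD.1 hv.1) (mul_self hD.1 hd) (commute_of_mem_vSet hd hv)
  have h3 : (v * d) * ((v * d) * f * (v * d)⁻¹) * (v * d)⁻¹ = f := by
    rw [inv_eq_of_mul_eq_one_left hxx,
      show (v * d) * ((v * d) * f * (v * d)) * (v * d)
        = ((v * d) * (v * d)) * f * ((v * d) * (v * d)) by simp only [mul_assoc], hxx]
    simp
  rw [h3] at h2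
  exact h2.symm

/-- The product of two members of a `W`-block preserves commuting partners. -/
theorem commute_wConj (hD : IsClosedSet D) (hd : d ∈ D) (hw : w ∈ wSet D d) (hf : f ∈ D)
    (hh : h ∈ D) (hhne : h ≠ f) (hhf : Commute h f) :
    h ≠ (d * w) * f * (d * w)⁻¹ ∧ Commute h ((d * w) * f * (d * w)⁻¹) := by
  have hS := hD.1
  have hwD : w ∈ D := hw.1
  by_cases hwd : w = d
  · subst hwd
    rw [mul_self hS hd]
    simpa using ⟨hhne, hhf⟩
  have hW := (mem_wSet_iff.1 hw).2
  have hdw : ¬ Commute w d := not_commute_of_mem_wSet hd hw hwd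
  have fixes : ∀ u, Commute d u → Commute w u → (d * w) * u * (d * w)⁻¹ = u := fun u h1 h2 => by
    rw [(h1.mul_left h2).eq, mul_inv_cancel_right]
  by_cases hfd : f ≠ d ∧ Commute d f
  · have := fixes f hfd.2 ((hW f hf).1 hfd).2
    rw [this]; exact ⟨hhne, hhf⟩
  by_cases hhd : h ≠ d ∧ Commute d h
  · have hx := fixes h hhd.2 ((hW h hh).1 hhd).2
    have hc := (Commute.conj_iff (d * w)).2 hhf
    rw [hx] at hc
    refine ⟨fun he => hhne ?_, hc⟩
    exact conj_injective (x := d * w) (hx.trans he)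
  have hfd' : ¬ Commute d f := by
    intro hc
    by_cases h1 : f = d
    · subst h1; exact hhd ⟨hhne, hhf.symm⟩
    · exact hfd ⟨h1, hc⟩
  have hhd' : ¬ Commute d h := by
    intro hc
    by_cases h1 : h = d
    · subst h1; exact hfd' hhf
    · exact hhd ⟨h1, hc⟩
  have hfw : ¬ Commute w f := by
    intro hc
    by_cases h1 : f = w
    · subst h1; exact hhd' ((hW h hh).2 ⟨hhne, hhf.symm⟩).2
    · exact hfd' ((hW f hf).2 ⟨h1, hc⟩).2
  have hform : (d * w) * f * (d * w)⁻¹ = d * (w * f * w) * d := by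
    rw [mul_inv_rev, inv_eq hS hd, inv_eq hS hwD]; simp only [mul_assoc]
  have hgD : f * (h * d * h) * f ∈ D := third_mem hD hf (third_mem hD hh hd)
  have hgd := commute_opposite (mul_self hS hf) (mul_self hS hd)
    (braid hS hf hd (not_commute_symm hfd')) (braid hS hh hd (not_commute_symm hhd')) hhf.symm
  have hgne : f * (h * d * h) * f ≠ d := by
    intro he
    have h1 : h * d * h = f * d * f := by
      calc h * d * h = (f * f) * (h * d * h) * (f * f) := by rw [mul_self hS hf]; simp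
        _ = f * (f * (h * d * h) * f) * f := by simp only [mul_assoc]
        _ = f * d * f := by rw [he]
    rw [braid hS hh hd (not_commute_symm hhd'), braid hS hf hd (not_commute_symm hfd')] at h1
    exact hhne (mul_left_cancel (mul_right_cancel h1))
  have hgw := (hW _ hgD).1 ⟨hgne, hgd⟩
  refine ⟨fun he => hgw.1 ?_, ?_⟩
  · have h1 : d * h * d = f * w * f := by
      rw [he, hform, braid hS hwD hf hfw]
      calc d * (d * (f * w * f) * d) * d = (d * d) * (f * w * f) * (d * d) := by
            simp only [mul_assoc]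
        _ = f * w * f := by rw [mul_self hS hd]; simp
    rw [braid hS hd hh hhd'] at h1
    calc f * (h * d * h) * f = f * (f * w * f) * f := by rw [h1]
      _ = (f * f) * w * (f * f) := by simp only [mul_assoc]
      _ = w := by rw [mul_self hS hf]; simp
  · rw [hform, flip_commute (mul_self hS hd), braid hS hwD hf hfw, braid hS hd hh hhd',
      flip_commute (mul_self hS hf)]
    exact hgw.2.symm

theorem wConj_mem (hD : IsClosedSet D) (hd : d ∈ D) (hw : w ∈ wSet D d) (hf : f ∈ D) :
    (d * w) * f * (d * w)⁻¹ ∈ wSet D f := by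
  rw [mem_wSet_iff]
  refine ⟨hD.2 _ f hf, fun y hy => ⟨fun h => ?_, fun h => ?_⟩⟩
  · exact ⟨(commute_wConj hD hd hw hf hy h.1 h.2.symm).1,
      (commute_wConj hD hd hw hf hy h.1 h.2.symm).2.symm⟩
  · have h2 := commute_wConj hD hw.1 (mem_wSet_symm hd hw) (hD.2 (d * w) f hf) hy h.1 h.2.symm
    have h3 : (w * d) * ((d * w) * f * (d * w)⁻¹) * (w * d)⁻¹ = f := by
      have e : w * d * (d * w) = 1 := by
        rw [show w * d * (d * w) = w * (d * d) * w by simp only [mul_assoc], mul_self hD.1 hd,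
          mul_one, mul_self hD.1 hw.1]
      have e' : w * d = (d * w)⁻¹ := eq_inv_of_mul_eq_one_left e
      rw [e']; group
    rw [h3] at h2
    exact ⟨h2.1, h2.2.symm⟩

/-- The subgroup generated by the products of two members of one block. -/
def blockKer (D : Set G) (R : G → Set G) : Subgroup G :=
  Subgroup.closure {x : G | ∃ a ∈ D, ∃ b ∈ R a, x = b * a}

/-- The products within one block. -/
def blockPart (R : G → Set G) (a : G) : Subgroup G :=
  Subgroup.closure {x : G | ∃ b ∈ R a, ∃ c ∈ R a, x = b * c}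

/-- A conjugation invariant partition of `D`. -/
structure IsBlockSystem (D : Set G) (R : G → Set G) : Prop where
  self_mem : ∀ a ∈ D, a ∈ R a
  sub : ∀ a ∈ D, R a ⊆ D
  eq_of_mem : ∀ a ∈ D, ∀ b ∈ R a, R b = R a
  conj : ∀ g : G, ∀ a ∈ D, ∀ b ∈ R a, g * b * g⁻¹ ∈ R (g * a * g⁻¹)
  fixed : ∀ a ∈ D, ∀ b ∈ R a, ∀ f ∈ D, (b * a) * f * (b * a)⁻¹ ∈ R f

theorem isBlockSystem_vSet (hD : IsClosedSet D) : IsBlockSystem D (vSet D) :=
  ⟨fun _ ha => self_mem_vSet ha, fun _ _ _ h => h.1, fun _ _ _ hb => vSet_eq_of_mem hb,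
    fun g _ _ _ hb => conj_mem_vSet hD g hb, fun _ ha _ hb _ hf => vConj_mem hD ha hb hf⟩

theorem isBlockSystem_wSet (hD : IsClosedSet D) : IsBlockSystem D (wSet D) :=
  ⟨fun _ ha => self_mem_wSet ha, fun _ _ _ h => h.1, fun _ _ _ hb => wSet_eq_of_mem hb,
    fun g _ _ _ hb => conj_mem_wSet hD g hb, fun _ ha _ hb _ hf =>
      wConj_mem hD hb.1 (mem_wSet_symm ha hb) hf⟩

variable {R : G → Set G}

theorem blockKer_normal (hD : IsClosedSet D) (hR : IsBlockSystem D R) :
    (blockKer D R).Normal := by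
  apply closure_normal
  rintro g _ ⟨a, ha, b, hb, rfl⟩
  exact ⟨_, hD.2 g a ha, _, hR.conj g a ha b hb, by group⟩

theorem blockKer_fixes (hD : IsClosedSet D) (hR : IsBlockSystem D R) {k : G}
    (hk : k ∈ blockKer D R) : ∀ f ∈ D, k * f * k⁻¹ ∈ R f := by
  induction hk using Subgroup.closure_induction with
  | mem y hy =>
    obtain ⟨a, ha, b, hb, rfl⟩ := hy
    exact fun f hf => hR.fixed a ha b hb f hf
  | one => intro f hf; simpa using hR.self_mem f hf
  | mul y z _ _ hy hz =>
    intro f hf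
    have h1 := hR.conj y f hf _ (hz f hf)
    rw [hR.eq_of_mem f hf _ (hy f hf)] at h1
    convert h1 using 1
    group
  | inv y _ hy =>
    intro f hf
    have h1 := hy _ (hD.2 y⁻¹ f hf)
    have h2 : y * (y⁻¹ * f * y⁻¹⁻¹) * y⁻¹ = f := by group
    rw [h2] at h1
    rw [hR.eq_of_mem _ (hD.2 y⁻¹ f hf) _ h1]
    exact hR.self_mem _ (hD.2 y⁻¹ f hf)

theorem blockPart_le (hR : IsBlockSystem D R) (ha : a ∈ D) : blockPart R a ≤ blockKer D R := by
  rw [blockPart, Subgroup.closure_le]
  rintro _ ⟨b, hb, c, hc, rfl⟩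
  refine Subgroup.subset_closure ⟨c, hR.sub a ha hc, b, ?_, rfl⟩
  rwa [hR.eq_of_mem a ha c hc]

/-- If each block part is a `p`-group then so is the kernel. -/
theorem blockKer_isPGroup [Finite G] {p : ℕ} [Fact p.Prime] (hD : IsClosedSet D)
    (hR : IsBlockSystem D R) (h : ∀ a ∈ D, IsPGroup p (blockPart R a)) :
    IsPGroup p (blockKer D R) := by
  set E := blockKer D R
  obtain ⟨P⟩ : Nonempty (Sylow p E) := inferInstance
  have hmem : ∀ y (hy : y ∈ E), (⟨y, hy⟩ : E) ∈ (P : Subgroup E) := by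
    intro y hy
    induction hy using Subgroup.closure_induction with
    | mem y hy =>
      obtain ⟨a, ha, b, hb, rfl⟩ := hy
      have hle := blockPart_le hR ha
      haveI : ((blockPart R a).subgroupOf E).Normal := by
        constructor
        intro n hn g
        rw [Subgroup.mem_subgroupOf] at hn ⊢
        have key : ∀ y ∈ blockPart R a, (g : G) * y * (g : G)⁻¹ ∈ blockPart R a := by
          intro y hy
          induction hy using Subgroup.closure_induction with
          | mem y hy =>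
            obtain ⟨b, hb, c, hc, rfl⟩ := hy
            refine Subgroup.subset_closure ⟨(g : G) * b * (g : G)⁻¹, ?_,
              (g : G) * c * (g : G)⁻¹, ?_, by group⟩
            · have := blockKer_fixes hD hR g.2 b (hR.sub a ha hb)
              rwa [hR.eq_of_mem a ha b hb] at this
            · have := blockKer_fixes hD hR g.2 c (hR.sub a ha hc)
              rwa [hR.eq_of_mem a ha c hc] at this
          | one => simp
          | mul y z _ _ hy hz =>
            have := Subgroup.mul_mem _ hy hz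
            convert this using 1
            group
          | inv y _ hy =>
            have := Subgroup.inv_mem _ hy
            convert this using 1
            group
        simpa using key _ hn
      have hp : IsPGroup p ((blockPart R a).subgroupOf E) :=
        (h a ha).of_equiv (Subgroup.subgroupOfEquivOfLe hle).symm
      exact hp.le_sylow_of_normal P
        (Subgroup.mem_subgroupOf.2 (Subgroup.subset_closure ⟨b, hb, a, hR.self_mem a ha, rfl⟩))
    | one => exact P.one_mem
    | mul y z hy hz iy iz => exact P.mul_mem iy iz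
    | inv y hy iy => exact P.inv_mem iy
  intro y
  obtain ⟨k, hk⟩ := P.isPGroup' ⟨y, hmem y.1 y.2⟩
  exact ⟨k, by simpa [Subtype.ext_iff] using hk⟩

theorem vPart_isPGroup (hD : IsClosedSet D) (ha : a ∈ D) :
    IsPGroup 2 (blockPart (vSet D) a) := by
  have hc : ∀ x ∈ vSet D a, ∀ y ∈ vSet D a, Commute x y := fun x hx y hy =>
    (hx.2 y hy.1).2 (commute_of_mem_vSet ha hy).symm
  have key : ∀ y ∈ blockPart (vSet D) a, y * y = 1 ∧ ∀ z ∈ vSet D a, Commute y z := by
    intro y hy
    induction hy using Subgroup.closure_induction with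
    | mem y hy =>
      obtain ⟨b, hb, c, hc', rfl⟩ := hy
      refine ⟨?_, fun z hz => (hc b hb z hz).mul_left (hc c hc' z hz)⟩
      rw [← pow_two]
      exact sq_eq_one_of_commute (mul_self hD.1 hb.1) (mul_self hD.1 hc'.1) (hc b hb c hc')
    | one => exact ⟨mul_one 1, fun z _ => Commute.one_left z⟩
    | mul y z hy _ iy iz =>
      refine ⟨?_, fun u hu => (iy.2 u hu).mul_left (iz.2 u hu)⟩
      have hyz : Commute z y := by
        have : y ∈ Subgroup.centralizer ({z} : Set G) := by
          refine (Subgroup.closure_le _).2 ?_ hy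
          rintro _ ⟨b, hb, c, hc', rfl⟩
          exact Subgroup.mem_centralizer_singleton_iff.2
            ((iz.2 b hb).mul_right (iz.2 c hc')).symm.eq
        exact (Subgroup.mem_centralizer_singleton_iff.1 this).symm
      calc y * z * (y * z) = y * (z * y) * z := by simp only [mul_assoc]
        _ = (y * y) * (z * z) := by rw [hyz.eq]; simp only [mul_assoc]
        _ = 1 := by rw [iy.1, iz.1, one_mul]
    | inv y _ iy => exact ⟨by rw [← mul_inv_rev, iy.1, inv_one], fun z hz => (iy.2 z hz).inv_left⟩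
  exact fun y => ⟨1, Subtype.ext (by simpa [pow_two] using (key y.1 y.2).1)⟩

/-- Products of two members of a `V`-block lie in `O₂(G)`. -/
theorem mul_mem_pCore_two [Finite G] (hD : IsClosedSet D) (hd : d ∈ D) (hv : v ∈ vSet D d) :
    v * d ∈ pCore 2 G := by
  have hR := isBlockSystem_vSet hD
  haveI := blockKer_normal hD hR
  haveI : Fact (Nat.Prime 2) := ⟨Nat.prime_two⟩
  exact Cfsg.Agent.Lib.Cores.le_pCore (blockKer_isPGroup hD hR fun a ha => vPart_isPGroup hD ha)
    (Subgroup.subset_closure ⟨d, hd, v, hv, rfl⟩)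

/-- Members of `D` congruent modulo a normal `2`-group lie in one `V`-block. -/
theorem mem_vSet_of_mem_pGroup (hD : IsClosedSet D) {N : Subgroup G} [N.Normal]
    (hN : IsPGroup 2 N) (hd : d ∈ D) (hv : v ∈ D) (hmem : d⁻¹ * v ∈ N) : v ∈ vSet D d := by
  have hS := hD.1
  have main : ∀ p q, p ∈ D → q ∈ D → p⁻¹ * q ∈ N → ∀ y ∈ D, Commute p y → Commute q y := by
    intro p q hp hq hpq y hy hpy
    by_contra hn
    apply hn
    set π := QuotientGroup.mk' N
    have h1 : π p = π q := (QuotientGroup.eq.2 hpq)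
    have h2 : π ((q * y) ^ 2) = 1 := by
      rw [map_pow, map_mul, ← h1, ← map_mul, ← map_pow,
        sq_eq_one_of_commute (mul_self hS hp) (mul_self hS hy) hpy, map_one]
    have h3 : π ((q * y) ^ 3) = 1 := by rw [cube_eq_one hS hq hy hn, map_one]
    have h4 : π (q * y) = 1 := by
      rw [pow_succ, map_mul, h2, one_mul] at h3
      exact h3
    obtain ⟨k, hk⟩ := hN ⟨q * y, (QuotientGroup.eq_one_iff _).1 h4⟩
    have hk' : (q * y) ^ 2 ^ k = 1 := by simpa [Subtype.ext_iff] using hk
    have h5 := pow_gcd_eq_one.2 ⟨hk', cube_eq_one hS hq hy hn⟩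
    rw [show Nat.gcd (2 ^ k) 3 = 1 from Nat.Coprime.pow_left k (by norm_num), pow_one] at h5
    have : q = y := by rw [eq_inv_of_mul_eq_one_left h5, inv_eq hS hy]
    rw [this]
  refine ⟨hv, fun y hy => ⟨fun h => main v d hv hd ?_ y hy h, main d v hd hv hmem y hy⟩⟩
  have := N.inv_mem hmem
  rwa [mul_inv_rev, inv_inv] at this

/-- A `V`-block is an orbit of `O₂(G)` when its members are not central. -/
theorem exists_pCore_conj [Finite G] (hD : IsClosedSet D) (hd : d ∈ D) (hv : v ∈ vSet D d)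
    (hf : f ∈ D) (hfd : ¬ Commute d f) : ∃ g ∈ pCore 2 G, g * d * g⁻¹ = v := by
  by_cases hvd : v = d
  · exact ⟨1, one_mem _, by rw [hvd]; group⟩
  have hS := hD.1
  have hvD : v ∈ D := hv.1
  have hfv : ¬ Commute v f := fun h => hfd ((hv.2 f hf).1 h)
  set φ := s4Hom (mul_self hS hd) (mul_self hS hf) (mul_self hS hvD)
    (commute_of_mem_vSet hd hv).symm (braid hS hd hf hfd) (braid hS hf hvD (not_commute_symm hfv))
    with hφ
  have e0 : φ (Equiv.swap 0 1) = d := s4Hom_gen _ _ _ _ _ _ 0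
  have e1 : φ (Equiv.swap 1 2) = f := s4Hom_gen _ _ _ _ _ _ 1
  have e2 : φ (Equiv.swap 2 3) = v := s4Hom_gen _ _ _ _ _ _ 2
  refine ⟨(v * d) * f * (v * d)⁻¹ * f⁻¹, ?_, ?_⟩
  · have h1 := mul_mem_pCore_two hD hd hv
    have h2 := (inferInstance : (pCore 2 G).Normal).conj_mem _ (inv_mem h1) f
    have h3 := mul_mem h1 h2
    convert h3 using 1
    group
  · clear_value φ
    rw [← e0, ← e1, ← e2]
    simp only [← map_mul, ← map_inv]
    exact congrArg φ (by decide +kernel)

end Cfsg.Agent.Lib.ThreeTranspositions
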