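import Cfsg.Agent.Lib.ThreeTranspositions.Maximal

/-!
A centreless group generated by a class of 3-transpositions of width at least two is primitive on
the class exactly when its derived group is simple.
-/
set_option autoImplicit false

open Cfsg
open scoped IsMulCommutative commutatorElement

namespace Cfsg.Agent.Lib.ThreeTranspositions

universe u

variable {G : Type u} [Group G] [Finite G] {D : Set G} {d : G}

theorem isSimpleGroup_of_primitive (hD : IsThreeTranspositionClass D) (hZ : Subgroup.center G = ⊥)
    (hw : ∃ a ∈ D, ∃ b ∈ D, a ≠ b ∧ Commute a b) (hprim : IsPrimitiveUnderConj D) :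
    IsSimpleGroup (commutator G) := by
  obtain ⟨a, ha, b, hb, hab, -⟩ := id hw
  have hD2 : ∃ a ∈ D, ∃ b ∈ D, a ≠ b := ⟨a, ha, b, hb, hab⟩
  obtain ⟨h2, h3⟩ := cores_central_of_primitive hD hprim hw
  obtain ⟨L, hLn, hLc, -, hF⟩ := exists_component hD hD2 h2 h3
  haveI := hLn
  have hi := index_le_two_of_connected hD ha hLc.2 (connected_of_primitive hD hprim hw)
  haveI := Cores.normal_map_subtype L (Subgroup.center L)
  have hcL : Subgroup.center L = ⊥ := by
    rcases le_center_or_le hD h2 h3 hLc.2 hF ((Subgroup.center L).map L.subtype) with h | h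
    · rw [hZ, le_bot_iff, Subgroup.map_eq_bot_iff_of_injective _ L.subtype_injective] at h
      exact h
    · exact absurd (eq_top_iff.2 fun x _ => by
        obtain ⟨y, hy, hyx⟩ := h x.2
        rwa [L.subtype_injective hyx] at hy) (Components.Quasisimple.center_ne_top hLc.2)
  have hLG : commutator G = L := by
    refine le_antisymm ?_ ?_
    · rw [commutator_def, Subgroup.commutator_le]
      intro x _ y _
      have hi0 : L.index ≠ 0 := Subgroup.index_ne_zero_of_finite
      by_cases h1 : L.index = 1
      · rw [Subgroup.index_eq_one.1 h1]; exact Subgroup.mem_top _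
      · have hi2 : L.index = 2 := by omega
        rw [commutatorElement_def]
        simp only [Subgroup.mul_mem_iff_of_index_two hi2, Subgroup.inv_mem_iff]
        tauto
    · conv_lhs => rw [← Components.Component.commutator_self hLc]
      exact Subgroup.commutator_mono le_top le_top
  rw [hLG]
  haveI := hLc.2.2
  exact ((QuotientGroup.quotientMulEquivOfEq hcL).trans QuotientGroup.quotientBot).symm.isSimpleGroup

theorem isPrimitive_of_simple (hD : IsThreeTranspositionClass D) (hZ : Subgroup.center G = ⊥)
    (hw : ∃ a ∈ D, ∃ b ∈ D, a ≠ b ∧ Commute a b) (hs : IsSimpleGroup (commutator G)) :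
    IsPrimitiveUnderConj D := by
  have hC := isClosedSet_of_class hD
  have hS := hC.1
  obtain ⟨a, ha, b, hb, hab, hcab⟩ := id hw
  have hD2 : ∃ a ∈ D, ∃ b ∈ D, a ≠ b := ⟨a, ha, b, hb, hab⟩
  have hmemc : ∀ x ∈ D, ∀ y ∈ D, x * y ∈ commutator G := by
    intro x hx y hy
    obtain ⟨g, hg⟩ := class_exists_conj hD hx hy
    have hcm := Subgroup.commutator_mem_commutator (Subgroup.mem_top x) (Subgroup.mem_top g)
    rw [← commutator_def, commutatorElement_def, inv_eq hS hx] at hcm
    convert hcm using 1
    rw [← hg]; group
  haveI := hs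
  have hnc : ¬ IsMulCommutative (commutator G) := by
    intro hcm
    haveI := hcm
    set z : commutator G := ⟨a * b, hmemc a ha b hb⟩ with hz
    have hz1 : z ≠ 1 := fun h =>
      hab ((eq_inv_of_mul_eq_one_left (congrArg Subtype.val h)).trans (inv_eq hS hb))
    have hz2 : z ^ 2 = 1 :=
      Subtype.ext (sq_eq_one_of_commute (mul_self hS ha) (mul_self hS hb) hcab)
    have hp : (Nat.card (commutator G)).Prime := IsSimpleGroup.prime_card
    have h2 : orderOf z = 2 := orderOf_eq_prime hz2 hz1
    have hcard : Nat.card (commutator G) = 2 := by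
      have hdvd : (2 : ℕ) ∣ Nat.card (commutator G) := h2 ▸ orderOf_dvd_natCard z
      exact ((Nat.prime_dvd_prime_iff_eq Nat.prime_two hp).1 hdvd).symm
    have hzc : (z : G) ∈ Subgroup.center G := by
      rw [Subgroup.mem_center_iff]
      intro g
      have hmem := (inferInstance : (commutator G).Normal).conj_mem _ z.2 g
      have hne : (⟨g * z * g⁻¹, hmem⟩ : commutator G) ≠ 1 := fun h =>
        hz1 (Subtype.ext (conj_eq_one_iff.1 (congrArg Subtype.val h)))
      have hfix : (⟨g * z * g⁻¹, hmem⟩ : commutator G) = z := by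
        obtain ⟨u, -, hu⟩ := (Nat.card_eq_two_iff' (1 : commutator G)).1 hcard
        rw [hu _ hne, hu _ hz1]
      exact mul_inv_eq_iff_eq_mul.1 (congrArg Subtype.val hfix)
    rw [hZ, Subgroup.mem_bot] at hzc
    exact hz1 (Subtype.ext hzc)
  have hcore : ∀ (p : ℕ) [Fact p.Prime], pCore p G ≤ Subgroup.center G := by
    intro p _
    rcases hs.eq_bot_or_eq_top_of_normal ((pCore p G).subgroupOf (commutator G)) inferInstance with h | h
    · intro x hx
      rw [Subgroup.mem_center_iff]
      intro g
      have hm : g * x * g⁻¹ * x⁻¹ ∈ commutator G := by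
        have := Subgroup.commutator_mem_commutator (Subgroup.mem_top g) (Subgroup.mem_top x)
        rwa [commutatorElement_def, ← commutator_def] at this
      have h1 : (⟨_, hm⟩ : commutator G) ∈ (pCore p G).subgroupOf (commutator G) :=
        mul_mem ((inferInstance : (pCore p G).Normal).conj_mem x hx g) (inv_mem hx)
      rw [h, Subgroup.mem_bot] at h1
      exact commutatorElement_eq_one_iff_mul_comm.1
        (by rw [commutatorElement_def]; exact congrArg Subtype.val h1)
    · exfalso
      apply hnc
      have hP : IsPGroup p (commutator G) :=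
        (Cores.pCore_isPGroup p).to_le (Subgroup.subgroupOf_eq_top.1 h)
      haveI := IsSimpleGroup.toNontrivial (G := commutator G)
      haveI := hP.center_nontrivial
      have hc := (IsSimpleGroup.eq_bot_or_eq_top_of_normal (Subgroup.center (commutator G))
        inferInstance).resolve_left ((Subgroup.nontrivial_iff_ne_bot _).1 inferInstance)
      exact ⟨⟨fun x y => Subgroup.mem_center_iff.1 (hc ▸ Subgroup.mem_top y) x⟩⟩
  have h2 : pCore 2 G ≤ Subgroup.center G := by
    haveI : Fact (Nat.Prime 2) := ⟨Nat.prime_two⟩; exact hcore 2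
  have h3 : pCore 3 G ≤ Subgroup.center G := by
    haveI : Fact (Nat.Prime 3) := ⟨Nat.prime_three⟩; exact hcore 3
  obtain ⟨L, hLn, hLc, -, hF⟩ := exists_component hD hD2 h2 h3
  haveI := hLn
  have hLle : L ≤ commutator G := by
    conv_lhs => rw [← Components.Component.commutator_self hLc]
    exact Subgroup.commutator_mono le_top le_top
  have hLG : commutator G ≤ L := by
    rcases hs.eq_bot_or_eq_top_of_normal (L.subgroupOf (commutator G)) inferInstance with h | h
    · exact absurd (by
        rw [Subgroup.subgroupOf_eq_bot] at h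
        exact h.eq_bot_of_le hLle) (Components.Component.ne_bot hLc)
    · exact Subgroup.subgroupOf_eq_top.1 h
  refine isPrimitive_of_index_le_two hD hD2 h2 h3 hLc.2 hF ?_
  set π := QuotientGroup.mk' L
  have hall : ∀ e ∈ D, π e = π a := by
    intro e he
    obtain ⟨g, rfl⟩ := class_exists_conj hD ha he
    refine (QuotientGroup.eq.2 (hLG ?_)).symm
    rw [inv_eq hS ha]
    exact hmemc a ha _ he
  have htop : Subgroup.zpowers (π a) = ⊤ := by
    rw [eq_top_iff]
    intro z _
    obtain ⟨g, rfl⟩ := QuotientGroup.mk'_surjective L z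
    have : Subgroup.closure D ≤ (Subgroup.zpowers (π a)).comap π := by
      rw [Subgroup.closure_le]
      intro e he
      show π e ∈ Subgroup.zpowers (π a)
      rw [hall e he]; exact Subgroup.mem_zpowers _
    exact this (hD.2.2 ▸ Subgroup.mem_top g)
  rw [Subgroup.index, ← Nat.card_congr Subgroup.topEquiv.toEquiv, ← htop, Nat.card_zpowers]
  refine Nat.le_of_dvd (by norm_num) (orderOf_dvd_of_pow_eq_one ?_)
  rw [pow_two, ← map_mul, mul_self hS ha, map_one]

end Cfsg.Agent.Lib.ThreeTranspositions
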