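import Cfsg.Agent.Lib.ThreeTranspositions.Basic
import Cfsg.Agent.Lib.Spectrum.CoxeterSym
import Cfsg.Prelude.Def_Solvable
import Cfsg.Agent.Lib.Cores.Basic

/-!
3-transpositions in which the members commuting with a given one generate `S₃`.
-/
set_option autoImplicit false

open Cfsg

namespace Cfsg.Agent.Lib.ThreeTranspositions.LocalSThree

variable {G : Type*} [Group G] {D : Set G}

/-- The commuting neighbours of `x`. -/
def nbr (D : Set G) (x : G) : Set G := {y : G | y ∈ D ∧ y ≠ x ∧ Commute x y}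

/-- Every member sees a line of three pairwise non-commuting members. -/
def LocThree (D : Set G) : Prop :=
  IsClosedSet D ∧ ∀ d ∈ D, Nonempty (↥(Subgroup.closure (nbr D d)) ≃* Equiv.Perm (Fin 3))

theorem nbr_symm {x y : G} (hx : x ∈ D) (hy : y ∈ nbr D x) : x ∈ nbr D y :=
  ⟨hx, hy.2.1.symm, hy.2.2.symm⟩

theorem conj_nbr (hC : IsClosedSet D) (g : G) {x y : G} (hy : y ∈ nbr D x) :
    g * y * g⁻¹ ∈ nbr D (g * x * g⁻¹) :=
  ⟨hC.2 g y hy.1, fun h => hy.2.1 (mul_left_cancel (mul_right_cancel h)),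
    (Commute.conj_iff g).2 hy.2.2⟩

theorem perm_three_commute (s t : Equiv.Perm (Fin 3)) (h1 : s * s = 1) (h2 : s ≠ 1)
    (h3 : t * t = 1) (h4 : t ≠ 1) (h5 : s * t = t * s) : s = t := by
  have key : ∀ s t : Equiv.Perm (Fin 3),
      ¬ ((s * s = 1 ∧ s ≠ 1 ∧ t * t = 1 ∧ t ≠ 1) ∧ s * t = t * s ∧ s ≠ t) := by decide +kernel
  by_contra hne
  exact key s t ⟨⟨h1, h2, h3, h4⟩, h5, hne⟩

theorem perm_three_third (s t u : Equiv.Perm (Fin 3)) (h1 : s * s = 1) (h2 : s ≠ 1)
    (h3 : t * t = 1) (h4 : t ≠ 1) (h5 : u * u = 1) (h6 : u ≠ 1) (h7 : s ≠ t) :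
    u = s ∨ u = t ∨ u = s * t * s := by
  have key : ∀ s t u : Equiv.Perm (Fin 3),
      ¬ ((s * s = 1 ∧ s ≠ 1) ∧ (t * t = 1 ∧ t ≠ 1) ∧ (u * u = 1 ∧ u ≠ 1) ∧
        (s ≠ t ∧ u ≠ s ∧ u ≠ t ∧ u ≠ s * t * s)) := by decide +kernel
  by_contra hne
  push Not at hne
  exact key s t u ⟨⟨h1, h2⟩, ⟨h3, h4⟩, ⟨h5, h6⟩, h7, hne.1, hne.2.1, hne.2.2⟩

section
variable (hL : LocThree D) {x : G} (hx : x ∈ D)
include hL hx

theorem image_facts (e : ↥(Subgroup.closure (nbr D x)) ≃* Equiv.Perm (Fin 3)) {y : G}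
    (hy : y ∈ nbr D x) :
    e ⟨y, Subgroup.subset_closure hy⟩ * e ⟨y, Subgroup.subset_closure hy⟩ = 1 ∧
      e ⟨y, Subgroup.subset_closure hy⟩ ≠ 1 := by
  refine ⟨?_, fun h => ne_one hL.1.1 hy.1 ?_⟩
  · rw [← map_mul, ← map_one e]
    exact congrArg e (Subtype.ext (mul_self hL.1.1 hy.1))
  · exact Subtype.ext_iff.1 (e.injective (h.trans (map_one e).symm))

theorem nbr_tri {y z : G} (hy : y ∈ nbr D x) (hz : z ∈ nbr D x) (h : Commute y z) : y = z := by
  obtain ⟨e⟩ := hL.2 x hx
  have hyf := image_facts hL hx e hy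
  have hzf := image_facts hL hx e hz
  have h1 := perm_three_commute _ _ hyf.1 hyf.2 hzf.1 hzf.2
    (by rw [← map_mul, ← map_mul]; exact congrArg e (Subtype.ext h.eq))
  exact Subtype.ext_iff.1 (e.injective h1)

theorem nbr_third {y z w : G} (hy : y ∈ nbr D x) (hz : z ∈ nbr D x) (hne : y ≠ z)
    (hw : w ∈ nbr D x) : w = y ∨ w = z ∨ w = y * z * y := by
  obtain ⟨e⟩ := hL.2 x hx
  have hyf := image_facts hL hx e hy
  have hzf := image_facts hL hx e hz
  have hwf := image_facts hL hx e hw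
  rcases perm_three_third _ _ _ hyf.1 hyf.2 hzf.1 hzf.2 hwf.1 hwf.2
    (fun h => hne (Subtype.ext_iff.1 (e.injective h))) with h | h | h
  · exact .inl (Subtype.ext_iff.1 (e.injective h))
  · exact .inr (.inl (Subtype.ext_iff.1 (e.injective h)))
  · rw [← map_mul, ← map_mul] at h
    exact .inr (.inr (Subtype.ext_iff.1 (e.injective h)))

theorem third_mem_nbr {y z : G} (hy : y ∈ nbr D x) (hz : z ∈ nbr D x) :
    y * z * y ∈ nbr D x := by
  refine ⟨third_mem hL.1 hy.1 hz.1, ?_, commute_third x hy.2.2 hz.2.2⟩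
  intro h
  apply hz.2.1
  have h1 : z = y * x * y := by
    rw [← h]; simp only [← mul_assoc, mul_self hL.1.1 hy.1, one_mul]
    rw [mul_assoc, mul_self hL.1.1 hy.1, mul_one]
  rw [h1, ← hy.2.2.eq, mul_assoc, mul_self hL.1.1 hy.1, mul_one]

theorem exists_two : ∃ y ∈ nbr D x, ∃ z ∈ nbr D x, y ≠ z := by
  by_contra hcon
  push Not at hcon
  obtain ⟨e⟩ := hL.2 x hx
  have hcomm : ∀ u v : ↥(Subgroup.closure (nbr D x)), u * v = v * u := by
    intro u v
    exact Subtype.ext (Set.centralizer_centralizer_comm_of_comm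
      (S := nbr D x) (fun y hy z hz => by rw [hcon y hy z hz]) _
      (Subgroup.closure_le_centralizer_centralizer _ u.2) _
      (Subgroup.closure_le_centralizer_centralizer _ v.2))
  have h2 : ∀ s t : Equiv.Perm (Fin 3), s * t = t * s := fun s t => by
    have := congrArg e (hcomm (e.symm s) (e.symm t))
    simpa using this
  revert h2
  decide +kernel

theorem nbr_eq_of_two {x' y z : G} (hx' : x' ∈ D) (hy : y ∈ nbr D x) (hz : z ∈ nbr D x)
    (hy' : y ∈ nbr D x') (hz' : z ∈ nbr D x') (hne : y ≠ z) : nbr D x = nbr D x' := by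
  ext w
  constructor
  · intro hw
    rcases nbr_third hL hx hy hz hne hw with rfl | rfl | rfl
    · exact hy'
    · exact hz'
    · exact third_mem_nbr hL hx' hy' hz'
  · intro hw
    rcases nbr_third hL hx' hy' hz' hne hw with rfl | rfl | rfl
    · exact hy
    · exact hz
    · exact third_mem_nbr hL hx hy hz

/-- If two neighbours of `x` have the same neighbours then all three have. -/
def TypeA (D : Set G) (x : G) : Prop := ∀ a ∈ nbr D x, ∀ b ∈ nbr D x, nbr D a = nbr D b

theorem typeA_of_eq {a b : G} (ha : a ∈ nbr D x) (hb : b ∈ nbr D x) (hne : a ≠ b)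
    (h : nbr D a = nbr D b) : TypeA D x := by
  suffices key : ∀ c ∈ nbr D x, nbr D c = nbr D a from fun c hc c' hc' =>
    (key c hc).trans (key c' hc').symm
  intro c hc
  rcases nbr_third hL hx ha hb hne hc with rfl | rfl | rfl
  · rfl
  · exact h.symm
  · have hsub : ∀ w ∈ nbr D a, w ∈ nbr D (a * b * a) := by
      intro w hw
      have h1 := conj_nbr hL.1 a (h ▸ hw : w ∈ nbr D b)
      rw [inv_eq hL.1.1 ha.1] at h1
      have h2 : a * w * a = w := by
        rw [hw.2.2.eq, mul_assoc, mul_self hL.1.1 ha.1, mul_one]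
      rwa [h2] at h1
    obtain ⟨y, hy, z, hz, hyz⟩ := exists_two hL ha.1
    exact (nbr_eq_of_two hL ha.1 (third_mem hL.1 ha.1 hb.1) hy hz (hsub y hy) (hsub z hz) hyz).symm

end

theorem typeA_conj (hC : IsClosedSet D) {x : G} (h : TypeA D x) (g : G) :
    TypeA D (g * x * g⁻¹) := by
  have back : ∀ {u v : G}, u ∈ nbr D (g * v * g⁻¹) → g⁻¹ * u * g ∈ nbr D v := by
    intro u v hu
    have h2 := conj_nbr hC g⁻¹ hu
    rwa [inv_inv, show g⁻¹ * (g * v * g⁻¹) * g = v by group] at h2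
  intro a ha b hb
  have e : ∀ u : G, g * (g⁻¹ * u * g) * g⁻¹ = u := fun u => by group
  ext w
  constructor <;> intro hw
  · rw [← e a] at hw
    have h1 := back hw
    rw [h _ (back ha) _ (back hb)] at h1
    have h2 := conj_nbr hC g h1
    rwa [e, e] at h2
  · rw [← e b] at hw
    have h1 := back hw
    rw [← h _ (back ha) _ (back hb)] at h1
    have h2 := conj_nbr hC g h1
    rwa [e, e] at h2

theorem conj_of_not_commute (hS : IsThreeTranspositionSet D) {d e : G} (hd : d ∈ D) (he : e ∈ D)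
    (h : ¬ Commute d e) : (d * e) * d * (d * e)⁻¹ = e := by
  have hb := braid hS hd he h
  calc (d * e) * d * (d * e)⁻¹ = d * (e * d * e) * d := by
        rw [mul_inv_rev, inv_eq hS hd, inv_eq hS he]; simp only [mul_assoc]
    _ = e := by
        rw [← hb]
        simp only [← mul_assoc, mul_self hS hd, one_mul]
        rw [mul_assoc, mul_self hS hd, mul_one]

/-! ### The square case -/

section Square
variable (hL : LocThree D) (hA : ∀ y ∈ D, TypeA D y)

/-- The products of two commuting neighbours of one member. -/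
def steps (D : Set G) : Set G := {s | ∃ x ∈ D, ∃ p ∈ nbr D x, ∃ q ∈ nbr D x, s = p * q}

/-- Line preserving elements. -/
def KeepsLines (D : Set G) (m : G) : Prop :=
  ∀ y ∈ D, ∀ z ∈ nbr D y, m * y * m⁻¹ ∈ nbr D z

include hL hA in
theorem step_keeps {s : G} (hs : s ∈ steps D) : KeepsLines D s := by
  obtain ⟨x, hx, p, hp, q, hq, rfl⟩ := hs
  intro y hy z hz
  have hS := hL.1.1
  have hinv : (p * q)⁻¹ = q * p := by rw [mul_inv_rev, inv_eq hS hp.1, inv_eq hS hq.1]
  rw [hinv]
  by_cases hyx : Commute x y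
  · by_cases he : y = x
    · subst he
      have h1 : p * q * y * (q * p) = y := by
        rw [mul_assoc p q y, ← hq.2.2.eq, ← mul_assoc p y q, ← hp.2.2.eq]
        simp only [mul_assoc]
        rw [mul_self_assoc hS hq.1, mul_self hS hp.1, mul_one]
      rw [h1]
      exact nbr_symm hy hz
    · have hyn : y ∈ nbr D x := ⟨hy, he, hyx⟩
      rw [hA y hy z hz x (nbr_symm hx hyn)]
      have h1 := conj_nbr hL.1 (p * q) hyn
      have h2 : p * q * x * (p * q)⁻¹ = x := by
        rw [← (hp.2.2.mul_right hq.2.2).eq, mul_assoc, mul_inv_cancel, mul_one]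
      rwa [h2, hinv] at h1
  · by_cases hyp : Commute p y
    · by_cases he : y = p
      · exact absurd (he ▸ hp.2.2) hyx
      · have hyn : y ∈ nbr D q := hA x hx p hp q hq ▸ (⟨hy, he, hyp⟩ : y ∈ nbr D p)
        have h1 : p * q * y * (q * p) = y := by
          rw [mul_assoc p q y, hyn.2.2.eq, ← mul_assoc p y q, hyp.eq]
          simp only [mul_assoc]
          rw [mul_self_assoc hS hq.1, mul_self hS hp.1, mul_one]
        rw [h1]
        exact nbr_symm hy hz
    · have hyq : ¬ Commute q y := fun h => by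
        by_cases he : y = q
        · exact hyx (he ▸ hq.2.2)
        · have : y ∈ nbr D p := hA x hx q hq p hp ▸ (⟨hy, he, h⟩ : y ∈ nbr D q)
          exact hyp this.2.2
      have key : ∀ r ∈ nbr D x, ¬ Commute r y → r * y * r ∈ nbr D (x * y * x) := by
        intro r hr hry
        refine ⟨third_mem hL.1 hr.1 hy, ?_, ?_⟩
        · rw [braid hS hr.1 hy hry, braid hS hx hy hyx]
          exact fun h => hr.2.1 (mul_left_cancel (mul_right_cancel h))
        · rw [braid hS hr.1 hy hry, braid hS hx hy hyx]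
          have := (Commute.conj_iff y).2 hr.2.2
          rwa [inv_eq hS hy] at this
      have e1 : p * (p * y * p) * p⁻¹ = y := by
        rw [inv_eq hS hp.1]
        simp only [← mul_assoc, mul_self hS hp.1, one_mul]
        rw [mul_assoc, mul_self hS hp.1, mul_one]
      have h1 := conj_nbr hL.1 p (key p hp hyp)
      rw [e1] at h1
      have h2 := conj_nbr hL.1 p (key q hq hyq)
      have e2 : p * (q * y * q) * p⁻¹ = p * q * y * (q * p) := by
        rw [inv_eq hS hp.1]; simp only [mul_assoc]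
      rw [e2] at h2
      rwa [hA y hy z hz _ (nbr_symm (hL.1.2 p _ (third_mem hL.1 hx hy)) h1)]

theorem steps_inv (hS : IsThreeTranspositionSet D) {s : G} (hs : s ∈ steps D) : s⁻¹ ∈ steps D := by
  obtain ⟨x, hx, p, hp, q, hq, rfl⟩ := hs
  exact ⟨x, hx, q, hq, p, hp, by rw [mul_inv_rev, inv_eq hS hp.1, inv_eq hS hq.1]⟩

theorem steps_conj (hC : IsClosedSet D) (g : G) {s : G} (hs : s ∈ steps D) :
    g * s * g⁻¹ ∈ steps D := by
  obtain ⟨x, hx, p, hp, q, hq, rfl⟩ := hs
  exact ⟨_, hC.2 g x hx, _, conj_nbr hC g hp, _, conj_nbr hC g hq, by group⟩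

theorem closure_steps_normal (hC : IsClosedSet D) : (Subgroup.closure (steps D)).Normal :=
  closure_normal (fun g _ hs => steps_conj hC g hs)

include hL hA in
theorem closure_keeps {m : G} (hm : m ∈ Subgroup.closure (steps D)) :
    KeepsLines D m ∧ KeepsLines D m⁻¹ := by
  induction hm using Subgroup.closure_induction with
  | mem s hs => exact ⟨step_keeps hL hA hs, step_keeps hL hA (steps_inv hL.1.1 hs)⟩
  | one =>
    refine ⟨?_, ?_⟩ <;> intro y hy z hz <;> simpa using nbr_symm hy hz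
  | inv a _ ih => exact ⟨ih.2, by rw [inv_inv]; exact ih.1⟩
  | mul a b _ _ iha ihb =>
    have step : ∀ {u v : G}, KeepsLines D u → KeepsLines D v → KeepsLines D (u * v) := by
      intro u v hu hv y hy z hz
      have h1 := hv y hy z hz
      have h2 := hu _ h1.1 z (nbr_symm hz.1 h1)
      rwa [show u * (v * y * v⁻¹) * u⁻¹ = u * v * y * (u * v)⁻¹ by group] at h2
    exact ⟨step iha.1 ihb.1, by rw [mul_inv_rev]; exact step ihb.2 iha.2⟩

include hL in
theorem step_cube {s : G} (hs : s ∈ steps D) : s ^ 3 = 1 := by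
  obtain ⟨x, hx, p, hp, q, hq, rfl⟩ := hs
  by_cases hc : Commute p q
  · rw [nbr_tri hL hx hp hq hc, mul_self hL.1.1 hq.1, one_pow]
  · exact cube_eq_one hL.1.1 hp.1 hq.1 hc

theorem fin_three_cycles_commute : ∀ σ τ : Fin 3 → Fin 3, (∀ i, σ (σ (σ i)) = i) →
    (∀ i, τ (τ (τ i)) = i) → ∀ i, σ (τ i) = τ (σ i) := by decide +kernel

include hL hA in
theorem steps_commute_action {s t : G} (hs : s ∈ steps D) (ht : t ∈ steps D) {y : G} (hy : y ∈ D) :
    s * (t * y * t⁻¹) * s⁻¹ = t * (s * y * s⁻¹) * t⁻¹ := by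
  obtain ⟨z, hz, -⟩ := exists_two hL hy
  have hyz := nbr_symm hy hz
  obtain ⟨u, hu, v, hv, huv⟩ := exists_two hL hz.1
  let f : Fin 3 → G := ![u, v, u * v * u]
  have hf : ∀ i, f i ∈ nbr D z := by
    intro i; fin_cases i
    · exact hu
    · exact hv
    · exact third_mem_nbr hL hz.1 hu hv
  have hnc : ¬ Commute u v := fun h => huv (nbr_tri hL hz.1 hu hv h)
  have h01 : u * v * u ≠ u := third_ne_left hL.1 hu.1 hv.1 hnc
  have h02 : u * v * u ≠ v := third_ne_right hL.1 hu.1 hv.1 hnc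
  have hinj : Function.Injective f := by
    intro i j h
    fin_cases i <;> fin_cases j <;>
      first
        | rfl
        | exact absurd h huv
        | exact absurd h.symm huv
        | exact absurd h h01
        | exact absurd h.symm h01
        | exact absurd h h02
        | exact absurd h.symm h02
  have hsurj : ∀ w ∈ nbr D z, ∃ i, f i = w := by
    intro w hw
    rcases nbr_third hL hz.1 hu hv huv hw with rfl | rfl | rfl
    · exact ⟨0, rfl⟩
    · exact ⟨1, rfl⟩
    · exact ⟨2, rfl⟩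
  have act : ∀ r ∈ steps D, ∀ i, ∃ j, f j = r * f i * r⁻¹ := fun r hr i =>
    hsurj _ (step_keeps hL hA hr _ (hf i).1 z (nbr_symm hz.1 (hf i)))
  choose σ hσ using act s hs
  choose τ hτ using act t ht
  have cube : ∀ (r : G) (ρ : Fin 3 → Fin 3), r ^ 3 = 1 → (∀ i, f (ρ i) = r * f i * r⁻¹) →
      ∀ i, ρ (ρ (ρ i)) = i := by
    intro r ρ hr hρ i
    apply hinj
    rw [hρ, hρ, hρ, show r * (r * (r * f i * r⁻¹) * r⁻¹) * r⁻¹ = (r * r * r) * f i * (r * r * r)⁻¹ by group,
      show r * r * r = 1 by rw [← hr, pow_succ, pow_two], inv_one, one_mul, mul_one]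
  obtain ⟨i, hi⟩ := hsurj y hyz
  have := fin_three_cycles_commute σ τ (cube s σ (step_cube hL hs) hσ) (cube t τ (step_cube hL ht) hτ) i
  rw [← hi, ← hτ, ← hσ, ← hσ, ← hτ, this]

include hL in
theorem closure_steps_le : Subgroup.closure (steps D) ≤ Subgroup.closure D := by
  rw [Subgroup.closure_le]
  rintro s ⟨x, hx, p, hp, q, hq, rfl⟩
  exact mul_mem (Subgroup.subset_closure hp.1) (Subgroup.subset_closure hq.1)

include hL hA in
theorem closure_steps_isPGroup [Finite G] : IsPGroup 3 (Subgroup.closure (steps D)) := by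
  set M := Subgroup.closure (steps D) with hM
  let T : Set M := (↑) ⁻¹' steps D
  have hT : Subgroup.closure T = ⊤ := Subgroup.closure_closure_coe_preimage
  have hcomm : ∀ s ∈ T, ∀ t ∈ T, s⁻¹ * t⁻¹ * s * t ∈ Subgroup.center M := by
    intro s hs t ht
    have hfix : ∀ y ∈ D, Commute ((s : G)⁻¹ * (t : G)⁻¹ * s * t) y := by
      intro y hy
      have h := steps_commute_action hL hA hs ht hy
      show _ * y = y * _
      have h' : ((s : G) * t) * y * ((s : G) * t)⁻¹ = ((t : G) * s) * y * ((t : G) * s)⁻¹ := by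
        have e1 : ((s : G) * t) * y * ((s : G) * t)⁻¹ = s * (t * y * (t : G)⁻¹) * (s : G)⁻¹ := by group
        have e2 : ((t : G) * s) * y * ((t : G) * s)⁻¹ = t * (s * y * (s : G)⁻¹) * (t : G)⁻¹ := by group
        rw [e1, e2, h]
      calc (s : G)⁻¹ * (t : G)⁻¹ * s * t * y
          = (s : G)⁻¹ * (t : G)⁻¹ * (((s : G) * t) * y * ((s : G) * t)⁻¹) * ((s : G) * t) := by group
        _ = (s : G)⁻¹ * (t : G)⁻¹ * (((t : G) * s) * y * ((t : G) * s)⁻¹) * ((s : G) * t) := by rw [h']
        _ = y * ((s : G)⁻¹ * (t : G)⁻¹ * s * t) := by group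
    rw [Subgroup.mem_center_iff]
    intro m
    apply Subtype.ext
    have hle : Subgroup.closure D ≤ Subgroup.centralizer {(s : G)⁻¹ * (t : G)⁻¹ * s * t} := by
      rw [Subgroup.closure_le]
      intro y hy
      exact Subgroup.mem_centralizer_singleton_iff.2 (hfix y hy).eq.symm
    have := Subgroup.mem_centralizer_singleton_iff.1 (hle (closure_steps_le hL m.2))
    simpa using this
  have hnil : Group.IsNilpotent M := by
    let π := QuotientGroup.mk' (Subgroup.center M)
    have hgen : Subgroup.closure (π '' T) = ⊤ := by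
      rw [← MonoidHom.map_closure, hT, ← MonoidHom.range_eq_map, MonoidHom.range_eq_top]
      exact QuotientGroup.mk'_surjective _
    have hab : ∀ a b : M ⧸ Subgroup.center M, a * b = b * a := by
      intro a b
      have hgens : ∀ x ∈ π '' T, ∀ y ∈ π '' T, x * y = y * x := by
        rintro _ ⟨s, hs, rfl⟩ _ ⟨t, ht, rfl⟩
        rw [← map_mul, ← map_mul]
        refine (QuotientGroup.eq.2 ?_).symm
        simpa [mul_assoc] using hcomm s hs t ht
      exact Set.centralizer_centralizer_comm_of_comm hgens _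
        (Subgroup.closure_le_centralizer_centralizer _ (hgen ▸ Subgroup.mem_top a)) _
        (Subgroup.closure_le_centralizer_centralizer _ (hgen ▸ Subgroup.mem_top b))
    letI : CommGroup (M ⧸ Subgroup.center M) :=
      { (inferInstance : Group (M ⧸ Subgroup.center M)) with mul_comm := hab }
    exact Group.of_quotient_center_nilpotent inferInstance
  haveI : Fact (Nat.Prime 3) := ⟨Nat.prime_three⟩
  obtain ⟨P⟩ : Nonempty (Sylow 3 M) := inferInstance
  have hPn : (P : Subgroup M).Normal := by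
    have := (isNilpotent_of_finite_tfae (G := M)).out 0 3
    exact this.1 hnil 3 inferInstance P
  have hPtop : (P : Subgroup M) = ⊤ := by
    rw [eq_top_iff, ← hT, Subgroup.closure_le]
    intro s hs
    haveI := Sylow.unique_of_normal P hPn
    have hp : IsPGroup 3 (Subgroup.zpowers s) := by
      apply IsPGroup.of_card (n := Nat.log 3 (orderOf s))
      rw [Nat.card_zpowers]
      rcases (Nat.dvd_prime Nat.prime_three).1
        (orderOf_dvd_of_pow_eq_one (Subtype.ext (step_cube hL hs) : s ^ 3 = 1)) with h | h <;>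
        rw [h] <;> norm_num
    obtain ⟨Q, hQ⟩ := hp.exists_le_sylow
    exact (Subsingleton.elim Q P) ▸ hQ (Subgroup.mem_zpowers s)
  exact (IsPGroup.iff_card.2 (by
    obtain ⟨n, hn⟩ := IsPGroup.iff_card.1 P.isPGroup'
    exact ⟨n, by rw [← hn, hPtop, Subgroup.card_top]⟩))

include hL hA in
/-- In the square case the order of the core forces one component. -/
theorem square_contra [Finite G] {d a b e : G} (hd : d ∈ D) (ha : a ∈ nbr D d) (hb : b ∈ nbr D d)
    (hab : a ≠ b) (hcore : Nat.card (pCore 3 ↥(Subgroup.centralizer ({d} : Set G))) = 3)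
    (he : e ∈ D) (hed : ¬ Commute e d) (hea : ¬ Commute e a) : False := by
  have hS := hL.1.1
  set M := Subgroup.closure (steps D) with hM
  haveI hMn : M.Normal := closure_steps_normal hL.1
  have hnc : ¬ Commute a b := fun h => hab (nbr_tri hL hd ha hb h)
  have hx3 : (a * b) ^ 3 = 1 := cube_eq_one hS ha.1 hb.1 hnc
  have hxM : a * b ∈ M := Subgroup.subset_closure ⟨d, hd, a, ha, b, hb, rfl⟩
  have hx1 : a * b ≠ 1 := fun h => hab ((eq_inv_of_mul_eq_one_left h).trans (inv_eq hS hb.1))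
  have hxd : Commute (a * b) d := (ha.2.2.symm.mul_left hb.2.2.symm)
  set C := Subgroup.centralizer ({d} : Set G) with hCd
  have hxC : a * b ∈ C := Subgroup.mem_centralizer_singleton_iff.2 hxd.eq
  let x : C := ⟨a * b, hxC⟩
  have hsub : M.subgroupOf C ≤ pCore 3 C :=
    Cores.le_pCore ((closure_steps_isPGroup hL hA).comap_of_injective C.subtype C.subtype_injective)
  have hxo : orderOf x = 3 := by
    haveI : Fact (Nat.Prime 3) := ⟨Nat.prime_three⟩
    exact orderOf_eq_prime (Subtype.ext (by simpa using hx3)) fun h => hx1 (Subtype.ext_iff.1 h)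
  have hcore' : Subgroup.zpowers x = pCore 3 C := by
    refine Subgroup.eq_of_le_of_card_ge ?_ (by rw [hcore, Nat.card_zpowers, hxo])
    exact Subgroup.zpowers_le.2 (hsub (Subgroup.mem_subgroupOf.2 hxM))
  have hfixd : ∀ m ∈ M, m * d * m⁻¹ = d → ∃ i : ℤ, m = (a * b) ^ i := by
    intro m hm hmd
    have hmC : m ∈ C := Subgroup.mem_centralizer_singleton_iff.2 (mul_inv_eq_iff_eq_mul.1 hmd)
    have : (⟨m, hmC⟩ : C) ∈ pCore 3 C := hsub (Subgroup.mem_subgroupOf.2 hm)
    rw [← hcore', Subgroup.mem_zpowers_iff] at this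
    obtain ⟨i, hi⟩ := this
    exact ⟨i, by simpa [x] using (congrArg Subtype.val hi).symm⟩
  have hNab : nbr D a = nbr D b := hA d hd a ha b hb
  have hda : d ∈ nbr D a := nbr_symm hd ha
  obtain ⟨d1, hd1, hd1d⟩ : ∃ d1 ∈ nbr D a, d1 ≠ d := by
    obtain ⟨u, hu, v, hv, huv⟩ := exists_two hL ha.1
    by_cases h : u = d
    · exact ⟨v, hv, fun h' => huv (h.trans h'.symm)⟩
    · exact ⟨u, hu, h⟩
  have hnd : ¬ Commute d d1 := fun h => hd1d (nbr_tri hL ha.1 hda hd1 h).symm
  set n := d * d1 with hn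
  have hnM : n ∈ M := Subgroup.subset_closure ⟨a, ha.1, d, hda, d1, hd1, rfl⟩
  have hn1 : n * d * n⁻¹ = d1 := conj_of_not_commute hS hd hd1.1 hnd
  have hn2 : n * d1 * n⁻¹ = d * d1 * d := by
    rw [hn, mul_inv_rev, inv_eq hS hd, inv_eq hS hd1.1]
    simp only [mul_assoc]
    rw [mul_self_assoc hS hd1.1]
  have hxn : Commute (a * b) n := by
    have hb1 : d1 ∈ nbr D b := hNab ▸ hd1
    exact (ha.2.2.symm.mul_left hb.2.2.symm).mul_right (hd1.2.2.mul_left hb1.2.2)
  set k := d * a with hk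
  have hkx : k * (a * b) * k⁻¹ = (a * b)⁻¹ := by
    rw [hk, mul_inv_rev, inv_eq hS hd, inv_eq hS ha.1, mul_inv_rev, inv_eq hS ha.1, inv_eq hS hb.1]
    simp only [mul_assoc]
    rw [mul_self_assoc hS ha.1, ha.2.2.symm.eq, ← mul_assoc b d a, ← hb.2.2.eq]
    simp only [mul_assoc]
    rw [mul_self_assoc hS hd]
  have hkn : k * n * k⁻¹ = n⁻¹ := by
    rw [hk, hn, mul_inv_rev, inv_eq hS hd, inv_eq hS ha.1, mul_inv_rev, inv_eq hS hd1.1, inv_eq hS hd]
    have e1 : a * (d * d1) = d * d1 * a := ((hda.2.2.mul_right hd1.2.2)).eq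
    simp only [mul_assoc] at e1 ⊢
    rw [← mul_assoc d1 a, ← hd1.2.2.eq]
    simp only [mul_assoc]
    rw [← mul_assoc a d, hda.2.2.eq]
    simp only [mul_assoc]
    rw [mul_self_assoc hS hd, mul_self_assoc hS ha.1]
  have hinv : ∀ m ∈ M, k * m * k⁻¹ = m⁻¹ := by
    intro m hm
    have hmd := (closure_keeps hL hA hm).1 d hd a ha
    obtain ⟨j, hj⟩ : ∃ j : ℕ, m * d * m⁻¹ = n ^ j * d * (n ^ j)⁻¹ := by
      rcases nbr_third hL ha.1 hda hd1 (Ne.symm hd1d) hmd with h | h | h
      · exact ⟨0, by simp [h]⟩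
      · exact ⟨1, by rw [h, pow_one, hn1]⟩
      · refine ⟨2, ?_⟩
        rw [h, pow_two, show n * n * d * (n * n)⁻¹ = n * (n * d * n⁻¹) * n⁻¹ by group, hn1, hn2]
    obtain ⟨i, hi⟩ := hfixd ((n ^ j)⁻¹ * m) (M.mul_mem (M.inv_mem (M.pow_mem hnM j)) hm) (by
      rw [show (n ^ j)⁻¹ * m * d * ((n ^ j)⁻¹ * m)⁻¹ = (n ^ j)⁻¹ * (m * d * m⁻¹) * n ^ j by group,
        hj]
      group)
    have hm' : m = n ^ j * (a * b) ^ i := by rw [← hi, mul_inv_cancel_left]
    rw [hm', ← MulAut.conj_apply, map_mul, map_pow, map_zpow, MulAut.conj_apply, MulAut.conj_apply,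
      hkx, hkn]
    rw [inv_pow, inv_zpow, ← mul_inv_rev, ((hxn.symm.pow_left j).zpow_right i).eq]
  -- apply it to `e a = (e d) (d a)`
  set g := e * d with hg
  have hg3 : g ^ 3 = 1 := cube_eq_one hS he hd hed
  have hea3 : (e * a) ^ 3 = 1 := cube_eq_one hS he ha.1 hea
  have hea' : e * a = g * k := by
    rw [hg, hk, mul_assoc e d, mul_self_assoc hS hd]
  have step : ∀ m ∈ M, (e * a) * m * (e * a)⁻¹ = (g * m * g⁻¹)⁻¹ := by
    intro m hm
    rw [hea', show g * k * m * (g * k)⁻¹ = g * (k * m * k⁻¹) * g⁻¹ by group, hinv m hm]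
    group
  have hgM : ∀ m ∈ M, g * m * g⁻¹ ∈ M := fun m hm => hMn.conj_mem m hm g
  set y := a * b with hy
  have s1 := step y hxM
  have s2 := step _ (M.inv_mem (hgM _ hxM))
  have s3 := step (g * (g * y * g⁻¹) * g⁻¹) (hgM _ (hgM _ hxM))
  have conj3 : ∀ w v : G, w * (w * (w * v * w⁻¹) * w⁻¹) * w⁻¹ = w ^ 3 * v * (w ^ 3)⁻¹ := by
    intro w v
    rw [pow_succ, pow_two]
    group
  have conjInv : ∀ w v : G, (w * v⁻¹ * w⁻¹)⁻¹ = w * v * w⁻¹ := fun w v => by group
  have hyy : y = y⁻¹ := by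
    calc y = (e * a) ^ 3 * y * ((e * a) ^ 3)⁻¹ := by rw [hea3, inv_one, one_mul, mul_one]
      _ = (g ^ 3 * y * (g ^ 3)⁻¹)⁻¹ := by
        rw [← conj3, ← conj3, s1, s2,
          conjInv g (g * y * g⁻¹), s3]
      _ = y⁻¹ := by rw [hg3, inv_one, one_mul, mul_one]
  apply hx1
  calc y = y ^ 3 * (y * y)⁻¹ := by group
    _ = 1 := by
      rw [hx3, show y * y = y * y⁻¹ from congrArg (y * ·) hyy, mul_inv_cancel, inv_one, mul_one]

end Square

/-! ### The Petersen case -/

theorem perm_five_center : ∀ x : Equiv.Perm (Fin 5),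
    (∀ i : Fin 4, x * Equiv.swap i.castSucc i.succ = Equiv.swap i.castSucc i.succ * x) → x = 1 := by
  decide +kernel

theorem injective_of_swap {f : Equiv.Perm (Fin 5) →* G}
    (h : f (Equiv.swap 0 1) ≠ f (Equiv.swap 1 2)) : Function.Injective f := by
  rw [← MonoidHom.ker_eq_bot_iff, Subgroup.eq_bot_iff_forall]
  intro x hx
  haveI : (f.ker.subgroupOf (alternatingGroup (Fin 5))).Normal := Subgroup.Normal.subgroupOf inferInstance _
  rcases alternatingGroup.isSimpleGroup_five.eq_bot_or_eq_top_of_normal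
      (f.ker.subgroupOf (alternatingGroup (Fin 5))) inferInstance with hb | ht
  · apply perm_five_center
    intro i
    set y := Equiv.swap (Fin.castSucc i) i.succ
    have h1 : x * y * x⁻¹ * y⁻¹ ∈ alternatingGroup (Fin 5) := by
      rw [Equiv.Perm.mem_alternatingGroup]
      simp [mul_comm, mul_left_comm]
    have h2 : (⟨_, h1⟩ : alternatingGroup (Fin 5)) ∈ f.ker.subgroupOf (alternatingGroup (Fin 5)) := by
      rw [Subgroup.mem_subgroupOf, MonoidHom.mem_ker]
      simp [MonoidHom.mem_ker.1 hx]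
    rw [hb, Subgroup.mem_bot] at h2
    have h3 : x * y * x⁻¹ * y⁻¹ = 1 := congrArg Subtype.val h2
    exact mul_inv_eq_iff_eq_mul.1 (mul_inv_eq_one.1 h3)
  · exfalso
    have h1 : Equiv.swap (0 : Fin 5) 1 * Equiv.swap 1 2 ∈ alternatingGroup (Fin 5) :=
      Equiv.Perm.mem_alternatingGroup.2 (by decide)
    have h2 : (⟨_, h1⟩ : alternatingGroup (Fin 5)) ∈ f.ker.subgroupOf (alternatingGroup (Fin 5)) :=
      ht ▸ Subgroup.mem_top _
    rw [Subgroup.mem_subgroupOf, MonoidHom.mem_ker, map_mul] at h2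
    apply h
    have h3 : f (Equiv.swap (1 : Fin 5) 2) * f (Equiv.swap (1 : Fin 5) 2) = 1 := by
      rw [← map_mul, Equiv.swap_mul_self, map_one]
    exact (eq_inv_of_mul_eq_one_left h2).trans (inv_eq_of_mul_eq_one_left h3)

end Cfsg.Agent.Lib.ThreeTranspositions.LocalSThree
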