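import Cfsg.Agent.Lib.ThreeTranspositions.Basic

/-!
Commuting sets of 3-transpositions and Sylow 2-subgroups; the width.
-/
set_option autoImplicit false

open Cfsg

namespace Cfsg.Agent.Lib.ThreeTranspositions

variable {G : Type*} [Group G] [Finite G] {D : Set G}

theorem exists_conj_mem_sylow (hD : IsClosedSet D) (T : Sylow 2 G) {E : Set G} (hE : E ⊆ D)
    (hc : ∀ a ∈ E, ∀ b ∈ E, Commute a b) :
    ∃ g : G, ∀ a ∈ E, g * a * g⁻¹ ∈ T := by
  haveI hcomm : IsMulCommutative (Subgroup.closure E) :=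
    Subgroup.isMulCommutative_closure (fun a ha b hb => (hc a ha b hb).eq)
  have hsq : ∀ x ∈ Subgroup.closure E, x * x = 1 := by
    intro x hx
    induction hx using Subgroup.closure_induction with
    | mem y hy => exact mul_self hD.1 (hE hy)
    | one => exact mul_one 1
    | mul y z hy hz iy iz =>
      have hyz : z * y = y * z := congrArg Subtype.val
        (hcomm.is_comm.comm ⟨z, hz⟩ ⟨y, hy⟩)
      calc y * z * (y * z) = y * (z * y) * z := by simp only [mul_assoc]
        _ = (y * y) * (z * z) := by rw [hyz]; simp only [mul_assoc]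
        _ = 1 := by rw [iy, iz, one_mul]
    | inv y _ iy => rw [← mul_inv_rev, iy, inv_one]
  have hp : IsPGroup 2 (Subgroup.closure E) := fun x =>
    ⟨1, Subtype.ext (by simpa [pow_two] using hsq x.1 x.2)⟩
  obtain ⟨S, hS⟩ := hp.exists_le_sylow
  obtain ⟨g, hg⟩ := MulAction.exists_smul_eq G S T
  refine ⟨g, fun a ha => ?_⟩
  rw [← hg]
  show g * a * g⁻¹ ∈ ((g • S : Sylow 2 G) : Subgroup G)
  rw [Sylow.coe_subgroup_smul]
  exact ⟨a, hS (Subgroup.subset_closure ha), rfl⟩

theorem isGreatest_width (hD : IsClosedSet D) (T : Sylow 2 G) :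
    IsGreatest {n : ℕ | ∃ E : Set G, E ⊆ D ∧ E.Finite ∧ (∀ a ∈ E, ∀ b ∈ E, Commute a b) ∧ E.ncard = n}
      {d : G | d ∈ D ∧ d ∈ T}.ncard := by
  refine ⟨⟨_, fun x hx => hx.1, Set.toFinite _,
    fun a ha b hb => commute_of_mem_isPGroup hD.1 T.isPGroup' ha.1 hb.1 ha.2 hb.2, rfl⟩, ?_⟩
  rintro n ⟨E, hE, _, hc, rfl⟩
  obtain ⟨g, hg⟩ := exists_conj_mem_sylow hD T hE hc
  refine Set.ncard_le_ncard_of_injOn (fun a => g * a * g⁻¹)
    (fun a ha => ⟨hD.2 g a (hE ha), hg a ha⟩) ?_ (Set.toFinite _)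
  intro a _ b _ h
  simpa using h

theorem width_eq (hD : IsClosedSet D) (T : Sylow 2 G) :
    commutingWidth D = {d : G | d ∈ D ∧ d ∈ T}.ncard :=
  (isGreatest_width hD T).csSup_eq

theorem ncard_le_width (hD : IsClosedSet D) {E : Set G} (hE : E ⊆ D)
    (hc : ∀ a ∈ E, ∀ b ∈ E, Commute a b) : E.ncard ≤ commutingWidth D := by
  obtain ⟨T⟩ : Nonempty (Sylow 2 G) := inferInstance
  rw [width_eq hD T]
  exact (isGreatest_width hD T).2 ⟨E, hE, Set.toFinite _, hc, rfl⟩

/-- Width one means: no two distinct members commute. -/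
theorem width_eq_one_iff (hD : IsClosedSet D) (hne : D.Nonempty) :
    commutingWidth D = 1 ↔ ∀ a ∈ D, ∀ b ∈ D, Commute a b → a = b := by
  constructor
  · intro h a ha b hb hab
    by_contra hne'
    have h2 := ncard_le_width hD (E := {a, b}) (Set.insert_subset ha (by simpa using hb)) (by
      intro x hx y hy
      rcases hx with rfl | rfl <;> rcases hy with rfl | rfl
      · exact Commute.refl _
      · exact hab
      · exact hab.symm
      · exact Commute.refl _)
    rw [Set.ncard_pair hne'] at h2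
    omega
  · intro h
    obtain ⟨d, hd⟩ := hne
    have h1 := ncard_le_width hD (E := {d}) (by simpa using hd) (by simp)
    rw [Set.ncard_singleton] at h1
    obtain ⟨T⟩ : Nonempty (Sylow 2 G) := inferInstance
    refine le_antisymm ?_ h1
    rw [width_eq hD T, Set.ncard_le_one_iff]
    exact fun {a b} ha hb =>
      h a ha.1 b hb.1 (commute_of_mem_isPGroup hD.1 T.isPGroup' ha.1 hb.1 ha.2 hb.2)

end Cfsg.Agent.Lib.ThreeTranspositions
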