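import Mathlib
import Cfsg.Prelude.Def_SporadicB
import Cfsg.Prelude.Def_FischerSpaces

/-!
Basic facts about sets of 3-transpositions.
-/
set_option autoImplicit false

open Cfsg

namespace Cfsg.Agent.Lib.ThreeTranspositions

variable {G : Type*} [Group G] {D : Set G} {a b c d e : G}

/-- A conjugation invariant set of 3-transpositions (no generation requirement). -/
def IsClosedSet (D : Set G) : Prop :=
  IsThreeTranspositionSet D ∧ ∀ g : G, ∀ d ∈ D, g * d * g⁻¹ ∈ D

theorem isClosedSet_of_group (hD : IsThreeTranspositionGroup D) : IsClosedSet D :=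
  ⟨hD.1, hD.2.1⟩

theorem class_conj_mem (hD : IsThreeTranspositionClass D) (g : G) (ha : a ∈ D) :
    g * a * g⁻¹ ∈ D := by
  obtain ⟨d, hd, rfl⟩ := hD.2.1
  exact IsConj.trans ha (isConj_iff.2 ⟨g, rfl⟩)

theorem class_exists_conj (hD : IsThreeTranspositionClass D) (ha : a ∈ D) (hb : b ∈ D) :
    ∃ g : G, g * a * g⁻¹ = b := by
  obtain ⟨d, hd, rfl⟩ := hD.2.1
  exact isConj_iff.1 (IsConj.trans (IsConj.symm ha) hb)

theorem isThreeTranspositionGroup_of_class (hD : IsThreeTranspositionClass D) :
    IsThreeTranspositionGroup D :=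
  ⟨hD.1, fun g _ hd => class_conj_mem hD g hd, hD.2.2⟩

theorem isClosedSet_of_class (hD : IsThreeTranspositionClass D) : IsClosedSet D :=
  ⟨hD.1, fun g _ hd => class_conj_mem hD g hd⟩

theorem mul_self (hD : IsThreeTranspositionSet D) (ha : a ∈ D) : a * a = 1 := by
  have h := pow_orderOf_eq_one a
  rwa [hD.1 a ha, pow_two] at h

theorem inv_eq (hD : IsThreeTranspositionSet D) (ha : a ∈ D) : a⁻¹ = a :=
  inv_eq_of_mul_eq_one_left (mul_self hD ha)

theorem ne_one (hD : IsThreeTranspositionSet D) (ha : a ∈ D) : a ≠ 1 := by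
  intro h
  have := hD.1 a ha
  rw [h, orderOf_one] at this
  omega

theorem mul_self_assoc (hD : IsThreeTranspositionSet D) (ha : a ∈ D) (x : G) :
    a * (a * x) = x := by
  rw [← mul_assoc, mul_self hD ha, one_mul]

theorem mul_mul_self (hD : IsThreeTranspositionSet D) (ha : a ∈ D) (x : G) :
    x * a * a = x := by
  rw [mul_assoc, mul_self hD ha, mul_one]

theorem commute_of_sq_eq_one (ha : a * a = 1) (hb : b * b = 1) (h : (a * b) ^ 2 = 1) :
    Commute a b := by
  have h1 : (a * b)⁻¹ = a * b := inv_eq_of_mul_eq_one_left (by rw [← h, pow_two])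
  rw [mul_inv_rev, inv_eq_of_mul_eq_one_left ha, inv_eq_of_mul_eq_one_left hb] at h1
  exact h1.symm

theorem sq_eq_one_of_commute (ha : a * a = 1) (hb : b * b = 1) (h : Commute a b) :
    (a * b) ^ 2 = 1 := by
  rw [h.mul_pow, pow_two, pow_two, ha, hb, one_mul]

theorem cube_eq_one (hD : IsThreeTranspositionSet D) (ha : a ∈ D) (hb : b ∈ D)
    (h : ¬ Commute a b) : (a * b) ^ 3 = 1 :=
  (hD.2 a ha b hb).resolve_left
    (fun h2 => h (commute_of_sq_eq_one (mul_self hD ha) (mul_self hD hb) h2))

/-- The braid relation of non-commuting 3-transpositions. -/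
theorem braid (hD : IsThreeTranspositionSet D) (ha : a ∈ D) (hb : b ∈ D)
    (h : ¬ Commute a b) : a * b * a = b * a * b := by
  have h3 := cube_eq_one hD ha hb h
  have h3' : (a * b * a) * (b * a * b) = 1 := by
    rw [← h3, pow_succ, pow_two]; simp only [mul_assoc]
  have h4 := eq_inv_of_mul_eq_one_left h3'
  rw [h4, mul_inv_rev, mul_inv_rev, inv_eq hD ha, inv_eq hD hb, mul_assoc]

theorem not_commute_of_braid (ha : a * a = 1) (hb : b * b = 1) (hne : a ≠ b)
    (h : a * b * a = b * a * b) : ¬ Commute a b := by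
  intro hc
  apply hne
  have h1 : a * b * a = b := by rw [hc.eq, mul_assoc, ha, mul_one]
  have h2 : b * a * b = a := by rw [← hc.eq, mul_assoc, hb, mul_one]
  rw [← h2, ← h, h1]

theorem ne_of_not_commute (h : ¬ Commute a b) : a ≠ b := by
  rintro rfl; exact h (Commute.refl a)

theorem not_commute_symm (h : ¬ Commute a b) : ¬ Commute b a := fun h' => h h'.symm

theorem conj_eq (hD : IsThreeTranspositionSet D) (ha : a ∈ D) (x : G) :
    a * x * a⁻¹ = a * x * a := by rw [inv_eq hD ha]

/-- The third point on the line of `a` and `b`. -/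
theorem third_mem (hD : IsClosedSet D) (ha : a ∈ D) (hb : b ∈ D) : a * b * a ∈ D := by
  have h := hD.2 a b hb
  rwa [inv_eq hD.1 ha] at h

theorem third_not_commute_left (hD : IsClosedSet D) (ha : a ∈ D) (hb : b ∈ D)
    (h : ¬ Commute a b) : ¬ Commute a (a * b * a) := by
  intro hc
  apply h
  have h2 := (Commute.conj_iff a (a := a) (b := a * b * a)).2 hc
  rw [inv_eq hD.1 ha] at h2
  have e1 : a * a * a = a := by rw [mul_self hD.1 ha, one_mul]
  have e2 : a * (a * b * a) * a = b := by
    rw [show a * (a * b * a) * a = (a * a) * b * (a * a) by simp only [mul_assoc],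
      mul_self hD.1 ha, one_mul, mul_one]
  rwa [e1, e2] at h2

theorem third_not_commute_right (hD : IsClosedSet D) (ha : a ∈ D) (hb : b ∈ D)
    (h : ¬ Commute a b) : ¬ Commute b (a * b * a) := by
  rw [braid hD.1 ha hb h]
  exact third_not_commute_left hD hb ha (not_commute_symm h)

theorem third_ne_left (hD : IsClosedSet D) (ha : a ∈ D) (hb : b ∈ D)
    (h : ¬ Commute a b) : a * b * a ≠ a :=
  (ne_of_not_commute (third_not_commute_left hD ha hb h)).symm

theorem third_ne_right (hD : IsClosedSet D) (ha : a ∈ D) (hb : b ∈ D)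
    (h : ¬ Commute a b) : a * b * a ≠ b :=
  (ne_of_not_commute (third_not_commute_right hD ha hb h)).symm

/-- An element commuting with two members commutes with the third member of their line. -/
theorem commute_third (x : G) (h1 : Commute x a) (h2 : Commute x b) :
    Commute x (a * b * a) := (h1.mul_right h2).mul_right h1

/-- Two members of `D` lying in one `2`-subgroup commute. -/
theorem commute_of_mem_isPGroup (hD : IsThreeTranspositionSet D) {T : Subgroup G}
    (hT : IsPGroup 2 T) (ha : a ∈ D) (hb : b ∈ D) (haT : a ∈ T) (hbT : b ∈ T) :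
    Commute a b := by
  by_contra h
  obtain ⟨k, hk⟩ := hT ⟨a * b, T.mul_mem haT hbT⟩
  have hk' : (a * b) ^ 2 ^ k = 1 := by
    simpa [Subtype.ext_iff] using hk
  have h1 : (a * b) ^ Nat.gcd (2 ^ k) 3 = 1 := pow_gcd_eq_one.2 ⟨hk', cube_eq_one hD ha hb h⟩
  have h2 : Nat.gcd (2 ^ k) 3 = 1 := Nat.Coprime.pow_left k (by norm_num)
  rw [h2, pow_one] at h1
  apply h
  have : a = b := by rw [eq_inv_of_mul_eq_one_left h1, inv_eq hD hb]
  rw [this]

theorem orderOf_mul_eq_three (hD : IsThreeTranspositionSet D) (ha : a ∈ D) (hb : b ∈ D)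
    (h : ¬ Commute a b) : orderOf (a * b) = 3 := by
  apply orderOf_eq_prime (cube_eq_one hD ha hb h)
  intro h1
  apply h
  have : a = b := by rw [eq_inv_of_mul_eq_one_left h1, inv_eq hD hb]
  rw [this]

/-- Images under a homomorphism. -/
theorem map_sq_or_cube {H : Type*} [Group H] (f : G →* H) (hD : IsThreeTranspositionSet D)
    (ha : a ∈ D) (hb : b ∈ D) : (f a * f b) ^ 2 = 1 ∨ (f a * f b) ^ 3 = 1 := by
  rcases hD.2 a ha b hb with h | h
  · exact Or.inl (by rw [← map_mul, ← map_pow, h, map_one])
  · exact Or.inr (by rw [← map_mul, ← map_pow, h, map_one])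

/-- The subgroup generated by a conjugation invariant set is normal. -/
theorem closure_normal (hD : ∀ g : G, ∀ d ∈ D, g * d * g⁻¹ ∈ D) : (Subgroup.closure D).Normal := by
  constructor
  intro n hn g
  induction hn using Subgroup.closure_induction with
  | mem x hx => exact Subgroup.subset_closure (hD g x hx)
  | one => simp
  | mul x y _ _ hx hy =>
    have : g * (x * y) * g⁻¹ = (g * x * g⁻¹) * (g * y * g⁻¹) := by group
    rw [this]; exact Subgroup.mul_mem _ hx hy
  | inv x _ hx =>
    have : g * x⁻¹ * g⁻¹ = (g * x * g⁻¹)⁻¹ := by group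
    rw [this]; exact Subgroup.inv_mem _ hx

/-- An element centralising a generating set is central. -/
theorem mem_center_of_commute_gen (hgen : Subgroup.closure D = ⊤) {x : G}
    (h : ∀ e ∈ D, Commute x e) : x ∈ Subgroup.center G := by
  rw [Subgroup.mem_center_iff]
  intro g
  have hg : g ∈ Subgroup.centralizer ({x} : Set G) := by
    have : Subgroup.closure D ≤ Subgroup.centralizer ({x} : Set G) := by
      rw [Subgroup.closure_le]
      intro e he
      exact Subgroup.mem_centralizer_singleton_iff.2 (h e he).eq.symm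
    exact this (by rw [hgen]; trivial)
  exact Subgroup.mem_centralizer_singleton_iff.1 hg

/-- In a class with at least two members every member has a non-commuting partner. -/
theorem exists_not_commute (hD : IsThreeTranspositionClass D)
    (hD2 : ∃ a ∈ D, ∃ b ∈ D, a ≠ b) (ha : a ∈ D) : ∃ e ∈ D, ¬ Commute a e := by
  by_contra h
  push Not at h
  have hc := mem_center_of_commute_gen hD.2.2 h
  have hall : ∀ b ∈ D, b = a := by
    intro b hb
    obtain ⟨g, rfl⟩ := class_exists_conj hD ha hb
    rw [Subgroup.mem_center_iff.1 hc g, mul_assoc, mul_inv_cancel, mul_one]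
  obtain ⟨x, hx, y, hy, hxy⟩ := hD2
  exact hxy ((hall x hx).trans (hall y hy).symm)

theorem not_mem_center (hD : IsThreeTranspositionClass D)
    (hD2 : ∃ a ∈ D, ∃ b ∈ D, a ≠ b) (ha : a ∈ D) : a ∉ Subgroup.center G := by
  intro h
  obtain ⟨e, he, hne⟩ := exists_not_commute hD hD2 ha
  exact hne (Subgroup.mem_center_iff.1 h e).symm

end Cfsg.Agent.Lib.ThreeTranspositions
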