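import Mathlib
import Cfsg.Prelude.Def_Transfer
import Cfsg.Agent.Lib.PGroups.Frattini

/-!
The extraspecial 2-groups `D₈ⁿ` and `D₈ⁿ⁻¹Q₈` from bilinear cocycles, and their 2-ranks.
-/
set_option autoImplicit false

open Cfsg
open scoped commutatorElement

namespace Cfsg.Agent.Lib.ThreeTranspositions.CocycleGroup

/-- One hyperbolic or anisotropic plane. -/
abbrev P := ZMod 2 × ZMod 2

/-- The cocycle on one plane. -/
def beta1 (e : ZMod 2) (x y : P) : ZMod 2 := x.1 * y.2 + e * (x.1 * y.1 + x.2 * y.2)

variable {n : ℕ} {e : Fin n → ZMod 2}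

/-- The cocycle. -/
def beta (e : Fin n → ZMod 2) (v w : Fin n → P) : ZMod 2 := ∑ i, beta1 (e i) (v i) (w i)

theorem beta_add_left (u v w : Fin n → P) : beta e (u + v) w = beta e u w + beta e v w := by
  simp only [beta, ← Finset.sum_add_distrib, Pi.add_apply]
  exact Finset.sum_congr rfl fun i _ => by simp [beta1]; ring

theorem beta_add_right (u v w : Fin n → P) : beta e u (v + w) = beta e u v + beta e u w := by
  simp only [beta, ← Finset.sum_add_distrib, Pi.add_apply]
  exact Finset.sum_congr rfl fun i _ => by simp [beta1]; ring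

theorem beta_zero_left (w : Fin n → P) : beta e 0 w = 0 := by
  simp [beta, beta1]

theorem beta_zero_right (w : Fin n → P) : beta e w 0 = 0 := by
  simp [beta, beta1]

theorem zmod2_add_self (a : ZMod 2) : a + a = 0 := by revert a; decide

theorem add_self_vec (v : Fin n → P) : v + v = 0 := by
  funext i; exact Prod.ext (zmod2_add_self _) (zmod2_add_self _)

/-- The group. -/
@[ext] structure Ext (e : Fin n → ZMod 2) where
  /-- The image in the quotient. -/
  vec : Fin n → P
  /-- The central coordinate. -/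
  z : ZMod 2

instance extMul : Mul (Ext e) := ⟨fun a b => ⟨a.vec + b.vec, a.z + b.z + beta e a.vec b.vec⟩⟩
instance extOne : One (Ext e) := ⟨⟨0, 0⟩⟩
instance extInv : Inv (Ext e) := ⟨fun a => ⟨a.vec, a.z + beta e a.vec a.vec⟩⟩

theorem mul_vec (a b : Ext e) : (a * b).vec = a.vec + b.vec := rfl
theorem mul_z (a b : Ext e) : (a * b).z = a.z + b.z + beta e a.vec b.vec := rfl
theorem one_vec : (1 : Ext e).vec = 0 := rfl
theorem one_z : (1 : Ext e).z = 0 := rfl

instance extGroup : Group (Ext e) where
  mul_assoc a b c := by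
    ext1
    · exact add_assoc _ _ _
    · simp only [mul_z, mul_vec, beta_add_left, beta_add_right]; ring
  one_mul a := by
    ext1
    · exact zero_add _
    · simp [mul_z, one_z, one_vec, beta_zero_left]
  mul_one a := by
    ext1
    · exact add_zero _
    · simp [mul_z, one_z, one_vec, beta_zero_right]
  inv_mul_cancel a := by
    ext1
    · exact add_self_vec _
    · show a.z + beta e a.vec a.vec + a.z + beta e a.vec a.vec = 0
      linear_combination zmod2_add_self a.z + zmod2_add_self (beta e a.vec a.vec)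

/-- Coordinates. -/
def coord : Ext e ≃ (Fin n → P) × ZMod 2 where
  toFun a := (a.vec, a.z)
  invFun p := ⟨p.1, p.2⟩
  left_inv _ := rfl
  right_inv _ := rfl

instance extFinite : Finite (Ext e) := Finite.of_equiv _ coord.symm

theorem card_ext : Nat.card (Ext e) = 2 ^ (2 * n + 1) := by
  rw [Nat.card_congr coord, Nat.card_prod, Nat.card_pi]
  simp [Nat.card_prod, Nat.card_zmod, pow_succ, pow_mul]

/-- The quadratic form. -/
def q (e : Fin n → ZMod 2) (v : Fin n → P) : ZMod 2 := beta e v v

/-- The commutator form. -/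
def bil (e : Fin n → ZMod 2) (v w : Fin n → P) : ZMod 2 := beta e v w + beta e w v

theorem q_add (v w : Fin n → P) : q e (v + w) = q e v + q e w + bil e v w := by
  simp only [q, bil, beta_add_left, beta_add_right]; ring

theorem bil_add_left (u v w : Fin n → P) : bil e (u + v) w = bil e u w + bil e v w := by
  simp only [bil, beta_add_left, beta_add_right]; ring

theorem bil_comm (v w : Fin n → P) : bil e v w = bil e w v := add_comm _ _

theorem bil_single (v : Fin n → P) (i : Fin n) (x : P) :
    bil e v (Pi.single i x) = beta1 (e i) (v i) x + beta1 (e i) x (v i) := by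
  simp only [bil, beta]
  rw [Finset.sum_eq_single i, Finset.sum_eq_single i] <;>
    first
      | (intro j _ hj; simp [Pi.single_eq_of_ne hj, beta1])
      | simp

theorem exists_bil_ne (v : Fin n → P) (hv : v ≠ 0) : ∃ w, bil e v w = 1 := by
  obtain ⟨i, hi⟩ := Function.ne_iff.1 hv
  have key : ∀ (c : ZMod 2) (x : P), x ≠ 0 → ∃ y : P, beta1 c x y + beta1 c y x = 1 := by
    decide +kernel
  obtain ⟨y, hy⟩ := key (e i) (v i) hi
  exact ⟨Pi.single i y, by rw [bil_single, hy]⟩

theorem mem_center_iff {a : Ext e} : a ∈ Subgroup.center (Ext e) ↔ a.vec = 0 := by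
  rw [Subgroup.mem_center_iff]
  constructor
  · intro h
    by_contra hne
    obtain ⟨w, hw⟩ := exists_bil_ne (e := e) _ hne
    have := congrArg Ext.z (h ⟨w, 0⟩)
    rw [mul_z, mul_z] at this
    have hh : bil e a.vec w = 0 := by
      show beta e a.vec w + beta e w a.vec = 0
      linear_combination this + zmod2_add_self (beta e a.vec w)
    rw [hw] at hh
    exact one_ne_zero hh
  · intro h g
    ext1
    · rw [mul_vec, mul_vec, add_comm]
    · rw [mul_z, mul_z, h, beta_zero_left, beta_zero_right, add_comm g.z]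

theorem card_center : Nat.card (Subgroup.center (Ext e)) = 2 := by
  rw [← Nat.card_zmod 2]
  exact Nat.card_congr
    { toFun := fun a => a.1.z
      invFun := fun c => ⟨⟨0, c⟩, mem_center_iff.2 rfl⟩
      left_inv := fun a => Subtype.ext (Ext.ext (mem_center_iff.1 a.2).symm rfl)
      right_inv := fun c => rfl }

theorem zmod2_cases (a : ZMod 2) : a = 0 ∨ a = 1 := by revert a; decide

theorem isExtraspecial (hn : 1 ≤ n) : IsExtraspecial 2 (Ext e) := by
  have hP : IsPGroup 2 (Ext e) := IsPGroup.of_card card_ext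
  have hsq : ∀ x : Ext e, x ^ 2 ∈ Subgroup.center (Ext e) := fun x => by
    rw [mem_center_iff, pow_two, mul_vec, add_self_vec]
  have hcomm : commutator (Ext e) ≤ Subgroup.center (Ext e) := by
    rw [commutator_def, Subgroup.commutator_le]
    intro a _ b _
    rw [mem_center_iff, commutatorElement_def]
    show a.vec + b.vec + a.vec + b.vec = 0
    rw [show a.vec + b.vec + a.vec + b.vec = (a.vec + a.vec) + (b.vec + b.vec) by abel,
      add_self_vec, add_self_vec, add_zero]
  haveI : Fact (Nat.Prime 2) := ⟨Nat.prime_two⟩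
  have hge : Subgroup.center (Ext e) ≤ commutator (Ext e) := by
    intro c hc
    obtain ⟨w, hw⟩ := exists_bil_ne (e := e) (Pi.single (⟨0, hn⟩ : Fin n) ((1, 0) : P))
      (by intro h; have := congrFun h ⟨0, hn⟩; simp at this)
    have h0 := mem_center_iff.1 hc
    rcases zmod2_cases c.z with hz | hz
    · rw [show c = 1 from Ext.ext h0 hz]; exact one_mem _
    · set u : Fin n → P := Pi.single (⟨0, hn⟩ : Fin n) ((1, 0) : P) with hu
      have : c = ⁅(⟨u, 0⟩ : Ext e), (⟨w, 0⟩ : Ext e)⁆ := by
        refine Ext.ext ?_ ?_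
        · rw [h0, commutatorElement_def]
          show 0 = u + w + u + w
          rw [show u + w + u + w = (u + u) + (w + w) by abel, add_self_vec, add_self_vec, add_zero]
        · rw [hz, ← hw, commutatorElement_def]
          show bil e u w = 0 + 0 + beta e u w + (0 + beta e u u) + beta e (u + w) u
            + (0 + beta e w w) + beta e (u + w + u) w
          simp only [bil, beta_add_left]
          linear_combination (-1 : ZMod 2) * zmod2_add_self (beta e u u)
            - zmod2_add_self (beta e w w) - zmod2_add_self (beta e u w)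
      rw [this, commutator_def]
      exact Subgroup.commutator_mem_commutator (Subgroup.mem_top _) (Subgroup.mem_top _)
  refine ⟨⟨hP, le_antisymm ?_ ?_, le_antisymm hcomm hge⟩, card_center⟩
  · exact Cfsg.Agent.Lib.PGroups.frattini_le_of_pow_commutator _ hsq hcomm
  · exact hge.trans (Cfsg.Agent.Lib.PGroups.commutator_le_frattini hP)

/-- The sign. -/
def sgn (a : ZMod 2) : ℤ := if a = 0 then 1 else -1

theorem sgn_add (a b : ZMod 2) : sgn (a + b) = sgn a * sgn b := by revert a b; decide

theorem sgn_sum {ι : Type*} (s : Finset ι) (f : ι → ZMod 2) :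
    sgn (∑ i ∈ s, f i) = ∏ i ∈ s, sgn (f i) := by
  classical
  induction s using Finset.induction_on with
  | empty => simp [sgn]
  | insert i s hi ih => rw [Finset.sum_insert hi, Finset.prod_insert hi, sgn_add, ih]

theorem sum_sgn_q :
    ∑ v : Fin n → P, sgn (q e v) = ∏ i, (if e i = 0 then 2 else -2 : ℤ) := by
  have h1 : ∀ c : ZMod 2, ∑ x : P, sgn (beta1 c x x) = if c = 0 then 2 else -2 := by decide +kernel
  calc ∑ v : Fin n → P, sgn (q e v) = ∑ v : Fin n → P, ∏ i, sgn (beta1 (e i) (v i) (v i)) := by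
        simp only [q, beta, sgn_sum]
    _ = ∏ i, ∑ x : P, sgn (beta1 (e i) x x) :=
        (Fintype.prod_sum fun i x => sgn (beta1 (e i) x x)).symm
    _ = _ := Finset.prod_congr rfl fun i _ => h1 _

/-- A totally singular subgroup. -/
def Singular (e : Fin n → ZMod 2) (U : AddSubgroup (Fin n → P)) : Prop :=
  ∀ u ∈ U, q e u = 0

open Classical in
theorem inner_sum {U : AddSubgroup (Fin n → P)} (v : Fin n → P) :
    ∑ u : U, sgn (bil e v u) = if (∀ u ∈ U, bil e v u = 0) then (Nat.card U : ℤ) else 0 := by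
  split
  · rename_i h
    rw [Finset.sum_congr rfl fun u _ => by rw [h u u.2]]
    simp [sgn, Nat.card_eq_fintype_card]
  · rename_i h
    push Not at h
    obtain ⟨u₀, hu₀, hne⟩ := h
    have h1 : bil e v u₀ = 1 := by revert hne; generalize bil e v u₀ = a; revert a; decide
    have hneg : ∑ u : U, sgn (bil e v u) = ∑ u : U, - sgn (bil e v u) := by
      refine Fintype.sum_equiv (Equiv.addRight (⟨u₀, hu₀⟩ : U)) _ _ fun u => ?_
      show _ = - sgn (bil e v ((u : Fin n → P) + u₀))
      rw [bil_comm v, bil_comm v ((u : Fin n → P) + u₀), bil_add_left, sgn_add, bil_comm u₀, h1]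
      simp [sgn]
    rw [Finset.sum_neg_distrib] at hneg
    omega

open Classical in
theorem card_sq_le {U : AddSubgroup (Fin n → P)} (hU : ∀ u ∈ U, ∀ v ∈ U, bil e u v = 0) :
    Nat.card U * Nat.card U ≤ 2 ^ (2 * n) := by
  have hout : ∀ u : Fin n → P, ∑ v : Fin n → P, sgn (bil e v u) =
      if u = 0 then ((2 : ℤ) ^ (2 * n)) else 0 := by
    intro u
    split
    · rename_i h
      subst h
      simp [bil, beta_zero_left, beta_zero_right, sgn, pow_mul]
    · rename_i h
      obtain ⟨w, hw⟩ := exists_bil_ne (e := e) u h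
      have hneg : ∑ v : Fin n → P, sgn (bil e v u) = ∑ v : Fin n → P, - sgn (bil e v u) := by
        refine Fintype.sum_equiv (Equiv.addRight w) _ _ fun v => ?_
        show _ = - sgn (bil e (v + w) u)
        rw [bil_add_left, sgn_add, bil_comm w, hw]
        simp [sgn]
      rw [Finset.sum_neg_distrib] at hneg
      omega
  have h2 : (2 : ℤ) ^ (2 * n) = ∑ v : Fin n → P, ∑ u : U, sgn (bil e v u) := by
    rw [Finset.sum_comm]
    simp only [hout]
    rw [Finset.sum_eq_single (0 : U)]
    · simp
    · intro u _ hu; rw [if_neg]; simpa using hu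
    · simp
  have h3 : ((Nat.card U * Nat.card U : ℕ) : ℤ) ≤ 2 ^ (2 * n) := by
    rw [h2, Finset.sum_congr rfl fun v _ => inner_sum v, ← Finset.sum_filter, Finset.sum_const,
      nsmul_eq_mul, Nat.cast_mul]
    refine mul_le_mul_of_nonneg_right (Int.ofNat_le.2 ?_) (Int.natCast_nonneg _)
    rw [Nat.card_eq_fintype_card, Fintype.card_subtype]
    exact Finset.card_le_card fun v hv => by
      simp only [Finset.mem_filter, Finset.mem_univ, true_and] at hv ⊢
      exact fun u hu => hU v hv u hu
  exact_mod_cast h3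

open Classical in
theorem sum_nonneg_of_max {U : AddSubgroup (Fin n → P)} (hU : Singular e U)
    (hperp : ∀ v, (∀ u ∈ U, bil e v u = 0) → v ∈ U) : 0 ≤ ∑ v : Fin n → P, sgn (q e v) := by
  set S := ∑ v : Fin n → P, sgn (q e v) with hS
  have h1 : (Nat.card U : ℤ) * S = ∑ v : Fin n → P, sgn (q e v) * ∑ u : U, sgn (bil e v u) := by
    have h0 : ∀ u : U, ∑ v : Fin n → P, sgn (q e v) * sgn (bil e v u) = S := by
      intro u
      refine Fintype.sum_equiv (Equiv.addRight (u : Fin n → P)) _ _ fun v => ?_
      show _ = sgn (q e (v + u))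
      rw [q_add, hU u u.2, add_zero, sgn_add]
    simp only [Finset.mul_sum]
    rw [Finset.sum_comm, Finset.sum_congr rfl fun u _ => h0 u]
    simp [Nat.card_eq_fintype_card]
  have h2 : 0 ≤ (Nat.card U : ℤ) * S := by
    rw [h1]
    refine Finset.sum_nonneg fun v _ => ?_
    rw [inner_sum]
    split
    · rename_i h
      rw [hU v (hperp v h)]
      simp [sgn]
    · simp
  exact nonneg_of_mul_nonneg_right h2 (by exact_mod_cast Nat.card_pos (α := U))

/-- The subgroup liftU a totally singular subgroup. -/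
def liftU (U : AddSubgroup (Fin n → P)) : Subgroup (Ext e) where
  carrier := {a | a.vec ∈ U}
  mul_mem' ha hb := U.add_mem ha hb
  one_mem' := U.zero_mem
  inv_mem' ha := ha

theorem bil_eq_zero_of_singular {U : AddSubgroup (Fin n → P)} (hU : Singular e U) :
    ∀ u ∈ U, ∀ v ∈ U, bil e u v = 0 := by
  intro u hu v hv
  have := q_add (e := e) u v
  rw [hU u hu, hU v hv, hU _ (U.add_mem hu hv), zero_add, zero_add] at this
  exact this.symm

theorem liftU_elemAb {U : AddSubgroup (Fin n → P)} (hU : Singular e U) :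
    IsElementaryAbelian 2 (liftU (e := e) U) := by
  refine ⟨⟨⟨fun a b => Subtype.ext (Ext.ext ?_ ?_)⟩⟩, fun a ha => ?_⟩
  · show a.1.vec + b.1.vec = b.1.vec + a.1.vec
    exact add_comm _ _
  · show a.1.z + b.1.z + beta e a.1.vec b.1.vec = b.1.z + a.1.z + beta e b.1.vec a.1.vec
    have := bil_eq_zero_of_singular hU _ a.2 _ b.2
    rw [bil] at this
    linear_combination this - zmod2_add_self (beta e b.1.vec a.1.vec)
  · rw [pow_two]
    refine Ext.ext (add_self_vec _) ?_
    rw [mul_z, zmod2_add_self, zero_add, one_z]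
    exact hU _ ha

theorem card_liftU (U : AddSubgroup (Fin n → P)) :
    Nat.card (liftU (e := e) U) = 2 * Nat.card U := by
  rw [show 2 * Nat.card U = Nat.card (U × ZMod 2) by rw [Nat.card_prod, Nat.card_zmod, mul_comm]]
  exact Nat.card_congr
    { toFun := fun a => (⟨a.1.vec, a.2⟩, a.1.z)
      invFun := fun p => ⟨⟨p.1.1, p.2⟩, p.1.2⟩
      left_inv := fun _ => rfl
      right_inv := fun _ => rfl }

theorem elemAb_bound {A : Subgroup (Ext e)} (hA : IsElementaryAbelian 2 A) :
    ∃ U : AddSubgroup (Fin n → P), Singular e U ∧ Nat.card A ≤ 2 * Nat.card U := by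
  let U : AddSubgroup (Fin n → P) :=
    { carrier := {v | ∃ a ∈ A, a.vec = v}
      add_mem' := by rintro _ _ ⟨a, ha, rfl⟩ ⟨b, hb, rfl⟩; exact ⟨a * b, A.mul_mem ha hb, rfl⟩
      zero_mem' := ⟨1, A.one_mem, rfl⟩
      neg_mem' := by
        rintro _ ⟨a, ha, rfl⟩
        exact ⟨a, ha, (neg_eq_of_add_eq_zero_left (add_self_vec _)).symm⟩ }
  refine ⟨U, ?_, ?_⟩
  · rintro _ ⟨a, ha, rfl⟩
    have h : a ^ 2 = 1 := hA.2 a ha
    rw [pow_two] at h
    have := congrArg Ext.z h
    rw [mul_z, zmod2_add_self, zero_add, one_z] at this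
    exact this
  · rw [← card_liftU (e := e) U]
    exact Subgroup.card_le_of_le fun a ha => ⟨a, ha, rfl⟩

/-- The standard totally singular subgroup. -/
def stdU (e : Fin n → ZMod 2) : AddSubgroup (Fin n → P) where
  carrier := {v | ∀ i, (v i).1 = 0 ∧ (e i ≠ 0 → (v i).2 = 0)}
  add_mem' ha hb i := ⟨by simp [(ha i).1, (hb i).1], fun h => by simp [(ha i).2 h, (hb i).2 h]⟩
  zero_mem' i := ⟨rfl, fun _ => rfl⟩
  neg_mem' ha i := ⟨by simp [(ha i).1], fun h => by simp [(ha i).2 h]⟩

theorem stdU_singular : Singular e (stdU e) := by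
  intro v hv
  simp only [q, beta]
  refine Finset.sum_eq_zero fun i _ => ?_
  have key : ∀ (c : ZMod 2) (x : P), x.1 = 0 → (c ≠ 0 → x.2 = 0) → beta1 c x x = 0 := by
    decide +kernel
  exact key _ _ (hv i).1 (hv i).2

theorem card_stdU : Nat.card (stdU e) = ∏ i, (if e i = 0 then 2 else 1) := by
  have h1 : ∀ c : ZMod 2, Fintype.card {x : P // x.1 = 0 ∧ (c ≠ 0 → x.2 = 0)}
      = if c = 0 then 2 else 1 := by decide +kernel
  calc Nat.card (stdU e)
      = Nat.card (∀ i, {x : P // x.1 = 0 ∧ (e i ≠ 0 → x.2 = 0)}) :=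
        Nat.card_congr
          { toFun := fun v i => ⟨v.1 i, v.2 i⟩
            invFun := fun f => ⟨fun i => (f i).1, fun i => (f i).2⟩
            left_inv := fun _ => rfl
            right_inv := fun _ => rfl }
    _ = _ := by
      rw [Nat.card_pi]
      exact Finset.prod_congr rfl fun i _ => by rw [Nat.card_eq_fintype_card, h1]

end Cfsg.Agent.Lib.ThreeTranspositions.CocycleGroup
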