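import Cfsg.Agent.Lib.ThreeTranspositions.Structure
import Cfsg.Agent.Lib.ThreeTranspositions.QuatCentre

/-!
Components of a group generated by a class of 3-transpositions.
-/
set_option autoImplicit false

open Cfsg

namespace Cfsg.Agent.Lib.ThreeTranspositions

universe u

variable {G : Type u} [Group G] {D : Set G} {a b d : G}

theorem eq_one_of_perfect_to_comm {K A : Type*} [Group K] [Group A] (hK : Group.IsPerfect K)
    (hA : ∀ x y : A, x * y = y * x) (φ : K →* A) (x : K) : φ x = 1 := by
  have hker : φ.ker = ⊤ := by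
    rw [eq_top_iff]
    calc (⊤ : Subgroup K) = commutator K := hK.commutator_eq_top.symm
      _ ≤ φ.ker := by
        rw [commutator_def, Subgroup.commutator_le]
        intro g₁ _ g₂ _
        rw [MonoidHom.mem_ker, map_commutatorElement, commutatorElement_eq_one_iff_mul_comm]
        exact hA _ _
  exact MonoidHom.mem_ker.1 (hker ▸ Subgroup.mem_top x)

/-- An involution whose commutators with a quasisimple subgroup lie in a solvable subgroup
normalised by it centralises it. -/
theorem commute_quasisimple_of_solvable {K : Subgroup G} (hK : IsQuasisimple K) (hd : d * d = 1)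
    {B : Subgroup G} (hBK : B ≤ K) (hBn : ∀ l ∈ K, ∀ x ∈ B, l * x * l⁻¹ ∈ B)
    (hBs : Group.IsSolvable B) (hmem : ∀ l ∈ K, l * d * l⁻¹ * d ∈ B) : ∀ l ∈ K, Commute d l := by
  have hN : (B.subgroupOf K).Normal := ⟨fun x hx g => hBn g g.2 x hx⟩
  have hle : B.subgroupOf K ≤ Subgroup.center K := by
    refine (Components.Quasisimple.normal_le_center_or_eq_top hK hN).resolve_right fun h => ?_
    apply Components.Quasisimple.not_isSolvable hK
    have hKB : K ≤ B := Subgroup.subgroupOf_eq_top.1 h
    rwa [le_antisymm hKB hBK]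
  set f : K → K := fun l => ⟨(l : G) * d * (l : G)⁻¹ * d, hBK (hmem l l.2)⟩ with hf
  have hfz : ∀ l, f l ∈ Subgroup.center K := fun l => hle (hmem l l.2)
  have hdi : d⁻¹ = d := inv_eq_of_mul_eq_one_left hd
  let φ : K →* Subgroup.center K := MonoidHom.mk' (fun l => ⟨f l, hfz l⟩) (fun l m => Subtype.ext (by
    show f (l * m) = f l * f m
    rw [← Subgroup.mem_center_iff.1 (hfz l) (f m)]
    apply Subtype.ext
    show ((l * m : K) : G) * d * ((l * m : K) : G)⁻¹ * d
      = ((m : G) * d * (m : G)⁻¹ * d) * ((l : G) * d * (l : G)⁻¹ * d)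
    have e1 : (l : G) * ((m : G) * d * (m : G)⁻¹ * d) = ((m : G) * d * (m : G)⁻¹ * d) * l :=
      congrArg Subtype.val (Subgroup.mem_center_iff.1 (hfz m) l)
    calc ((l * m : K) : G) * d * ((l * m : K) : G)⁻¹ * d
        = (l : G) * ((m : G) * d * (m : G)⁻¹ * d) * (d⁻¹ * (l : G)⁻¹ * d) := by
          push_cast; group
      _ = _ := by rw [e1, hdi]; simp only [mul_assoc]))
  intro l hl
  have h1 := eq_one_of_perfect_to_comm hK.1
    (fun x y => Subtype.ext (Subgroup.mem_center_iff.1 y.2 x)) φ ⟨l, hl⟩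
  have h2 : l * d * l⁻¹ * d = 1 :=
    congrArg (fun z : Subgroup.center K => ((z : K) : G)) h1
  have h3 : l * d * l⁻¹ = d := by rw [eq_inv_of_mul_eq_one_left h2, hdi]
  show d * l = l * d
  conv_lhs => rw [← h3]
  group

/-- A finite simple group in which every element is of order at most three is commutative. -/
theorem comm_of_simple_two_three {Q : Type u} [Group Q] [Finite Q] [IsSimpleGroup Q]
    (h : ∀ x : Q, x ^ 2 = 1 ∨ x ^ 3 = 1) : ∀ x y : Q, x * y = y * x := by
  have hcomm : Subgroup.center Q = ⊤ → ∀ x y : Q, x * y = y * x := fun hc x y =>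
    Subgroup.mem_center_iff.1 (hc ▸ Subgroup.mem_top y) x
  have hcenter : ∀ z : Q, z ≠ 1 → z ∈ Subgroup.center Q → ∀ x y : Q, x * y = y * x := by
    intro z hz hzc
    refine hcomm ((IsSimpleGroup.eq_bot_or_eq_top_of_normal _ inferInstance).resolve_left fun hb => hz ?_)
    rwa [hb, Subgroup.mem_bot] at hzc
  set I : Set Q := {x | x * x = 1 ∧ x ≠ 1} with hI
  rcases I.eq_empty_or_nonempty with hempty | ⟨u, hu⟩
  · have h3 : ∀ x : Q, x ^ 3 = 1 := by
      intro x
      rcases h x with h2 | h3
      · by_cases hx : x = 1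
        · rw [hx, one_pow]
        · have : x ∈ I := ⟨(pow_two x).symm.trans h2, hx⟩
          rw [hempty] at this
          exact this.elim
      · exact h3
    haveI : Fact (Nat.Prime 3) := ⟨Nat.prime_three⟩
    have hP : IsPGroup 3 Q := fun x => ⟨1, by rw [pow_one]; exact h3 x⟩
    haveI := IsSimpleGroup.toNontrivial (G := Q)
    haveI := hP.center_nontrivial
    refine hcomm ((IsSimpleGroup.eq_bot_or_eq_top_of_normal _ inferInstance).resolve_left fun hb => ?_)
    exact (Subgroup.nontrivial_iff_ne_bot _).1 inferInstance hb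
  have hI' : IsClosedSet I := by
    refine ⟨⟨fun x hx => orderOf_eq_prime ((pow_two x).trans hx.1) hx.2, fun x _ y _ => h _⟩, ?_⟩
    intro g x hx
    refine ⟨?_, fun he => hx.2 ?_⟩
    · rw [show g * x * g⁻¹ * (g * x * g⁻¹) = g * (x * x) * g⁻¹ by group, hx.1]; group
    · exact conj_eq_one_iff.1 he
  have hS := hI'.1
  have hgen : Subgroup.closure I = ⊤ := by
    haveI := closure_normal hI'.2
    refine (IsSimpleGroup.eq_bot_or_eq_top_of_normal _ inferInstance).resolve_left fun hb => hu.2 ?_
    have := Subgroup.subset_closure hu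
    rwa [hb, SetLike.mem_coe, Subgroup.mem_bot] at this
  by_cases hpair : ∃ s ∈ I, ∃ t ∈ I, s ≠ t ∧ Commute s t
  · obtain ⟨s, hs, t, ht, hst, hc⟩ := hpair
    refine hcenter s hs.2 (mem_center_of_commute_gen hgen fun f hf => ?_)
    by_contra hn
    have hsf := ne_of_not_commute hn
    by_cases htf : Commute t f
    · -- `s`, `f` generate `S₃`, centralised by `t`
      set x := s * f with hx
      have htx : Commute t x := hc.symm.mul_right htf
      have hx3 : x ^ 3 = 1 := cube_eq_one hS hs hf hn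
      have hx2 : x ^ 2 ≠ 1 := fun h2 => hn (commute_of_sq_eq_one hs.1 hf.1 h2)
      rcases h (x * t) with h' | h'
      · rw [htx.symm.mul_pow, pow_two t, ht.1, mul_one] at h'
        exact hx2 h'
      · rw [htx.symm.mul_pow, hx3, one_mul, pow_succ, pow_two, ht.1, one_mul] at h'
        exact ht.2 h'
    · set φ := s4Hom hs.1 hf.1 ht.1 hc (braid hS hs hf hn) (braid hS hf ht (not_commute_symm htf))
      have hinj : Function.Injective φ := s4Hom_injective _ _ _ _ _ _ hst
      rcases h (φ (Equiv.swap 0 1 * Equiv.swap 1 2 * Equiv.swap 2 3)) with h' | h' <;>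
        rw [← map_pow, ← map_one φ] at h' <;>
        exact absurd (hinj h') (by decide +kernel)
  · push Not at hpair
    have hw : ∀ s ∈ I, ∀ t ∈ I, Commute s t → s = t := fun s hs t ht hc => by
      by_contra hne
      exact hpair s hs t ht hne hc
    haveI : Fact (Nat.Prime 3) := ⟨Nat.prime_three⟩
    rcases IsSimpleGroup.eq_bot_or_eq_top_of_normal (pCore 3 Q) inferInstance with hb | htop
    · refine hcenter u hu.2 (mem_center_of_commute_gen hgen fun f hf => ?_)
      have h1 := width_one_mul_mem quaternionCentre hI' hw hu hf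
      rw [hb, Subgroup.mem_bot] at h1
      rw [eq_inv_of_mul_eq_one_left h1, inv_eq hS hf]
    · exfalso
      obtain ⟨k, hk⟩ := Cores.pCore_isPGroup 3 (⟨u, htop ▸ Subgroup.mem_top u⟩ : pCore 3 Q)
      have hk' : u ^ 3 ^ k = 1 := by simpa [Subtype.ext_iff] using hk
      have h2 := pow_gcd_eq_one.2 ⟨(pow_two u).trans hu.1, hk'⟩
      rw [show Nat.gcd 2 (3 ^ k) = 1 from Nat.Coprime.pow_right k (by norm_num), pow_one] at h2
      exact hu.2 h2

variable [Finite G]

/-- A normalised, not centralised quasisimple subgroup gives commuting and non-commuting conjugates. -/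
theorem exists_pairs_of_not_centralized (hC : IsClosedSet D) (hd : d ∈ D) {K : Subgroup G}
    (hK : IsQuasisimple K) (hdK : ∀ x ∈ K, d * x * d ∈ K) (hn : ¬ ∀ l ∈ K, Commute d l) :
    (∃ l ∈ K, l * d * l⁻¹ ≠ d ∧ Commute (l * d * l⁻¹) d) ∧
      ∃ l ∈ K, ¬ Commute (l * d * l⁻¹) d := by
  have hS := hC.1
  set S : Set G := {x | ∃ l ∈ K, x = l * d * l⁻¹} with hSdef
  have hSD : S ⊆ D := by rintro _ ⟨l, -, rfl⟩; exact hC.2 l d hd
  have hSd : d ∈ S := ⟨1, one_mem _, by group⟩
  have hlS : ∀ l ∈ K, ∀ x ∈ S, l * x * l⁻¹ ∈ S := by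
    rintro l hl _ ⟨m, hm, rfl⟩
    exact ⟨l * m, mul_mem hl hm, by group⟩
  have shift : ∀ l ∈ K, ∀ m ∈ K, (l * d * l⁻¹ = m * d * m⁻¹ ↔ (m⁻¹ * l) * d * (m⁻¹ * l)⁻¹ = d) ∧
      (Commute (l * d * l⁻¹) (m * d * m⁻¹) ↔ Commute ((m⁻¹ * l) * d * (m⁻¹ * l)⁻¹) d) := by
    intro l _ m _
    constructor
    · constructor
      · intro h
        calc (m⁻¹ * l) * d * (m⁻¹ * l)⁻¹ = m⁻¹ * (l * d * l⁻¹) * m := by group
          _ = d := by rw [h]; group
      · intro h
        calc l * d * l⁻¹ = m * ((m⁻¹ * l) * d * (m⁻¹ * l)⁻¹) * m⁻¹ := by group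
          _ = m * d * m⁻¹ := by rw [h]
    · rw [← Commute.conj_iff m⁻¹]
      rw [show m⁻¹ * (l * d * l⁻¹) * m⁻¹⁻¹ = (m⁻¹ * l) * d * (m⁻¹ * l)⁻¹ by group,
        show m⁻¹ * (m * d * m⁻¹) * m⁻¹⁻¹ = d by group]
  have hmemK : ∀ l ∈ K, l * d * l⁻¹ * d ∈ K := by
    intro l hl
    have h2 := mul_mem hl (hdK l⁻¹ (inv_mem hl))
    convert h2 using 1
    simp only [mul_assoc]
  have finish : ∀ A : Subgroup G, (∀ l ∈ K, ∀ x ∈ A, l * x * l⁻¹ ∈ A) →
      Group.IsSolvable (A ⊓ K : Subgroup G) → (∀ l ∈ K, l * d * l⁻¹ * d ∈ A) →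
      ∀ l ∈ K, Commute d l := fun A hAn hAs hmem =>
    commute_quasisimple_of_solvable hK (mul_self hS hd) inf_le_right
      (fun l hl x hx => ⟨hAn l hl x hx.1, K.mul_mem (K.mul_mem hl hx.2) (K.inv_mem hl)⟩) hAs
      (fun l hl => ⟨hmem l hl, hmemK l hl⟩)
  constructor
  · by_contra hnone
    push Not at hnone
    apply hn
    have hw : ∀ x ∈ S, ∀ y ∈ S, Commute x y → x = y := by
      rintro _ ⟨l, hl, rfl⟩ _ ⟨m, hm, rfl⟩ hxy
      by_contra hne
      exact hnone _ (mul_mem (inv_mem hm) hl) (mt (shift l hl m hm).1.2 hne) ((shift l hl m hm).2.1 hxy)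
    set H := Subgroup.closure S with hH
    have hHS : ∀ g ∈ H, ∀ x ∈ S, g * x * g⁻¹ ∈ S := by
      intro g hg
      induction hg using Subgroup.closure_induction with
      | mem y hy =>
        rintro x ⟨l, hl, rfl⟩
        obtain ⟨m, hm, rfl⟩ := hy
        refine ⟨m * (d * (m⁻¹ * l) * d), mul_mem hm (hdK _ (mul_mem (inv_mem hm) hl)), ?_⟩
        have hdd : ∀ z : G, d * (d * z) = z := mul_self_assoc hS hd
        simp only [mul_assoc, mul_inv_rev, inv_inv, inv_eq hS hd, hdd]
      | one => intro x hx; simpa using hx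
      | mul y z _ _ hy hz => intro x hx; convert hy _ (hz x hx) using 1; group
      | inv y _ hy =>
        intro x hx
        have hinj : Set.InjOn (fun c => y * c * y⁻¹) S := fun c _ c' _ h => conj_injective h
        have himg : (fun c => y * c * y⁻¹) '' S = S :=
          Set.eq_of_subset_of_ncard_le (by rintro _ ⟨c, hc, rfl⟩; exact hy c hc)
            (le_of_eq (hinj.ncard_image).symm) (Set.toFinite _)
        rw [← himg] at hx
        obtain ⟨c, hc, rfl⟩ := hx
        convert hc using 1
        group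
    set E : Set H := {x | (x : G) ∈ S}
    have hE : IsClosedSet E := by
      refine ⟨⟨fun x hx => ?_, fun x hx y hy => ?_⟩, fun g x hx => hHS g g.2 _ hx⟩
      · rw [← Subgroup.orderOf_coe]; exact hS.1 _ (hSD hx)
      · rcases hS.2 _ (hSD hx) _ (hSD hy) with h | h
        · exact Or.inl (Subtype.ext (by simpa using h))
        · exact Or.inr (Subtype.ext (by simpa using h))
    have hwE : ∀ x ∈ E, ∀ y ∈ E, Commute x y → x = y := fun x hx y hy h =>
      Subtype.ext (hw _ hx _ hy (h.map H.subtype))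
    set B := Subgroup.closure {x : G | ∃ a ∈ S, ∃ b ∈ S, x = a * b} with hB
    have hBP : B ≤ (pCore 3 H).map H.subtype := by
      rw [hB, Subgroup.closure_le]
      rintro _ ⟨a, ha, b, hb, rfl⟩
      exact ⟨⟨a, Subgroup.subset_closure ha⟩ * ⟨b, Subgroup.subset_closure hb⟩,
        width_one_mul_mem quaternionCentre hE hwE ha hb, rfl⟩
    refine finish B ?_ ?_ fun l hl => Subgroup.subset_closure ⟨_, ⟨l, hl, rfl⟩, d, hSd, rfl⟩
    · intro l hl x hx
      induction hx using Subgroup.closure_induction with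
      | mem x hx =>
        obtain ⟨a, ha, b, hb, rfl⟩ := hx
        exact Subgroup.subset_closure ⟨_, hlS l hl a ha, _, hlS l hl b hb, by group⟩
      | one => simp
      | mul y z _ _ hy hz => convert mul_mem hy hz using 1; group
      | inv y _ hy => convert inv_mem hy using 1; group
    · haveI : Fact (Nat.Prime 3) := ⟨Nat.prime_three⟩
      exact Coprime.isSolvable_of_isPGroup
        (((Cores.pCore_isPGroup 3).map H.subtype).to_le (inf_le_left.trans hBP))
  · by_contra hnone
    push Not at hnone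
    apply hn
    have hpair : ∀ x ∈ S, ∀ y ∈ S, Commute x y := by
      rintro _ ⟨l, hl, rfl⟩ _ ⟨m, hm, rfl⟩
      exact (shift l hl m hm).2.2 (hnone _ (mul_mem (inv_mem hm) hl))
    refine finish (Subgroup.closure S) ?_ ?_ fun l hl =>
      mul_mem (Subgroup.subset_closure ⟨l, hl, rfl⟩) (Subgroup.subset_closure hSd)
    · intro l hl x hx
      induction hx using Subgroup.closure_induction with
      | mem x hx => exact Subgroup.subset_closure (hlS l hl x hx)
      | one => simp
      | mul y z _ _ hy hz => convert mul_mem hy hz using 1; group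
      | inv y _ hy => convert inv_mem hy using 1; group
    · haveI : IsMulCommutative (Subgroup.closure S) :=
        Subgroup.isMulCommutative_closure fun x hx y hy => (hpair x hx y hy).eq
      haveI : IsMulCommutative (Subgroup.closure S ⊓ K : Subgroup G) := ⟨⟨fun x y => Subtype.ext (by
        simpa using congrArg Subtype.val
          ((inferInstance : IsMulCommutative (Subgroup.closure S)).is_comm.comm
            ⟨(x : G), x.2.1⟩ ⟨(y : G), y.2.1⟩))⟩⟩
      exact Coprime.isSolvable_of_isMulCommutative _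

theorem not_centralizes_normal (hD : IsThreeTranspositionClass D) {K : Subgroup G} [K.Normal]
    (hK : IsQuasisimple K) (hd : d ∈ D) : ¬ ∀ l ∈ K, Commute d l := by
  intro h
  apply Components.Quasisimple.not_isMulCommutative hK
  refine ⟨⟨fun x y => Subtype.ext ?_⟩⟩
  have hc : (x : G) ∈ Subgroup.center G := mem_center_of_commute_gen hD.2.2 fun e he => by
    obtain ⟨g, rfl⟩ := class_exists_conj hD hd he
    have h1 := (Commute.conj_iff g).2 (h _ ((inferInstance : K.Normal).conj_mem _ x.2 g⁻¹))
    rw [show g * (g⁻¹ * (x : G) * g⁻¹⁻¹) * g⁻¹ = x by group] at h1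
    exact h1.symm
  exact (Subgroup.mem_center_iff.1 hc y).symm

theorem component_normal (hD : IsThreeTranspositionClass D) {K : Subgroup G} (hK : IsComponent K) :
    K.Normal := by
  have hC := isClosedSet_of_class hD
  have hS := hC.1
  have hstab : ∀ d ∈ D, K.map (MulAut.conj d).toMonoidHom = K := by
    intro d hd
    by_contra hne
    have hcc := Components.Component.le_centralizer_of_ne (Components.Component.conj hK d) hK hne
    apply Components.Quasisimple.not_isMulCommutative hK.2
    have hxn : ∀ x : K, x ^ 2 ∈ Subgroup.center K ∨ x ^ 3 ∈ Subgroup.center K := by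
      intro x
      have key : ∀ n : ℕ, (d * ((x : G) * d * (x : G)⁻¹)) ^ n = 1 → x ^ n ∈ Subgroup.center K := by
        intro n hn
        have hx' : d * x * d ∈ K.map (MulAut.conj d).toMonoidHom :=
          ⟨x, x.2, show d * (x : G) * d⁻¹ = d * x * d by rw [inv_eq hS hd]⟩
        have hcomm : Commute (d * x * d) (x : G)⁻¹ :=
          (show Commute (d * x * d) (x : G) from (Subgroup.mem_centralizer_iff.1 (hcc hx') x x.2).symm).inv_right
        rw [show d * ((x : G) * d * (x : G)⁻¹) = (d * x * d) * (x : G)⁻¹ by simp only [mul_assoc],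
          hcomm.mul_pow, inv_pow, mul_inv_eq_one] at hn
        refine Subgroup.mem_center_iff.2 fun y => Subtype.ext ?_
        show (y : G) * ((x ^ n : K) : G) = ((x ^ n : K) : G) * y
        rw [SubmonoidClass.coe_pow, ← hn]
        exact Subgroup.mem_centralizer_iff.1 (hcc (pow_mem hx' n)) y y.2
      exact (hS.2 d hd _ (hC.2 x d hd)).imp (key 2) (key 3)
    haveI : IsSimpleGroup (K ⧸ Subgroup.center K) := hK.2.2
    have hq := comm_of_simple_two_three (Q := K ⧸ Subgroup.center K) (by
      intro z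
      obtain ⟨x, rfl⟩ := QuotientGroup.mk'_surjective _ z
      rcases hxn x with h | h
      · exact Or.inl (by rw [← map_pow]; exact (QuotientGroup.eq_one_iff _).2 h)
      · exact Or.inr (by rw [← map_pow]; exact (QuotientGroup.eq_one_iff _).2 h))
    refine ⟨⟨fun x y => ?_⟩⟩
    exact (Subgroup.mem_center_iff.1 ((QuotientGroup.eq_one_iff x).1
      (eq_one_of_perfect_to_comm hK.2.1 hq (QuotientGroup.mk' _) x)) y).symm
  rw [← Subgroup.normalizer_eq_top_iff, eq_top_iff, ← hD.2.2, Subgroup.closure_le]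
  intro d hd
  refine Subgroup.mem_normalizer_iff.2 fun y => ⟨fun hy => ?_, fun hy => ?_⟩
  · rw [← hstab d hd]; exact ⟨y, hy, rfl⟩
  · have h2 : d * (d * y * d⁻¹) * d⁻¹ ∈ K := by rw [← hstab d hd]; exact ⟨_, hy, rfl⟩
    rwa [inv_eq hS hd, show d * (d * y * d) * d = y by
      simp only [mul_assoc, mul_self hS hd, mul_one]; rw [← mul_assoc, mul_self hS hd, one_mul]] at h2

theorem component_unique (hD : IsThreeTranspositionClass D) (hd : d ∈ D) {K K' : Subgroup G}
    (hK : IsComponent K) (hK' : IsComponent K') : K = K' := by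
  by_contra hne
  have hC := isClosedSet_of_class hD
  have hS := hC.1
  haveI := component_normal hD hK
  haveI := component_normal hD hK'
  have hdK : ∀ (L : Subgroup G) [L.Normal], ∀ x ∈ L, d * x * d ∈ L := fun L _ x hx => by
    have := (inferInstance : L.Normal).conj_mem x hx d
    rwa [inv_eq hS hd] at this
  obtain ⟨-, x, hx, hxc⟩ := exists_pairs_of_not_centralized hC hd hK.2 (hdK K)
    (not_centralizes_normal hD hK.2 hd)
  obtain ⟨⟨y, hy, hyne, hyc⟩, -⟩ := exists_pairs_of_not_centralized hC hd hK'.2 (hdK K')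
    (not_centralizes_normal hD hK'.2 hd)
  set u := x * d * x⁻¹ * d with hu
  set v := y * d * y⁻¹ * d with hv
  have hvK' : v ∈ K' := by
    have := mul_mem hy (hdK K' y⁻¹ (inv_mem hy))
    convert this using 1
    simp only [hv, mul_assoc]
  have huK : u ∈ K := by
    have := mul_mem hx (hdK K x⁻¹ (inv_mem hx))
    convert this using 1
    simp only [hu, mul_assoc]
  have hcc := Components.Component.le_centralizer_of_ne hK hK' hne
  have hxv : Commute x v := (Subgroup.mem_centralizer_iff.1 (hcc hx) v hvK').symm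
  have huv : Commute u v := (Subgroup.mem_centralizer_iff.1 (hcc huK) v hvK').symm
  have hu3 : u ^ 3 = 1 := cube_eq_one hS (hC.2 x d hd) hd hxc
  have hu2 : u ^ 2 ≠ 1 := fun h => hxc (commute_of_sq_eq_one (mul_self hS (hC.2 x d hd)) (mul_self hS hd) h)
  have hv2 : v ^ 2 = 1 := sq_eq_one_of_commute (mul_self hS (hC.2 y d hd)) (mul_self hS hd) hyc
  have hv1 : v ≠ 1 := fun h => hyne (by rw [eq_inv_of_mul_eq_one_left h, inv_eq hS hd])
  have hprod : (x * y) * d * (x * y)⁻¹ * d = v * u := by
    calc (x * y) * d * (x * y)⁻¹ * d = x * (y * d * y⁻¹ * d) * (d⁻¹ * x⁻¹ * d) := by group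
      _ = v * u := by rw [← hv, hxv.eq, hu, inv_eq hS hd]; simp only [mul_assoc]
  rcases hS.2 _ (hC.2 (x * y) d hd) d hd with h | h <;> rw [hprod, huv.symm.mul_pow] at h
  · rw [hv2, one_mul] at h
    exact hu2 h
  · rw [hu3, mul_one, pow_succ, hv2, one_mul] at h
    exact hv1 h

theorem inv_mul_mem_quasisimple (hD : IsThreeTranspositionClass D) {L : Subgroup G} [L.Normal]
    (hL : IsQuasisimple L) (ha : a ∈ D) (hb : b ∈ D) (h : a * b * a⁻¹ * b⁻¹ ∈ L) :
    a⁻¹ * b ∈ L := by
  have hC := isClosedSet_of_class hD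
  have hS := hC.1
  rw [inv_eq hS ha] at h ⊢
  rw [inv_eq hS hb] at h
  have cube : ∀ p q, p ∈ D → q ∈ D → ¬ Commute p q → p * q * p * q ∈ L → p * q ∈ L := by
    intro p q hp hq hn hm
    have h3 := cube_eq_one hS hp hq hn
    have h1 : p * q = (p * q * p * q)⁻¹ :=
      eq_inv_of_mul_eq_one_left (by rw [← h3, pow_succ, pow_two]; simp only [mul_assoc])
    rw [h1]; exact inv_mem hm
  by_cases hab : Commute a b
  swap
  · exact cube a b ha hb hab h
  by_contra hn
  set π := QuotientGroup.mk' L
  set H := Subgroup.closure {x : G | ∃ l ∈ L, x = l * a * l⁻¹} with hH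
  have hHb : H ≤ Subgroup.centralizer ({b} : Set G) := by
    rw [hH, Subgroup.closure_le]
    rintro _ ⟨l, hl, rfl⟩
    refine Subgroup.mem_centralizer_singleton_iff.2 ?_
    by_contra hne
    apply hn
    have hπl : π l = 1 := (QuotientGroup.eq_one_iff l).2 hl
    have hπ : π (l * a * l⁻¹) = π a := by rw [map_mul, map_mul, map_inv, hπl]; simp
    have h1 := cube _ b (hC.2 l a ha) hb hne (by
      rw [← QuotientGroup.eq_one_iff]
      show π _ = 1
      simp only [map_mul, map_inv, hπl, one_mul, inv_one, mul_one]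
      have h2 : π (a * b * a * b) = 1 := (QuotientGroup.eq_one_iff _).2 h
      simpa only [map_mul] using h2)
    rw [← QuotientGroup.eq_one_iff] at h1 ⊢
    show π (a * b) = 1
    change π (l * a * l⁻¹ * b) = 1 at h1
    rwa [map_mul, hπ, ← map_mul] at h1
  have hN : (H.subgroupOf L).Normal := by
    refine ⟨fun x hx g => ?_⟩
    change (g : G) * x * (g : G)⁻¹ ∈ H
    have hgen : ∀ y ∈ H, (g : G) * y * (g : G)⁻¹ ∈ H := by
      intro y hy
      induction hy using Subgroup.closure_induction with
      | mem y hy =>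
        obtain ⟨l, hl, rfl⟩ := hy
        exact Subgroup.subset_closure ⟨g * l, mul_mem g.2 hl, by group⟩
      | one => simp
      | mul y z _ _ hy hz => convert mul_mem hy hz using 1; group
      | inv y _ hy => convert inv_mem hy using 1; group
    exact hgen _ hx
  rcases Components.Quasisimple.normal_le_center_or_eq_top hL hN with hc | htop
  · refine not_centralizes_normal hD hL ha (commute_quasisimple_of_solvable hL (mul_self hS ha)
      (B := H ⊓ L) inf_le_right ?_ ?_ ?_)
    · intro l hl x hx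
      exact ⟨hN.conj_mem ⟨x, hx.2⟩ hx.1 ⟨l, hl⟩, L.mul_mem (L.mul_mem hl hx.2) (L.inv_mem hl)⟩
    · haveI : IsMulCommutative (H ⊓ L : Subgroup G) := ⟨⟨fun x y => Subtype.ext
        (show (x : G) * y = y * x from congrArg (fun z : L => (z : G)) (Subgroup.mem_center_iff.1
          (hc (show (⟨(y : G), y.2.2⟩ : L) ∈ H.subgroupOf L from y.2.1)) ⟨(x : G), x.2.2⟩))⟩⟩
      exact Coprime.isSolvable_of_isMulCommutative _
    · intro l hl
      refine ⟨mul_mem (Subgroup.subset_closure ⟨l, hl, rfl⟩)
        (Subgroup.subset_closure ⟨1, one_mem _, by group⟩), ?_⟩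
      have := mul_mem hl ((inferInstance : L.Normal).conj_mem _ (inv_mem hl) a)
      show l * a * l⁻¹ * a ∈ L
      rw [inv_eq hS ha] at this
      simpa only [mul_assoc] using this
  · refine not_centralizes_normal hD hL hb fun l hl => ?_
    exact (Subgroup.mem_centralizer_singleton_iff.1
      (hHb (Subgroup.subgroupOf_eq_top.1 htop hl))).symm

end Cfsg.Agent.Lib.ThreeTranspositions
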