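import Mathlib
import Cfsg.Agent.Lib.AutPSL.Sylow
import Cfsg.Agent.Lib.Multiplier.Sylow

/-!
Central extensions of `PSL(3,4)` by elementary abelian two-groups: the kernel has order at most four.

The root groups have canonical lifts (torus commutators); the only unknown is the bilinear
torus-invariant defect of the commutator of two simple root groups, and by transfer the kernel
lies in the derived group of the preimage of the unitriangular group.
-/
set_option autoImplicit false

open scoped commutatorElement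

namespace Cfsg.Agent.Lib.ThreeTranspositions.CoverPSL34

universe u

variable {F : Type} [Field F]

/-- `SL(3,F)`. -/
abbrev SL3 (F : Type) [Field F] : Type := Matrix.SpecialLinearGroup (Fin 3) F
/-- `PSL(3,F)`. -/
abbrev PSL3 (F : Type) [Field F] : Type := Matrix.ProjectiveSpecialLinearGroup (Fin 3) F

/-- A unitriangular element. -/
def U (a b c : F) : (SL3 F) :=
  ⟨!![1, a, c; 0, 1, b; 0, 0, 1], by simp [Matrix.det_fin_three]⟩

theorem U_mul (a b c a' b' c' : F) :
    U a b c * U a' b' c' = U (a + a') (b + b') (c + c' + a * b') := by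
  apply Subtype.ext
  rw [Matrix.SpecialLinearGroup.coe_mul]
  ext i j
  fin_cases i <;> fin_cases j <;> simp [U, Matrix.SpecialLinearGroup.coe_mul, Matrix.mul_apply, Fin.sum_univ_three] <;> ring

theorem U_zero : U (0 : F) 0 0 = 1 := by
  apply Subtype.ext
  ext i j
  fin_cases i <;> fin_cases j <;> simp [U]

/-- The image of a unitriangular element. -/
def V (a b c : F) : (PSL3 F) := QuotientGroup.mk (U a b c)

theorem V_mul (a b c a' b' c' : F) :
    V a b c * V a' b' c' = V (a + a') (b + b') (c + c' + a * b') := by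
  show (QuotientGroup.mk (U a b c * U a' b' c') : (PSL3 F)) = _
  rw [U_mul]; rfl

theorem V_zero : V (0 : F) 0 0 = 1 := by rw [V, U_zero]; rfl

theorem V_inj_third {c : F} (h : V 0 0 c = 1) : c = 0 := by
  obtain ⟨r, hr⟩ := (AutPSL.mk_eq_one_iff _).1 h
  have h1 := congrFun (congrFun hr 0) 2
  simpa [U] using h1

def rx (a : F) : (PSL3 F) := V a 0 0
def ry (b : F) : (PSL3 F) := V 0 b 0
def rz (c : F) : (PSL3 F) := V 0 0 c

theorem rx_add (a b : F) : rx (a + b) = rx a * rx b := by simp [rx, V_mul]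
theorem ry_add (a b : F) : ry (a + b) = ry a * ry b := by simp [ry, V_mul]
theorem rz_add (a b : F) : rz (a + b) = rz a * rz b := by simp [rz, V_mul]

theorem rx_rz (a c : F) : rx a * rz c = rz c * rx a := by simp [rx, rz, V_mul]
theorem ry_rz (a c : F) : ry a * rz c = rz c * ry a := by simp [ry, rz, V_mul]

theorem rx_ry (a b : F) : ⁅rx a, ry b⁆ = rz (a * b) := by
  rw [commutatorElement_def, mul_inv_eq_iff_eq_mul, mul_inv_eq_iff_eq_mul]
  simp [rx, ry, rz, V_mul]

theorem V_eq (a b c : F) : V a b c = ry b * rx a * rz c := by simp [rx, ry, rz, V_mul]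

variable [CharP F 2]

/-- The transposition of the last two coordinates. -/
def swapX : (SL3 F) :=
  ⟨!![1, 0, 0; 0, 0, 1; 0, 1, 0], by simp [Matrix.det_fin_three, CharTwo.neg_eq]⟩

/-- The transposition of the first two coordinates. -/
def swapY : (SL3 F) :=
  ⟨!![0, 1, 0; 1, 0, 0; 0, 0, 1], by simp [Matrix.det_fin_three, CharTwo.neg_eq]⟩

theorem swapX_conj (c : F) :
    (QuotientGroup.mk (swapX : (SL3 F)) : (PSL3 F)) * rz c * (QuotientGroup.mk (swapX : (SL3 F)) : (PSL3 F))⁻¹ = rx c := by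
  rw [mul_inv_eq_iff_eq_mul]
  show (QuotientGroup.mk (swapX * U 0 0 c) : (PSL3 F)) = QuotientGroup.mk (U c 0 0 * swapX)
  congr 1
  apply Subtype.ext
  simp only [Matrix.SpecialLinearGroup.coe_mul]
  ext i j
  fin_cases i <;> fin_cases j <;> simp [U, swapX, Matrix.SpecialLinearGroup.coe_mul, Matrix.mul_apply, Fin.sum_univ_three]

theorem swapY_conj (c : F) :
    (QuotientGroup.mk (swapY : (SL3 F)) : (PSL3 F)) * rz c * (QuotientGroup.mk (swapY : (SL3 F)) : (PSL3 F))⁻¹ = ry c := by
  rw [mul_inv_eq_iff_eq_mul]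
  show (QuotientGroup.mk (swapY * U 0 0 c) : (PSL3 F)) = QuotientGroup.mk (U 0 c 0 * swapY)
  congr 1
  apply Subtype.ext
  simp only [Matrix.SpecialLinearGroup.coe_mul]
  ext i j
  fin_cases i <;> fin_cases j <;> simp [U, swapY, Matrix.SpecialLinearGroup.coe_mul, Matrix.mul_apply, Fin.sum_univ_three]

omit [CharP F 2] in
/-- The torus element. -/
def torus (w : F) (hw : w ^ 3 = 1) : (SL3 F) :=
  ⟨!![1, 0, 0; 0, w, 0; 0, 0, w ^ 2], by simp [Matrix.det_fin_three]; linear_combination hw⟩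

omit [CharP F 2] in
theorem torus_conj (w : F) (hw : w ^ 3 = 1) (a b c : F) :
    (QuotientGroup.mk (torus w hw) : (PSL3 F)) * V a b c * (QuotientGroup.mk (torus w hw) : (PSL3 F))⁻¹ =
      V (w ^ 2 * a) (w ^ 2 * b) (w * c) := by
  rw [mul_inv_eq_iff_eq_mul]
  show (QuotientGroup.mk (torus w hw * U a b c) : (PSL3 F)) =
    QuotientGroup.mk (U (w ^ 2 * a) (w ^ 2 * b) (w * c) * torus w hw)
  congr 1
  apply Subtype.ext
  simp only [Matrix.SpecialLinearGroup.coe_mul]
  ext i j
  fin_cases i <;> fin_cases j <;> simp [U, torus, Matrix.SpecialLinearGroup.coe_mul, Matrix.mul_apply, Fin.sum_univ_three]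
  · linear_combination -a * hw
  · linear_combination -c * hw
  · linear_combination -w * b * hw

/-! ### The extension -/

variable {L : Type u} [Group L]

omit [CharP F 2] in
/-- Commutators only depend on cosets of the centre. -/
theorem comm_central {x y k l : L} (hk : k ∈ Subgroup.center L) (hl : l ∈ Subgroup.center L) :
    ⁅x * k, y * l⁆ = ⁅x, y⁆ := by
  have e1 : ∀ v : L, k * v = v * k := fun v => (Subgroup.mem_center_iff.1 hk v).symm
  have e2 : ∀ v : L, l * v = v * l := fun v => (Subgroup.mem_center_iff.1 hl v).symm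
  rw [commutatorElement_def, commutatorElement_def, mul_inv_rev, mul_inv_rev]
  calc x * k * (y * l) * (k⁻¹ * x⁻¹) * (l⁻¹ * y⁻¹)
      = x * (k * (y * l)) * k⁻¹ * x⁻¹ * (l⁻¹ * y⁻¹) := by group
    _ = x * y * (l * x⁻¹) * l⁻¹ * y⁻¹ := by rw [e1 (y * l)]; group
    _ = x * y * x⁻¹ * y⁻¹ := by rw [e2 x⁻¹]; group

/-- The preimage of a root group is abelian. -/
def AbRoot (pr : L →* (PSL3 F)) (r : F → (PSL3 F)) : Prop :=
  ∀ g g' : L, (∃ a, pr g = r a) → (∃ b, pr g' = r b) → Commute g g'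

structure CExt (pr : L →* (PSL3 F)) : Prop where
  surj : Function.Surjective pr
  central : pr.ker ≤ Subgroup.center L
  sq : ∀ k ∈ pr.ker, k * k = 1


variable {pr : L →* (PSL3 F)} (E : CExt pr)
include E

omit [CharP F 2] in
theorem eq_of_image {g g' : L} (h : pr g = pr g') : ∃ k ∈ pr.ker, g' = g * k :=
  ⟨g⁻¹ * g', by rw [MonoidHom.mem_ker, map_mul, map_inv, h, inv_mul_cancel], by group⟩

omit [CharP F 2] in
theorem abRoot_conj {r r' : F → (PSL3 F)} (h : AbRoot pr r) (s : (PSL3 F))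
    (hs : ∀ a, s * r a * s⁻¹ = r' a) : AbRoot pr r' := by
  obtain ⟨t, rfl⟩ := E.surj s
  rintro g g' ⟨a, ha⟩ ⟨b, hb⟩
  have := h (t⁻¹ * g * t⁻¹⁻¹) (t⁻¹ * g' * t⁻¹⁻¹)
    ⟨a, by rw [inv_inv, map_mul, map_mul, map_inv, ha, ← hs]; group⟩
    ⟨b, by rw [inv_inv, map_mul, map_mul, map_inv, hb, ← hs]; group⟩
  exact (Commute.conj_iff t⁻¹).1 this

omit [CharP F 2] in
theorem abRoot_rz : AbRoot pr (rz (F := F)) := by
  rintro g g' ⟨a, ha⟩ ⟨b, hb⟩
  obtain ⟨x, hx⟩ := E.surj (rx b)
  obtain ⟨y, hy⟩ := E.surj (ry 1)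
  obtain ⟨k, hk, rfl⟩ := eq_of_image (g := ⁅x, y⁆) (g' := g') E
    (by rw [map_commutatorElement, hx, hy, rx_ry, mul_one, hb])
  refine Commute.mul_right ?_ (Subgroup.mem_center_iff.1 (E.central hk) g)
  obtain ⟨u, hu, hgx⟩ := eq_of_image (g := x) (g' := g * x * g⁻¹) E
    (by rw [map_mul, map_mul, map_inv, ha, hx, ← rx_rz]; group)
  obtain ⟨v, hv, hgy⟩ := eq_of_image (g := y) (g' := g * y * g⁻¹) E
    (by rw [map_mul, map_mul, map_inv, ha, hy, ← ry_rz]; group)
  have : g * ⁅x, y⁆ * g⁻¹ = ⁅x, y⁆ := by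
    calc g * ⁅x, y⁆ * g⁻¹ = ⁅g * x * g⁻¹, g * y * g⁻¹⁆ := by simp only [commutatorElement_def]; group
      _ = ⁅x, y⁆ := by rw [hgx, hgy, comm_central (E.central hu) (E.central hv)]
  exact mul_inv_eq_iff_eq_mul.1 this

/-- The canonical lift of a root group. -/
theorem exists_lift {r : F → (PSL3 F)} (hr : ∀ a b, r (a + b) = r a * r b) (hab : AbRoot pr r)
    (t : L) {μ : F} (hμ : μ ≠ 1) (ht : ∀ a, pr t * r a * (pr t)⁻¹ = r (μ * a)) :
    ∃ R : F → L, (∀ a, pr (R a) = r a) ∧ (∀ a b, R (a + b) = R a * R b) ∧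
      ∀ a, t * R a * t⁻¹ = R (μ * a) := by
  have hμ' : μ - 1 ≠ 0 := sub_ne_zero.2 hμ
  choose l hl using fun a => E.surj (r a)
  set R : F → L := fun a => ⁅t, l (a / (μ - 1))⁆ with hR
  have himg : ∀ a, pr (R a) = r a := by
    intro a
    simp only [hR, commutatorElement_def, map_mul, map_inv, hl, ht]
    rw [mul_inv_eq_iff_eq_mul, ← hr]
    congr 1
    field_simp
    ring
  have indep : ∀ a g, pr g = r a → ⁅t, g⁆ = ⁅t, l a⁆ := by
    intro a g hg
    obtain ⟨k, hk, rfl⟩ := eq_of_image (g := l a) (g' := g) E (by rw [hl, hg])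
    simpa using comm_central (x := t) (y := l a) (k := 1) (one_mem _) (E.central hk)
  refine ⟨R, himg, fun a b => ?_, fun a => ?_⟩
  · simp only [hR]
    rw [add_div, ← indep (a / (μ - 1) + b / (μ - 1)) (l (a / (μ - 1)) * l (b / (μ - 1)))
      (by rw [map_mul, hl, hl, hr])]
    set p := l (a / (μ - 1))
    set q := l (b / (μ - 1))
    have hc : Commute p ⁅t, q⁆ := hab _ _ ⟨_, hl _⟩ ⟨b, himg b⟩
    calc ⁅t, p * q⁆ = ⁅t, p⁆ * (p * ⁅t, q⁆ * p⁻¹) := by simp only [commutatorElement_def]; group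
      _ = ⁅t, p⁆ * ⁅t, q⁆ := by rw [hc.eq, mul_inv_cancel_right]
  · simp only [hR]
    rw [mul_div_assoc, ← indep (μ * (a / (μ - 1))) (t * l (a / (μ - 1)) * t⁻¹)
      (by rw [map_mul, map_mul, map_inv, hl, ht])]
    simp only [commutatorElement_def]
    group

variable [Finite F]

/-- The kernel has order at most four. -/
theorem card_ker_le [Finite L] (hperf : commutator L = ⊤) (hF : Nat.card F = 4) :
    Nat.card pr.ker ≤ 4 := by
  classical
  haveI := Fintype.ofFinite F
  have hF' : Fintype.card F = 4 := by rw [← hF, Nat.card_eq_fintype_card]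
  obtain ⟨w, hw01⟩ : ∃ w : F, w ∉ ({0, 1} : Finset F) := by
    by_contra h
    push Not at h
    have := Finset.card_le_card (fun x _ => h x : (Finset.univ : Finset F) ⊆ {0, 1})
    rw [Finset.card_univ, hF'] at this
    have h2 : ({0, 1} : Finset F).card ≤ 2 := Finset.card_le_two
    omega
  simp only [Finset.mem_insert, Finset.mem_singleton, not_or] at hw01
  obtain ⟨hw0, hw1⟩ := hw01
  have hw3 : w ^ 3 = 1 := by
    have h := FiniteField.pow_card_sub_one_eq_one w hw0
    rwa [hF'] at h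
  have hone : w + 1 ≠ 0 ∧ w + 1 ≠ 1 ∧ w + 1 ≠ w := by
    refine ⟨fun h => hw1 ?_, fun h => hw0 ?_, fun h => one_ne_zero (add_left_cancel (h.trans (add_zero w).symm))⟩
    · rwa [← CharTwo.sub_eq_add, sub_eq_zero] at h
    · simpa using h
  have hcases : ∀ x : F, x = 0 ∨ x = 1 ∨ x = w ∨ x = w + 1 := by
    intro x
    by_contra h
    push Not at h
    have h5 : ({x, 0, 1, w, w + 1} : Finset F).card = 5 := by
      simp [h.1, h.2.1, h.2.2.1, h.2.2.2, hw0, hw1, Ne.symm hw0, Ne.symm hw1, hone.1.symm,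
        hone.2.1.symm, hone.2.2.symm]
    have := Finset.card_le_univ ({x, 0, 1, w, w + 1} : Finset F)
    omega
  have hww : w ^ 2 = w + 1 := by
    rcases hcases (w ^ 2) with h | h | h | h
    · exact absurd (pow_eq_zero_iff (two_ne_zero) |>.1 h) hw0
    · refine absurd ?_ hw1
      calc w = w ^ 3 := by rw [pow_succ, h, one_mul]
        _ = 1 := hw3
    · refine absurd ?_ hw1
      have h' : w * w = w * 1 := by rw [mul_one, ← pow_two, h]
      exact mul_left_cancel₀ hw0 h'
    · exact h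
  have hw2 : w ^ 2 ≠ 1 := by rw [hww]; exact hone.2.1
  obtain ⟨t, ht⟩ := E.surj (QuotientGroup.mk (torus w hw3))
  have abz := abRoot_rz E
  have abx := abRoot_conj E abz _ (swapX_conj (F := F))
  have aby := abRoot_conj E abz _ (swapY_conj (F := F))
  obtain ⟨X, hXi, hXa, hXt⟩ := exists_lift E rx_add abx t hw2
    (fun a => by rw [ht, rx, torus_conj]; simp [rx])
  obtain ⟨Y, hYi, hYa, hYt⟩ := exists_lift E ry_add aby t hw2
    (fun a => by rw [ht, ry, torus_conj]; simp [ry])
  obtain ⟨Z, hZi, hZa, hZt⟩ := exists_lift E rz_add abz t hw1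
    (fun a => by rw [ht, rz, torus_conj]; simp [rz])
  have zero_of : ∀ R : F → L, (∀ a b, R (a + b) = R a * R b) → R 0 = 1 := fun R h => by
    have := h 0 0
    rw [add_zero] at this
    exact (left_eq_mul.1 this)
  have hX0 := zero_of X hXa
  have hY0 := zero_of Y hYa
  have hZ0 := zero_of Z hZa
  have kc : ∀ {k}, k ∈ pr.ker → ∀ g : L, g * k = k * g :=
    fun hk g => Subgroup.mem_center_iff.1 (E.central hk) g
  -- the commutators of `X` and `Y` with `Z`, and the defect
  set f : F → F → L := fun a c => ⁅X a, Z c⁆ with hf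
  set g : F → F → L := fun b c => ⁅Y b, Z c⁆ with hg
  set ψ : F → F → L := fun a b => (Z (a * b))⁻¹ * ⁅X a, Y b⁆ with hψ
  have hfk : ∀ a c, f a c ∈ pr.ker := fun a c => by
    rw [MonoidHom.mem_ker, hf, map_commutatorElement, hXi, hZi, commutatorElement_eq_one_iff_mul_comm]
    exact rx_rz a c
  have hgk : ∀ a c, g a c ∈ pr.ker := fun a c => by
    rw [MonoidHom.mem_ker, hg, map_commutatorElement, hYi, hZi, commutatorElement_eq_one_iff_mul_comm]
    exact ry_rz a c
  have hψk : ∀ a b, ψ a b ∈ pr.ker := fun a b => by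
    rw [MonoidHom.mem_ker, hψ, map_mul, map_inv, map_commutatorElement, hXi, hYi, hZi, rx_ry,
      inv_mul_cancel]
  have hXY : ∀ a b, ⁅X a, Y b⁆ = Z (a * b) * ψ a b := fun a b => by simp [hψ]
  have hψleft : ∀ a a' b, ψ (a + a') b = f a (a' * b) * (ψ a b * ψ a' b) := by
    intro a a' b
    have e : ⁅X (a + a'), Y b⁆ = X a * ⁅X a', Y b⁆ * (X a)⁻¹ * ⁅X a, Y b⁆ := by
      rw [hXa]; simp only [commutatorElement_def]; group
    rw [hXY, hXY, hXY] at e
    have e2 : X a * (Z (a' * b) * ψ a' b) * (X a)⁻¹ = f a (a' * b) * Z (a' * b) * ψ a' b := by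
      calc X a * (Z (a' * b) * ψ a' b) * (X a)⁻¹
          = X a * Z (a' * b) * (ψ a' b * (X a)⁻¹) := by group
        _ = _ := by rw [← kc (hψk a' b) (X a)⁻¹]; simp only [hf, commutatorElement_def]; group
    rw [e2] at e
    have e3 : f a (a' * b) * Z (a' * b) * ψ a' b * (Z (a * b) * ψ a b) =
        Z (a' * b) * Z (a * b) * (f a (a' * b) * (ψ a b * ψ a' b)) := by
      calc f a (a' * b) * Z (a' * b) * ψ a' b * (Z (a * b) * ψ a b)
          = f a (a' * b) * Z (a' * b) * (ψ a' b * Z (a * b)) * ψ a b := by group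
        _ = f a (a' * b) * (Z (a' * b) * Z (a * b)) * (ψ a' b * ψ a b) := by
          rw [← kc (hψk a' b) (Z (a * b))]; group
        _ = _ := by rw [← kc (hfk a (a' * b)) (Z (a' * b) * Z (a * b)), kc (hψk a b) (ψ a' b)]; group
    rw [e3, ← hZa, show a' * b + a * b = (a + a') * b by ring] at e
    exact mul_left_cancel e
  have hψright : ∀ a b b', ψ a (b + b') = g b (a * b') * (ψ a b * ψ a b') := by
    intro a b b'
    have e : ⁅X a, Y (b + b')⁆ = ⁅X a, Y b⁆ * (Y b * ⁅X a, Y b'⁆ * (Y b)⁻¹) := by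
      rw [hYa]; simp only [commutatorElement_def]; group
    rw [hXY, hXY, hXY] at e
    have e2 : Y b * (Z (a * b') * ψ a b') * (Y b)⁻¹ = g b (a * b') * Z (a * b') * ψ a b' := by
      calc Y b * (Z (a * b') * ψ a b') * (Y b)⁻¹
          = Y b * Z (a * b') * (ψ a b' * (Y b)⁻¹) := by group
        _ = _ := by rw [← kc (hψk a b') (Y b)⁻¹]; simp only [hg, commutatorElement_def]; group
    rw [e2] at e
    have e3 : Z (a * b) * ψ a b * (g b (a * b') * Z (a * b') * ψ a b') =
        Z (a * b) * Z (a * b') * (g b (a * b') * (ψ a b * ψ a b')) := by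
      calc Z (a * b) * ψ a b * (g b (a * b') * Z (a * b') * ψ a b')
          = Z (a * b) * (ψ a b * g b (a * b')) * Z (a * b') * ψ a b' := by group
        _ = Z (a * b) * Z (a * b') * (ψ a b * g b (a * b')) * ψ a b' := by
          rw [mul_assoc (Z (a * b)) (ψ a b * g b (a * b')) (Z (a * b')),
            ← kc (mul_mem (hψk a b) (hgk b (a * b'))) (Z (a * b'))]
          group
        _ = _ := by rw [← kc (hψk a b) (g b (a * b'))]; group
    rw [e3, ← hZa, ← mul_add] at e
    exact mul_left_cancel e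
  have hψ0l : ∀ b, ψ 0 b = 1 := fun b => by simp [hψ, hX0, hZ0]
  have hψ0r : ∀ a, ψ a 0 = 1 := fun a => by simp [hψ, hY0, hZ0]
  have hf1 : ∀ a c, f a c = 1 := by
    intro a c
    by_cases ha : a = 0
    · simp [hf, ha, hX0]
    · have h := hψleft a a (c / a)
      rw [CharTwo.add_self_eq_zero, hψ0l, mul_div_cancel₀ _ ha, E.sq _ (hψk _ _), mul_one] at h
      exact h.symm
  have hg1 : ∀ b c, g b c = 1 := by
    intro b c
    by_cases hb : b = 0
    · simp [hg, hb, hY0]
    · have h := hψright (c / b) b b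
      rw [CharTwo.add_self_eq_zero, hψ0r, div_mul_cancel₀ _ hb, E.sq _ (hψk _ _), mul_one] at h
      exact h.symm
  have hl : ∀ a a' b, ψ (a + a') b = ψ a b * ψ a' b := fun a a' b => by rw [hψleft, hf1, one_mul]
  have hr : ∀ a b b', ψ a (b + b') = ψ a b * ψ a b' := fun a b b' => by rw [hψright, hg1, one_mul]
  have hinv : ∀ a b, ψ (w ^ 2 * a) (w ^ 2 * b) = ψ a b := by
    intro a b
    have e : t * ψ a b * t⁻¹ = ψ a b := by rw [kc (hψk a b) t, mul_inv_cancel_right]
    have e' : t * ψ a b * t⁻¹ = (t * Z (a * b) * t⁻¹)⁻¹ * ⁅t * X a * t⁻¹, t * Y b * t⁻¹⁆ := by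
      simp only [hψ, commutatorElement_def]; group
    rw [hXt, hYt, hZt, e] at e'
    rw [e']
    simp only [hψ]
    rw [show w * (a * b) = w ^ 2 * a * (w ^ 2 * b) by linear_combination -w * (a * b) * hw3]
  set A := ψ 1 1 with hA
  set B := ψ 1 w with hB
  set T : Subgroup L := Subgroup.closure {A, B} with hT
  have hAT : A ∈ T := Subgroup.subset_closure (.inl rfl)
  have hBT : B ∈ T := Subgroup.subset_closure (.inr rfl)
  have hψw2 : ψ w w = A := by
    have h1 := hinv w w
    have h3 : w ^ 2 * w = 1 := by rw [← pow_succ]; exact hw3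
    rw [h3] at h1
    exact h1.symm
  have hψT : ∀ a b, ψ a b ∈ T := by
    have hw1' : ψ w 1 ∈ T := by
      have h1 := hinv 1 1
      rw [mul_one, hww, hl, hr, hr, hψw2] at h1
      have h2 : ψ w 1 = A⁻¹ * A * ((ψ 1 w) * ψ 1 1)⁻¹ := by
        rw [← hA] at h1
        calc ψ w 1 = A⁻¹ * (A * ψ w 1 * (ψ 1 w * ψ 1 1)) * (ψ 1 w * ψ 1 1)⁻¹ := by group
          _ = _ := by rw [h1]
      rw [h2]
      exact mul_mem (mul_mem (inv_mem hAT) hAT) (inv_mem (mul_mem hBT hAT))
    have hw1w : ψ w w ∈ T := hψw2 ▸ hAT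
    have hh : ∀ b, ψ 1 b ∈ T ∧ ψ w b ∈ T := by
      intro b
      rcases hcases b with rfl | rfl | rfl | rfl
      · rw [hψ0r, hψ0r]; exact ⟨one_mem _, one_mem _⟩
      · exact ⟨hAT, hw1'⟩
      · exact ⟨hBT, hw1w⟩
      · rw [hr, hr]; exact ⟨mul_mem hBT hAT, mul_mem hw1w hw1'⟩
    intro a b
    rcases hcases a with rfl | rfl | rfl | rfl
    · rw [hψ0l]; exact one_mem _
    · exact (hh b).1
    · exact (hh b).2
    · rw [hl]; exact mul_mem (hh b).2 (hh b).1
  have hTk : T ≤ pr.ker := by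
    rw [hT, Subgroup.closure_le]
    rintro x (rfl | rfl) <;> exact hψk _ _
  have hTcard : Nat.card T ≤ 4 := by
    let v : Bool × Bool → L := fun i => (if i.1 then A else 1) * (if i.2 then B else 1)
    have hsub : (T : Set L) ⊆ Set.range v := by
      intro x hx
      rw [SetLike.mem_coe, hT] at hx
      induction hx using Subgroup.closure_induction with
      | mem x hx =>
        rcases hx with rfl | rfl
        · exact ⟨(true, false), by simp [v]⟩
        · exact ⟨(false, true), by simp [v]⟩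
      | one => exact ⟨(false, false), by simp [v]⟩
      | inv x hx ih =>
        rw [show x⁻¹ = x from inv_eq_of_mul_eq_one_left (E.sq x (hTk (hT ▸ hx)))]
        exact ih
      | mul x y _ _ ih1 ih2 =>
        obtain ⟨⟨p, q⟩, rfl⟩ := ih1
        obtain ⟨⟨p', q'⟩, rfl⟩ := ih2
        refine ⟨(xor p p', xor q q'), ?_⟩
        have a2 := E.sq A (hψk 1 1)
        have b2 := E.sq B (hψk 1 w)
        have ba : B * A = A * B := kc (hψk 1 1) B
        cases p <;> cases q <;> cases p' <;> cases q' <;>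
          simp [v, mul_assoc, a2, b2] <;>
          simp [← mul_assoc, ba] <;> simp [mul_assoc, a2, b2]
    calc Nat.card T = (T : Set L).ncard := rfl
      _ ≤ (Set.range v).ncard := Set.ncard_le_ncard hsub (Set.finite_range v)
      _ ≤ 4 := by
        rw [← Set.image_univ]
        refine (Set.ncard_image_le Set.finite_univ).trans ?_
        simp [Set.ncard_univ]
  -- the preimage of the unitriangular group
  set K : Subgroup L := Subgroup.closure (Set.range Z ∪ (T : Set L)) with hK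
  set P : Subgroup L := Subgroup.closure (((pr.ker : Set L) ∪ Set.range X) ∪ Set.range Y) with hP
  have hZZ : ∀ c d, Commute (Z c) (Z d) := fun c d => abz _ _ ⟨c, hZi c⟩ ⟨d, hZi d⟩
  have hXX : ∀ c d, Commute (X c) (X d) := fun c d => abx _ _ ⟨c, hXi c⟩ ⟨d, hXi d⟩
  have hYY : ∀ c d, Commute (Y c) (Y d) := fun c d => aby _ _ ⟨c, hYi c⟩ ⟨d, hYi d⟩
  have hKcent : ∀ k ∈ K, ∀ x ∈ P, Commute x k := by
    intro k hk x hx
    induction hx using Subgroup.closure_induction with
    | mem x hx =>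
      induction hk using Subgroup.closure_induction with
      | mem k hk =>
        rcases hk with ⟨c, rfl⟩ | hk
        · rcases hx with (hx | ⟨a, rfl⟩) | ⟨a, rfl⟩
          · exact (kc hx (Z c)).symm
          · exact commutatorElement_eq_one_iff_commute.1 (hf1 a c)
          · exact commutatorElement_eq_one_iff_commute.1 (hg1 a c)
        · exact kc (hTk hk) x
      | one => exact Commute.one_right x
      | mul a b _ _ iha ihb => exact iha.mul_right ihb
      | inv a _ iha => exact iha.inv_right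
    | one => exact Commute.one_left k
    | mul a b _ _ iha ihb => exact iha.mul_left ihb
    | inv a _ iha => exact iha.inv_left
  have hKker : ∀ k ∈ pr.ker, ∀ x : L, ⁅k, x⁆ = 1 ∧ ⁅x, k⁆ = 1 := fun k hk x =>
    ⟨commutatorElement_eq_one_iff_commute.2 (kc hk x).symm,
      commutatorElement_eq_one_iff_commute.2 (kc hk x)⟩
  have hgen : ∀ x ∈ ((pr.ker : Set L) ∪ Set.range X) ∪ Set.range Y,
      ∀ y ∈ ((pr.ker : Set L) ∪ Set.range X) ∪ Set.range Y, ⁅x, y⁆ ∈ K := by
    have hXYK : ∀ a b, ⁅X a, Y b⁆ ∈ K := fun a b => by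
      rw [hXY]
      exact mul_mem (Subgroup.subset_closure (.inl ⟨_, rfl⟩)) (Subgroup.subset_closure (.inr (hψT a b)))
    rintro x ((hx | ⟨a, rfl⟩) | ⟨a, rfl⟩) y hy
    · rw [(hKker x hx y).1]; exact one_mem _
    · rcases hy with (hy | ⟨b, rfl⟩) | ⟨b, rfl⟩
      · rw [(hKker y hy _).2]; exact one_mem _
      · rw [commutatorElement_eq_one_iff_commute.2 (hXX a b)]; exact one_mem _
      · exact hXYK a b
    · rcases hy with (hy | ⟨b, rfl⟩) | ⟨b, rfl⟩
      · rw [(hKker y hy _).2]; exact one_mem _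
      · rw [← commutatorElement_inv]; exact inv_mem (hXYK b a)
      · rw [commutatorElement_eq_one_iff_commute.2 (hYY a b)]; exact one_mem _
  have hPK : ⁅P, P⁆ ≤ K := by
    rw [Subgroup.commutator_le]
    have key : ∀ x ∈ P, ∀ y ∈ P, ⁅x, y⁆ ∈ K ∧ y ∈ P ∧ x ∈ P := by
      intro x hx
      have hleft : ∀ a b : L, a ∈ P → ∀ y, ⁅b, y⁆ ∈ K → ⁅a * b, y⁆ = ⁅b, y⁆ * ⁅a, y⁆ := by
        intro a b ha y h
        rw [show ⁅a * b, y⁆ = a * ⁅b, y⁆ * a⁻¹ * ⁅a, y⁆ by simp only [commutatorElement_def]; group,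
          (hKcent _ h a ha).eq, mul_inv_cancel_right]
      have hinvl : ∀ a : L, a ∈ P → ∀ y, ⁅a, y⁆ ∈ K → ⁅a⁻¹, y⁆ = ⁅a, y⁆⁻¹ := by
        intro a ha y h
        rw [show ⁅a⁻¹, y⁆ = a⁻¹ * ⁅a, y⁆⁻¹ * a⁻¹⁻¹ by simp only [commutatorElement_def]; group,
          (hKcent _ (inv_mem h) a⁻¹ (inv_mem ha)).eq, mul_inv_cancel_right]
      induction hx using Subgroup.closure_induction with
      | mem x hx =>
        intro y hy
        refine ⟨?_, hy, Subgroup.subset_closure hx⟩
        induction hy using Subgroup.closure_induction with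
        | mem y hy => exact hgen x hx y hy
        | one => rw [commutatorElement_one_right]; exact one_mem _
        | mul a b ha _ iha ihb =>
          rw [show ⁅x, a * b⁆ = ⁅x, a⁆ * (a * ⁅x, b⁆ * a⁻¹) by
            simp only [commutatorElement_def]; group, (hKcent _ ihb a ha).eq, mul_inv_cancel_right]
          exact mul_mem iha ihb
        | inv a ha iha =>
          rw [show ⁅x, a⁻¹⁆ = a⁻¹ * ⁅x, a⁆⁻¹ * a⁻¹⁻¹ by simp only [commutatorElement_def]; group,
            (hKcent _ (inv_mem iha) a⁻¹ (inv_mem ha)).eq, mul_inv_cancel_right]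
          exact inv_mem iha
      | one =>
        intro y hy
        rw [commutatorElement_one_left]
        exact ⟨one_mem _, hy, one_mem _⟩
      | mul a b ha hb iha ihb =>
        intro y hy
        rw [hleft a b ha y (ihb y hy).1]
        exact ⟨mul_mem (ihb y hy).1 (iha y hy).1, hy, mul_mem ha hb⟩
      | inv a ha iha =>
        intro y hy
        rw [hinvl a ha y (iha y hy).1]
        exact ⟨inv_mem (iha y hy).1, hy, inv_mem ha⟩
    exact fun x hx y hy => (key x hx y hy).1
  have hKform : ∀ k ∈ K, ∃ c, ∃ m ∈ T, k = Z c * m := by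
    intro k hk
    induction hk using Subgroup.closure_induction with
    | mem k hk =>
      rcases hk with ⟨c, rfl⟩ | hk
      · exact ⟨c, 1, one_mem _, (mul_one _).symm⟩
      · exact ⟨0, k, hk, by rw [hZ0, one_mul]⟩
    | one => exact ⟨0, 1, one_mem _, by rw [hZ0, one_mul]⟩
    | mul a b _ _ iha ihb =>
      obtain ⟨c, m, hm, rfl⟩ := iha
      obtain ⟨c', m', hm', rfl⟩ := ihb
      refine ⟨c + c', m * m', mul_mem hm hm', ?_⟩
      rw [hZa]
      calc Z c * m * (Z c' * m') = Z c * (m * Z c') * m' := by group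
        _ = _ := by rw [← kc (hTk hm) (Z c')]; group
    | inv a _ iha =>
      obtain ⟨c, m, hm, rfl⟩ := iha
      refine ⟨c, m⁻¹, inv_mem hm, ?_⟩
      have : (Z c)⁻¹ = Z c := inv_eq_of_mul_eq_one_left (by rw [← hZa, CharTwo.add_self_eq_zero, hZ0])
      rw [mul_inv_rev, this, ← kc (inv_mem (hTk hm)) (Z c)]
  have hindex : Odd P.index := by
    haveI : Fact (Nat.Prime 2) := ⟨Nat.prime_two⟩
    obtain ⟨S, hS⟩ := AutPSL.exists_sylow_uniBar (n := 3) (F := F) (by norm_num) 2
    have hle : (S : Subgroup (PSL3 F)) ≤ P.map pr := by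
      rw [hS]
      rintro x ⟨s, hs, rfl⟩
      have hs' := AutPSL.mem_uni_iff.1 hs
      have e : s = U (s.1 0 1) (s.1 1 2) (s.1 0 2) := by
        apply Subtype.ext
        ext i j
        have h1 := hs'.1
        have h2 : ∀ {i j : Fin 3}, j < i → s.1 i j = 0 := fun h => hs'.2 h
        fin_cases i <;> fin_cases j <;> simp [U, h1, h2 (show (0 : Fin 3) < 1 by decide),
          h2 (show (0 : Fin 3) < 2 by decide), h2 (show (1 : Fin 3) < 2 by decide)]
      rw [e]
      show V _ _ _ ∈ P.map pr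
      rw [V_eq]
      refine mul_mem (mul_mem ⟨Y _, Subgroup.subset_closure (.inr ⟨_, rfl⟩), hYi _⟩
        ⟨X _, Subgroup.subset_closure (.inl (.inr ⟨_, rfl⟩)), hXi _⟩) ?_
      refine ⟨⁅X (s.1 0 2), Y 1⁆, ?_, by rw [map_commutatorElement, hXi, hYi, rx_ry, mul_one]⟩
      exact Subgroup.commutator_le.1 (Subgroup.commutator_le_self P) _
        (Subgroup.subset_closure (.inl (.inr ⟨_, rfl⟩))) _ (Subgroup.subset_closure (.inr ⟨_, rfl⟩))
    have h1 : P.index = (P.map pr).index := by
      rw [Subgroup.index_map_eq _ E.surj]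
      exact fun x hx => Subgroup.subset_closure (.inl (.inl hx))
    rw [h1]
    refine Odd.of_dvd_nat ?_ (Subgroup.index_dvd_of_le hle)
    exact Nat.not_even_iff_odd.1 (fun h => S.not_dvd_index (even_iff_two_dvd.1 h))
  have hsub : pr.ker ≤ T := by
    intro z hz
    have h := Multiplier.pow_index_mem_commutator P z (E.central hz) (hperf ▸ Subgroup.mem_top z)
      (Subgroup.subset_closure (.inl (.inl hz)))
    obtain ⟨j, hj⟩ := hindex
    rw [hj, pow_succ, pow_mul, pow_two, E.sq z hz, one_pow, one_mul] at h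
    obtain ⟨c, m, hm, rfl⟩ := hKform z (hPK h)
    have hc := hz
    rw [MonoidHom.mem_ker, map_mul, (hTk hm : pr m = 1), mul_one, hZi] at hc
    rw [V_inj_third hc, hZ0, one_mul]
    exact hm
  exact le_trans (Subgroup.card_le_of_le hsub) hTcard

end Cfsg.Agent.Lib.ThreeTranspositions.CoverPSL34
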