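import Cfsg.Agent.Lib.ThreeTranspositions.Lines

/-!
The Fischer space of a set of 3-transpositions.
-/
set_option autoImplicit false

open Cfsg

namespace Cfsg.Agent.Lib.ThreeTranspositions

/-! ### The two models -/

/-- The transposition attached to a point of the dual affine plane. -/
def dualSwap (s : DualAffinePoint) : Equiv.Perm (Fin 4) :=
  Equiv.swap (s.val.min' (Finset.card_pos.1 (by rw [s.2]; decide)))
    (s.val.max' (Finset.card_pos.1 (by rw [s.2]; decide)))

/-- The third point on a line of the dual affine plane. -/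
def dualThird (p q : DualAffinePoint) : DualAffinePoint :=
  if h : ((p.val ∪ q.val) \ (p.val ∩ q.val)).card = 2 then ⟨_, h⟩ else p

def dualColl (p q : DualAffinePoint) : Prop := (p.val ∩ q.val).card = 1

instance : DecidableRel dualColl := fun p q => by unfold dualColl; infer_instance

theorem dualSwap_facts :
    (∀ p q, dualSwap p = dualSwap q → p = q) ∧
    (∀ p q, p ≠ q → (dualColl p q ↔ ¬ dualSwap p * dualSwap q = dualSwap q * dualSwap p)) ∧
    (∀ p q, dualColl p q → p ≠ q) ∧
    (∀ p q, dualColl p q → dualSwap (dualThird p q) = dualSwap q * dualSwap p * (dualSwap q)⁻¹) ∧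
    (∀ p, ∃ g : Equiv.Perm (Fin 4), dualSwap p = g * Equiv.swap 1 2 * g⁻¹) := by
  refine ⟨?_, ?_, ?_, ?_, ?_⟩ <;> decide +kernel

theorem dualModel_eq : ModelLine dualThird dualColl = dualAffinePlaneTwo := by
  have h1 : ∀ p q, dualColl p q → ∃ i : Fin 4, ∀ s : DualAffinePoint,
      (s = p ∨ s = q ∨ s = dualThird p q) ↔ i ∉ s.val := by decide +kernel
  have h2 : ∀ i : Fin 4, ∃ p q, dualColl p q ∧ ∀ s : DualAffinePoint,
      (s = p ∨ s = q ∨ s = dualThird p q) ↔ i ∉ s.val := by decide +kernel
  ext l
  constructor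
  · rintro ⟨p, q, hc, rfl⟩
    obtain ⟨i, hi⟩ := h1 p q hc
    exact ⟨i, Set.ext fun s => hi s⟩
  · rintro ⟨i, rfl⟩
    obtain ⟨p, q, hc, hi⟩ := h2 i
    exact ⟨p, q, hc, Set.ext fun s => (hi s).symm⟩

theorem affineModel_eq :
    ModelLine (fun p q : Fin 2 → ZMod 3 => -p - q) (fun p q => p ≠ q) = affinePlaneThree := by
  have h1 : ∀ p q x : Fin 2 → ZMod 3,
      (x = p ∨ x = q ∨ x = -p - q) ↔ ∃ c : ZMod 3, x = p + c • (q - p) := by decide +kernel
  ext l
  constructor
  · rintro ⟨p, q, hc, rfl⟩
    exact ⟨p, q - p, sub_ne_zero.2 (Ne.symm hc), Set.ext fun x => h1 p q x⟩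
  · rintro ⟨v, w, hw, rfl⟩
    refine ⟨v, v + w, fun h => hw (by simpa using h.symm), Set.ext fun x => ?_⟩
    have := h1 v (v + w) x
    rw [add_sub_cancel_left] at this
    exact this.symm

variable {G : Type*} [Group G] {D : Set G}

theorem subspace_third {Y : Type*} (third : Y → Y → Y) (f : Y → D)
    (hthird : ∀ p q, ¬ Commute (f p : G) (f q : G) →
      (f (third p q) : G) = (f q : G) * (f p : G) * (f q : G)⁻¹)
    {T : Set D} (hT : LineSystem.IsSubspace (threeTranspositionLines D) T) {p q : Y}
    (h : ¬ Commute (f p : G) (f q : G)) (hp : f p ∈ T) (hq : f q ∈ T) : f (third p q) ∈ T := by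
  refine hT (lineThrough (f p) (f q)) ⟨f p, f q, h, rfl⟩ (f p) hp (f q) hq
    (fun he => ne_of_not_commute h (congrArg Subtype.val he)) (Or.inl rfl) (Or.inr (Or.inl rfl)) ?_
  exact Or.inr (Or.inr (hthird p q h))

/-- Two commuting members meeting a third one span a dual affine plane. -/
theorem span_dual (hD : IsClosedSet D) {a b c : D} (hab : ¬ Commute (a : G) (b : G))
    (hac : ¬ Commute (a : G) (c : G)) (hbc : Commute (b : G) (c : G)) (hne : b ≠ c) :
    LineSystem.Isomorphic
      (LineSystem.restrict (threeTranspositionLines D)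
        (LineSystem.span (threeTranspositionLines D) (lineThrough a b ∪ lineThrough a c)))
      dualAffinePlaneTwo := by
  have hS := hD.1
  have hb2 := mul_self hS b.2
  have ha2 := mul_self hS a.2
  have hc2 := mul_self hS c.2
  have r1 := braid hS b.2 a.2 (not_commute_symm hab)
  have r2 := braid hS a.2 c.2 hac
  set φ := s4Hom hb2 ha2 hc2 hbc r1 r2 with hφ
  have hinj : Function.Injective φ :=
    s4Hom_injective hb2 ha2 hc2 hbc r1 r2 (fun h => hne (Subtype.ext h))
  have hg := s4Hom_gen hb2 ha2 hc2 hbc r1 r2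
  have e0 : φ (Equiv.swap 0 1) = b := hg 0
  have e1 : φ (Equiv.swap 1 2) = a := hg 1
  have e2 : φ (Equiv.swap 2 3) = c := hg 2
  obtain ⟨fi, fc, fn, ft, fconj⟩ := dualSwap_facts
  have hmem : ∀ s, φ (dualSwap s) ∈ D := by
    intro s
    obtain ⟨g, hg⟩ := fconj s
    rw [hg, map_mul, map_mul, map_inv, e1]
    exact hD.2 _ _ a.2
  let f : DualAffinePoint → D := fun s => ⟨φ (dualSwap s), hmem s⟩
  have hcm : ∀ p q, (Commute (f p : G) (f q : G) ↔
      dualSwap p * dualSwap q = dualSwap q * dualSwap p) := by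
    intro p q
    show φ (dualSwap p) * φ (dualSwap q) = φ (dualSwap q) * φ (dualSwap p) ↔ _
    rw [← map_mul, ← map_mul, hinj.eq_iff]
  have hth : ∀ p q, dualColl p q →
      (f (dualThird p q) : G) = (f q : G) * (f p : G) * (f q : G)⁻¹ := by
    intro p q h
    show φ _ = φ _ * φ _ * (φ _)⁻¹
    rw [← map_inv, ← map_mul, ← map_mul, ft p q h]
  have hth' : ∀ p q, ¬ Commute (f p : G) (f q : G) →
      (f (dualThird p q) : G) = (f q : G) * (f p : G) * (f q : G)⁻¹ := fun p q h =>
    hth p q ((fc p q fun he => h (by rw [he])).2 (mt (hcm p q).2 h))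
  let pa : DualAffinePoint := ⟨{1, 2}, rfl⟩
  let pb : DualAffinePoint := ⟨{0, 1}, rfl⟩
  let pc : DualAffinePoint := ⟨{2, 3}, rfl⟩
  have sa : dualSwap pa = Equiv.swap 1 2 := by decide +kernel
  have sb : dualSwap pb = Equiv.swap 0 1 := by decide +kernel
  have sc : dualSwap pc = Equiv.swap 2 3 := by decide +kernel
  have fa : f pa = a := Subtype.ext (by show φ _ = _; rw [sa, e1])
  have fb : f pb = b := Subtype.ext (by show φ _ = _; rw [sb, e0])
  have fcc : f pc = c := Subtype.ext (by show φ _ = _; rw [sc, e2])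
  rw [← dualModel_eq]
  refine plane_iso hD dualThird dualColl f
    (fun p q h => fi p q (hinj (congrArg Subtype.val h)))
    (fun p q hpq => by rw [fc p q hpq, hcm]) fn hth ?_ ?_
  · rintro w (hw | hw)
    · rcases hw with hw | hw | hw
      · exact ⟨pa, fa.trans (Subtype.ext hw).symm⟩
      · exact ⟨pb, fb.trans (Subtype.ext hw).symm⟩
      · refine ⟨dualThird pa pb, Subtype.ext ?_⟩
        rw [hw, hth' pa pb (by rw [fa, fb]; exact hab), fa, fb]
    · rcases hw with hw | hw | hw
      · exact ⟨pa, fa.trans (Subtype.ext hw).symm⟩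
      · exact ⟨pc, fcc.trans (Subtype.ext hw).symm⟩
      · refine ⟨dualThird pa pc, Subtype.ext ?_⟩
        rw [hw, hth' pa pc (by rw [fa, fcc]; exact hac), fa, fcc]
  · rintro T hT hsp _ ⟨s, rfl⟩
    have ma : f pa ∈ T := by rw [fa]; exact hT (Or.inl (Or.inl rfl))
    have mb : f pb ∈ T := by rw [fb]; exact hT (Or.inl (Or.inr (Or.inl rfl)))
    have mc : f pc ∈ T := by rw [fcc]; exact hT (Or.inr (Or.inr (Or.inl rfl)))
    have step : ∀ p q, dualColl p q → f p ∈ T → f q ∈ T → f (dualThird p q) ∈ T := by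
      intro p q h hp hq
      refine subspace_third dualThird f hth' hsp ?_ hp hq
      rw [hcm]; exact (fc p q (fn p q h)).1 h
    have m02 := step pa pb (by decide) ma mb
    have m13 := step pa pc (by decide) ma mc
    have m03 := step (dualThird pa pb) pc (by decide) m02 mc
    have hall : ∀ s : DualAffinePoint, s = pa ∨ s = pb ∨ s = pc ∨ s = dualThird pa pb ∨
        s = dualThird pa pc ∨ s = dualThird (dualThird pa pb) pc := by decide +kernel
    rcases hall s with rfl | rfl | rfl | rfl | rfl | rfl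
    exacts [ma, mb, mc, m02, m13, m03]

/-- Lines through a point without commuting pairs span an affine plane. -/
theorem span_affine (hD : IsClosedSet D) {a b c : D} (hab : ¬ Commute (a : G) (b : G))
    (hac : ¬ Commute (a : G) (c : G)) (hbc : ¬ Commute (b : G) (c : G))
    (hbc' : ¬ Commute (b : G) ((a : G) * c * a)) (hne : b ≠ c)
    (hne' : (c : G) ≠ (a : G) * b * a) :
    LineSystem.Isomorphic
      (LineSystem.restrict (threeTranspositionLines D)
        (LineSystem.span (threeTranspositionLines D) (lineThrough a b ∪ lineThrough a c)))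
      affinePlaneThree := by
  have hS := hD.1
  obtain ⟨a, hA⟩ := a
  obtain ⟨b, hB⟩ := b
  obtain ⟨c, hC⟩ := c
  simp only [ne_eq, Subtype.mk.injEq] at hne
  change ¬ Commute b (a * c * a) at hbc'
  change c ≠ a * b * a at hne'
  change ¬ Commute a b at hab
  change ¬ Commute a c at hac
  change ¬ Commute b c at hbc
  have aa := mul_self_assoc hS hA
  have bb := mul_self_assoc hS hB
  have cc := mul_self_assoc hS hC
  have a2 := mul_self hS hA
  have b2 := mul_self hS hB
  have c2 := mul_self hS hC
  have hAB := third_mem hD hA hB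
  have hAC := third_mem hD hA hC
  have hbc'' : ¬ Commute c (a * b * a) := by
    intro h
    apply hbc'
    have h' := ((Commute.conj_iff a).2 h).symm
    rw [inv_eq hS hA] at h'
    simpa only [mul_assoc, aa, a2, mul_one] using h'
  have r1 : b * a * b = a * b * a := braid hS hB hA (not_commute_symm hab)
  have r2 : c * a * c = a * c * a := braid hS hC hA (not_commute_symm hac)
  have r3 : c * b * c = b * c * b := braid hS hC hB (not_commute_symm hbc)
  have r4 := braid hS hC hAB hbc''
  have r5 := braid hS hB hAC hbc'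
  have hBC := third_mem hD hB hC
  let tab : Fin 3 → Fin 3 → D :=
    ![![⟨a, hA⟩, ⟨c, hC⟩, ⟨a * c * a, hAC⟩],
      ![⟨b, hB⟩, ⟨a * (b * c * b) * a, third_mem hD hA hBC⟩,
        ⟨(a * b * a) * c * (a * b * a), third_mem hD hAB hC⟩],
      ![⟨a * b * a, hAB⟩, ⟨b * (a * c * a) * b, third_mem hD hB hAC⟩, ⟨b * c * b, hBC⟩]]
  let f : (Fin 2 → ZMod 3) → D := fun p => tab (p 0) (p 1)
  have hr : ∀ (e : G) (v : Fin 2 → ZMod 3),
      (∀ i j : ZMod 3, e * (f ![i, j] : G) * e = f (v - ![i, j])) →
      ∀ p, e * (f p : G) * e = f (v - p) := by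
    intro e v h p
    have hp : p = ![(p 0 : ZMod 3), p 1] := by funext i; fin_cases i <;> rfl
    rw [hp]; exact h (p 0) (p 1)
  have Ra : ∀ p, a * (f p : G) * a = f (![0, 0] - p) := by
    refine hr a _ fun i j => ?_
    fin_cases i <;> fin_cases j
    · show a * a * a = a
      rw [a2, one_mul]
    · show a * c * a = a * c * a
      rfl
    · show a * (a * c * a) * a = c
      simp only [mul_assoc, aa, a2, mul_one]
    · show a * b * a = a * b * a
      rfl
    · show a * (a * (b * c * b) * a) * a = b * c * b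
      simp only [mul_assoc, aa, a2, mul_one]
    · show a * ((a * b * a) * c * (a * b * a)) * a = b * (a * c * a) * b
      simp only [mul_assoc, aa, a2, mul_one]
    · show a * (a * b * a) * a = b
      simp only [mul_assoc, aa, a2, mul_one]
    · show a * (b * (a * c * a) * b) * a = (a * b * a) * c * (a * b * a)
      simp only [mul_assoc]
    · show a * (b * c * b) * a = a * (b * c * b) * a
      rfl
  have Rb : ∀ p, b * (f p : G) * b = f (![2, 0] - p) := by
    refine hr b _ fun i j => ?_
    fin_cases i <;> fin_cases j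
    · exact r1
    · show b * c * b = b * c * b
      rfl
    · show b * (a * c * a) * b = b * (a * c * a) * b
      rfl
    · show b * b * b = b
      rw [b2, one_mul]
    · show b * (a * (b * c * b) * a) * b = (a * b * a) * c * (a * b * a)
      rw [← r1]; simp only [mul_assoc]
    · show b * ((a * b * a) * c * (a * b * a)) * b = a * (b * c * b) * a
      rw [← r1]; simp only [mul_assoc, bb, b2, mul_one]
    · show b * (a * b * a) * b = a
      rw [← r1]; simp only [mul_assoc, bb, b2, mul_one]
    · show b * (b * (a * c * a) * b) * b = a * c * a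
      simp only [mul_assoc, bb, b2, mul_one]
    · show b * (b * c * b) * b = c
      simp only [mul_assoc, bb, b2, mul_one]
  have key : b * (a * c * a) * b = c * (a * (b * c * b) * a) * c := by
    rw [r5, ← r3]
    conv_lhs => rw [← r2]
    simp only [mul_assoc]
  have Rc : ∀ p, c * (f p : G) * c = f (![0, 2] - p) := by
    refine hr c _ fun i j => ?_
    fin_cases i <;> fin_cases j
    · exact r2
    · show c * c * c = c
      rw [c2, one_mul]
    · show c * (a * c * a) * c = a
      rw [← r2]; simp only [mul_assoc, cc, c2, mul_one]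
    · show c * b * c = b * c * b
      exact r3
    · show c * (a * (b * c * b) * a) * c = b * (a * c * a) * b
      exact key.symm
    · show c * ((a * b * a) * c * (a * b * a)) * c = a * b * a
      rw [← r4]; simp only [mul_assoc, cc, c2, mul_one]
    · show c * (a * b * a) * c = (a * b * a) * c * (a * b * a)
      exact r4
    · show c * (b * (a * c * a) * b) * c = a * (b * c * b) * a
      rw [key]; simp only [mul_assoc, cc, c2, mul_one]
    · show c * (b * c * b) * c = b
      rw [← r3]; simp only [mul_assoc, cc, c2, mul_one]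
  have comb : ∀ (e e' : G) (v v' : Fin 2 → ZMod 3), e⁻¹ = e → e'⁻¹ = e' →
      (∀ p, e * (f p : G) * e = f (v - p)) → (∀ p, e' * (f p : G) * e' = f (v' - p)) →
      ∀ p, (e' * e) * (f p : G) * (e' * e)⁻¹ = f (p + (v' - v)) := by
    intro e e' v v' he he' h h' p
    rw [mul_inv_rev, he, he', show e' * e * (f p : G) * (e * e') = e' * (e * f p * e) * e' by
      simp only [mul_assoc], h, h', show v' - (v - p) = p + (v' - v) by abel]
  have hg : ∀ r : Fin 2 → ZMod 3, ∃ g : G, ∀ p, g * (f p : G) * g⁻¹ = f (p + r) := by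
    let S : Set (Fin 2 → ZMod 3) := {r | ∃ g : G, ∀ p, g * (f p : G) * g⁻¹ = f (p + r)}
    have hadd : ∀ r s, r ∈ S → s ∈ S → r + s ∈ S := by
      rintro r s ⟨g, hg⟩ ⟨g', hg'⟩
      refine ⟨g' * g, fun p => ?_⟩
      rw [show g' * g * (f p : G) * (g' * g)⁻¹ = g' * (g * f p * g⁻¹) * g'⁻¹ by group, hg, hg',
        add_assoc]
    have h0 : (0 : Fin 2 → ZMod 3) ∈ S := ⟨1, fun p => by simp⟩
    have hv : ![2, 0] - ![0, 0] ∈ S :=
      ⟨_, comb a b _ _ (inv_eq hS hA) (inv_eq hS hB) Ra Rb⟩
    have hw : ![0, 2] - ![0, 0] ∈ S :=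
      ⟨_, comb a c _ _ (inv_eq hS hA) (inv_eq hS hC) Ra Rc⟩
    have hsm : ∀ (n : ℕ) v, v ∈ S → n • v ∈ S := by
      intro n v hv
      induction n with
      | zero => simpa using h0
      | succ n ih => rw [succ_nsmul]; exact hadd _ _ ih hv
    intro r
    have hdec : ∀ r : Fin 2 → ZMod 3, ∃ i j : Fin 3,
        r = (i : ℕ) • (![2, 0] - ![0, 0]) + (j : ℕ) • (![0, 2] - ![0, 0]) := by decide +kernel
    obtain ⟨i, j, rfl⟩ := hdec r
    exact hadd _ _ (hsm _ _ hv) (hsm _ _ hw)
  have f0 : (f 0 : G) = a := rfl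
  have Rall : ∀ p q, (f q : G) * (f p : G) * (f q : G)⁻¹ = f (-p - q) := by
    intro p q
    obtain ⟨g, hg⟩ := hg q
    have hq : (f q : G) = g * a * g⁻¹ := by rw [← f0, hg, zero_add]
    have hp : (f p : G) = g * (f (p - q) : G) * g⁻¹ := by rw [hg, sub_add_cancel]
    rw [hq, hp, mul_inv_rev, mul_inv_rev, inv_inv, inv_eq hS hA,
      show g * a * g⁻¹ * (g * (f (p - q) : G) * g⁻¹) * (g * (a * g⁻¹)) =
        g * (a * f (p - q) * a) * g⁻¹ by group, Ra, hg]
    congr 2
    exact (by decide +kernel : ∀ p q : Fin 2 → ZMod 3, ![0, 0] - (p - q) + q = -p - q) p q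
  have hne0 : ∀ r, r ≠ 0 → (f r : G) ≠ a := by
    have hca : b ≠ a * c * a := fun h => hne' (by rw [h]; simp only [mul_assoc, aa, a2, mul_one])
    have h22 : b * c * b ≠ a := by
      intro h
      apply hne'
      rw [← r1, ← h]; simp only [mul_assoc, bb, b2, mul_one]
    intro r hr0
    have hp : r = ![(r 0 : ZMod 3), r 1] := by funext i; fin_cases i <;> rfl
    have key' : ∀ i j : ZMod 3, (![i, j] : Fin 2 → ZMod 3) ≠ 0 → (f ![i, j] : G) ≠ a := by
      intro i j h
      fin_cases i <;> fin_cases j
      · exact absurd (by decide) h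
      · exact (ne_of_not_commute hac).symm
      · exact third_ne_left hD hA hC hac
      · exact (ne_of_not_commute hab).symm
      · show a * (b * c * b) * a ≠ a
        intro h'
        apply h22
        have h'' := congrArg (fun x => a * x * a) h'
        simpa only [mul_assoc, aa, a2, mul_one, one_mul] using h''
      · show (a * b * a) * c * (a * b * a) ≠ a
        intro h'
        rw [← r4] at h'
        apply hne
        have h'' : a * b * a = c * a * c := by
          have := congrArg (fun x => c * x * c) h'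
          simpa only [mul_assoc, cc, c2, mul_one] using this
        rw [r2] at h''
        exact mul_left_cancel (mul_right_cancel h'')
      · exact third_ne_left hD hA hB hab
      · show b * (a * c * a) * b ≠ a
        intro h'
        apply hne
        have h'' : a * c * a = b * a * b := by
          have := congrArg (fun x => b * x * b) h'
          simpa only [mul_assoc, bb, b2, mul_one] using this
        rw [r1] at h''
        exact (mul_left_cancel (mul_right_cancel h'')).symm
      · exact h22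
    rw [hp] at hr0 ⊢
    exact key' (r 0) (r 1) hr0
  have hinj : Function.Injective f := by
    intro p q h
    by_contra hpq
    obtain ⟨g, hg⟩ := hg p
    apply hne0 (q - p) (sub_ne_zero.2 (Ne.symm hpq))
    have h1 := hg (q - p)
    rw [sub_add_cancel, ← h] at h1
    have h2 := hg 0
    rw [zero_add, f0, ← h1] at h2
    exact (mul_left_cancel (mul_right_cancel h2)).symm
  have hnc : ∀ p q, p ≠ q → ¬ Commute (f p : G) (f q : G) := by
    intro p q hpq h
    have h1 := Rall p q
    rw [← h.eq, mul_inv_cancel_right] at h1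
    exact hpq ((by decide +kernel : ∀ p q : Fin 2 → ZMod 3, p = -p - q → p = q) p q
      (hinj (Subtype.ext h1)))
  have fa : f ![0, 0] = ⟨a, hA⟩ := rfl
  have fb : f ![1, 0] = ⟨b, hB⟩ := rfl
  have fc : f ![0, 1] = ⟨c, hC⟩ := rfl
  rw [← affineModel_eq]
  refine plane_iso hD _ _ f hinj (fun p q h => ⟨fun _ => hnc p q h, fun _ => h⟩)
    (fun _ _ h => h) (fun p q _ => (Rall p q).symm) ?_ ?_
  · rintro w (hw | hw)
    · rcases hw with hw | hw | hw
      · exact ⟨![0, 0], fa.trans (Subtype.ext hw).symm⟩
      · exact ⟨![1, 0], fb.trans (Subtype.ext hw).symm⟩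
      · exact ⟨_, Subtype.ext ((Rall ![0, 0] ![1, 0]).symm.trans hw.symm)⟩
    · rcases hw with hw | hw | hw
      · exact ⟨![0, 0], fa.trans (Subtype.ext hw).symm⟩
      · exact ⟨![0, 1], fc.trans (Subtype.ext hw).symm⟩
      · exact ⟨_, Subtype.ext ((Rall ![0, 0] ![0, 1]).symm.trans hw.symm)⟩
  · rintro T hT hsp _ ⟨s, rfl⟩
    have step : ∀ p q : Fin 2 → ZMod 3, p ≠ q → f p ∈ T → f q ∈ T → f (-p - q) ∈ T :=
      fun p q h hp hq => subspace_third (fun p q => -p - q) f (fun p q _ => (Rall p q).symm) hsp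
        (hnc p q h) hp hq
    have ma : f ![0, 0] ∈ T := hT (Or.inl (Or.inl rfl))
    have mb : f ![1, 0] ∈ T := hT (Or.inl (Or.inr (Or.inl rfl)))
    have mc : f ![0, 1] ∈ T := hT (Or.inr (Or.inr (Or.inl rfl)))
    have m20 := step _ _ (by decide) ma mb
    have m02 := step _ _ (by decide) ma mc
    have m22 := step _ _ (by decide) mb mc
    have m11 := step _ _ (by decide) ma m22
    have m21 := step _ _ (by decide) mb m02
    have m12 := step _ _ (by decide) m20 mc
    have hall : ∀ s : Fin 2 → ZMod 3, s = ![0, 0] ∨ s = ![1, 0] ∨ s = ![0, 1] ∨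
        s = -![0, 0] - ![1, 0] ∨ s = -![0, 0] - ![0, 1] ∨ s = -![1, 0] - ![0, 1] ∨
        s = -![0, 0] - (-![1, 0] - ![0, 1]) ∨ s = -![1, 0] - (-![0, 0] - ![0, 1]) ∨
        s = -(-![0, 0] - ![1, 0]) - ![0, 1] := by decide +kernel
    rcases hall s with rfl | rfl | rfl | rfl | rfl | rfl | rfl | rfl | rfl
    exacts [ma, mb, mc, m20, m02, m22, m11, m21, m12]

/-- The lines of a closed set of 3-transpositions form a Fischer space. -/
theorem isFischerSpace_lines (hD : IsClosedSet D) : IsFischerSpace (threeTranspositionLines D) := by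
  refine ⟨lines_partialLinear hD, ?_, ?_⟩
  · rintro l ⟨x, y, hxy, rfl⟩
    exact lineThrough_ncard hD hxy
  · rintro l ⟨x, y, hxy, rfl⟩ m ⟨u, v, huv, rfl⟩ hlm ⟨a, hal, ham⟩
    change a ∈ lineThrough x y at hal
    change a ∈ lineThrough u v at ham
    have other : ∀ {x y : D}, ¬ Commute (x : G) (y : G) → a ∈ lineThrough x y →
        ∃ b : D, ¬ Commute (a : G) (b : G) ∧ lineThrough x y = lineThrough a b := by
      intro x y h ha
      by_cases hax : a = x
      · subst hax; exact ⟨y, h, rfl⟩
      · exact ⟨x, line_eq hD h ha (Or.inl rfl) hax⟩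
    obtain ⟨b, hab, hl⟩ := other hxy hal
    obtain ⟨c, hac, hm⟩ := other huv ham
    change lineThrough x y ≠ lineThrough u v at hlm
    change LineSystem.Isomorphic (LineSystem.restrict _ (LineSystem.span _
      (lineThrough x y ∪ lineThrough u v))) _ ∨ LineSystem.Isomorphic (LineSystem.restrict _
      (LineSystem.span _ (lineThrough x y ∪ lineThrough u v))) _
    rw [hl, hm] at hlm ⊢
    have hnm : ∀ w ∈ lineThrough a c, a ≠ w → w ∉ lineThrough a b := fun w hw hne hw' =>
      hlm ((line_eq hD hab (Or.inl rfl) hw' hne).2.trans (line_eq hD hac (Or.inl rfl) hw hne).2.symm)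
    have hne : b ≠ c := fun h =>
      hnm c (Or.inr (Or.inl rfl)) (fun h' => ne_of_not_commute hac (congrArg Subtype.val h'))
        (Or.inr (Or.inl (congrArg Subtype.val h.symm)))
    by_cases hbc : Commute (b : G) (c : G)
    · exact Or.inl (span_dual hD hab hac hbc hne)
    by_cases hbc' : Commute (b : G) ((a : G) * c * a)
    · have e : (c : G) * a * (c : G)⁻¹ = (a : G) * c * a := by
        rw [inv_eq hD.1 c.2, braid hD.1 c.2 a.2 (not_commute_symm hac)]
      let c' : D := ⟨(a : G) * c * a, third_mem hD a.2 c.2⟩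
      have hc' : c' ∈ lineThrough a c := Or.inr (Or.inr e.symm)
      have hac' : a ≠ c' := fun h => third_ne_left hD a.2 c.2 hac (congrArg Subtype.val h).symm
      obtain ⟨h1, h2⟩ := line_eq hD hac (Or.inl rfl) hc' hac'
      rw [h2]
      exact Or.inl (span_dual hD hab h1 hbc'
        (fun h => hnm c' hc' hac' (Or.inr (Or.inl (congrArg Subtype.val h.symm)))))
    · refine Or.inr (span_affine hD hab hac hbc hbc' hne fun h => ?_)
      apply hnm c (Or.inr (Or.inl rfl)) (fun h' => ne_of_not_commute hac (congrArg Subtype.val h'))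
      refine Or.inr (Or.inr ?_)
      rw [inv_eq hD.1 b.2, h, braid hD.1 b.2 a.2 (not_commute_symm hab)]

end Cfsg.Agent.Lib.ThreeTranspositions
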