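import Cfsg.Agent.Lib.ThreeTranspositions.Blocks

/-!
An involution whose class meets a coset of a normal 2-subgroup in a single orbit of that subgroup
normalises a Sylow subgroup for an odd prime of every `O P` it normalises.
-/
set_option autoImplicit false

open Cfsg
open scoped IsMulCommutative Pointwise

namespace Cfsg.Agent.Lib.ThreeTranspositions

universe u

variable {G : Type u} [Group G]

theorem prod_eq_one_of_involution {A ι : Type*} [CommGroup A] [Fintype ι] (hA : ∀ a : A, a * a = 1)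
    (hodd : Odd (Fintype.card ι)) (σ : ι → ι) (hσ : ∀ i, σ (σ i) = i) (g : ι → A) (a : A)
    (hg : ∀ i, g (σ i) = g i) (hfix : ∀ i, σ i = i → g i = a) (hprod : ∏ i, g i = 1) : a = 1 := by
  have h1 : ∏ i, g i * a = 1 := by
    refine Finset.prod_involution (fun i _ => σ i) (fun i _ => ?_) (fun i _ hne hh => hne ?_)
      (fun i _ => Finset.mem_univ _) (fun i _ => hσ i)
    · rw [hg, hA]
    · rw [hfix i hh, hA]
  rw [Finset.prod_mul_distrib, hprod, one_mul, Finset.prod_const, Finset.card_univ] at h1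
  obtain ⟨k, hk⟩ := hodd
  rw [hk, pow_succ, pow_mul, pow_two, hA, one_pow, one_mul] at h1
  exact h1

variable [Finite G]

/-- One step: `M` an elementary abelian normal subgroup, central in `O`. -/
theorem exists_normalizes_step {O M : Subgroup G} [M.Normal] (hMO : M ≤ O)
    (hMc : ∀ m ∈ M, ∀ o ∈ O, Commute m o) (hM2 : ∀ m ∈ M, m * m = 1) {p : ℕ} [Fact p.Prime]
    (hp2 : p ≠ 2) {P : Subgroup G} (hP : IsPGroup p P) {d : G} (hd : d * d = 1)
    (hmem : ∀ x ∈ P, d * x * d ∈ P ⊔ M)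
    (hyp : ∀ g : G, g * d * g⁻¹ * d ∈ O → ∃ o ∈ O, g * d * g⁻¹ = o * d * o⁻¹) :
    ∃ o ∈ O, ∀ x ∈ P, d * (o * x * o⁻¹) * d ∈ P.map (MulAut.conj o).toMonoidHom := by
  classical
  have hdinv : d⁻¹ = d := inv_eq_of_mul_eq_one_left hd
  have htriv : ∀ x ∈ P, x ∈ M → x = 1 := by
    intro x hx hxM
    obtain ⟨k, hk⟩ := hP ⟨x, hx⟩
    have hk' : x ^ p ^ k = 1 := by simpa [Subtype.ext_iff] using hk
    have h := pow_gcd_eq_one.2 ⟨(pow_two x).trans (hM2 x hxM), hk'⟩
    rwa [show Nat.gcd 2 (p ^ k) = 1 from Nat.Coprime.pow_right k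
      ((Nat.coprime_primes Nat.prime_two Fact.out).2 hp2.symm), pow_one] at h
  have hsup : ∀ x ∈ P ⊔ M, ∃ q ∈ P, ∃ n ∈ M, q * n = x := by
    intro x hx
    rw [← SetLike.mem_coe, Subgroup.mul_normal, Set.mem_mul] at hx
    exact hx
  -- the Sylow subgroups `P` and `d P d` of `P M`
  set H := P ⊔ M with hH
  have hsyl : ∀ Q : Subgroup G, IsPGroup p Q → Q ≤ H → P ≤ Q → Q = P := by
    intro Q hQ hQH hPQ
    refine le_antisymm (fun x hx => ?_) hPQ
    obtain ⟨q, hq, n, hn, rfl⟩ := hsup x (hQH hx)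
    have hnQ : n ∈ Q := by
      have := mul_mem (inv_mem (hPQ hq)) hx
      rwa [inv_mul_cancel_left] at this
    obtain ⟨k, hk⟩ := hQ ⟨n, hnQ⟩
    have hk' : n ^ p ^ k = 1 := by simpa [Subtype.ext_iff] using hk
    have h := pow_gcd_eq_one.2 ⟨(pow_two n).trans (hM2 n hn), hk'⟩
    rw [show Nat.gcd 2 (p ^ k) = 1 from Nat.Coprime.pow_right k
      ((Nat.coprime_primes Nat.prime_two Fact.out).2 hp2.symm), pow_one] at h
    rw [h, mul_one]
    exact hq
  have hconjH : ∀ x ∈ H, d * x * d ∈ H := by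
    intro x hx
    obtain ⟨q, hq, n, hn, rfl⟩ := hsup x hx
    have h1 : d * n * d ∈ M := by
      have := (inferInstance : M.Normal).conj_mem n hn d
      rwa [hdinv] at this
    rw [show d * (q * n) * d = (d * q * d) * (d * n * d) by
      simp only [mul_assoc]; rw [← mul_assoc d d, hd, one_mul]]
    exact mul_mem (hmem q hq) (le_sup_right (a := P) h1)
  let S : Sylow p H :=
    { toSubgroup := P.subgroupOf H
      isPGroup' := hP.comap_subtype
      is_maximal' := fun {Q} hQ hle => by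
        have h1 := hsyl (Q.map H.subtype) (hQ.map _) (by
          rintro _ ⟨y, -, rfl⟩; exact y.2) (fun x hx =>
            ⟨⟨x, le_sup_left (b := M) hx⟩, hle hx, rfl⟩)
        refine le_antisymm (fun y hy => ?_) hle
        show (y : G) ∈ P
        rw [← h1]; exact ⟨y, hy, rfl⟩ }
  let δ : H ≃* H :=
    { toFun := fun y => ⟨d * y * d, hconjH y y.2⟩
      invFun := fun y => ⟨d * y * d, hconjH y y.2⟩
      left_inv := fun y => Subtype.ext (by
        show d * (d * (y : G) * d) * d = y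
        simp only [mul_assoc, hd, mul_one]; rw [← mul_assoc, hd, one_mul])
      right_inv := fun y => Subtype.ext (by
        show d * (d * (y : G) * d) * d = y
        simp only [mul_assoc, hd, mul_one]; rw [← mul_assoc, hd, one_mul])
      map_mul' := fun y z => Subtype.ext (by
        show d * ((y : G) * z) * d = d * y * d * (d * z * d)
        simp only [mul_assoc]; rw [← mul_assoc d d, hd, one_mul]) }
  let S' : Sylow p H := S.mapSurjective (f := δ.toMonoidHom) δ.surjective
  obtain ⟨h, hh⟩ := MulAction.exists_smul_eq H S S'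
  have hh' : MulAut.conj h • (S : Subgroup H) = (S : Subgroup H).map δ.toMonoidHom := by
    exact congrArg (fun T : Sylow p H => (T : Subgroup H)) hh
  obtain ⟨n', q', hn', hq', he⟩ : ∃ n' q', n' ∈ M ∧ q' ∈ P ∧ (h : G) = n' * q' := by
    obtain ⟨q, hq, n, hn, hqn⟩ := hsup h h.2
    exact ⟨q * n * q⁻¹, q, (inferInstance : M.Normal).conj_mem n hn q, hq, by rw [← hqn]; group⟩
  -- `n' d` normalises `P`
  set m := n'⁻¹ with hmdef
  have hmM : m ∈ M := inv_mem hn'
  have hm1 : m * m = 1 := hM2 m hmM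
  have hminv : m⁻¹ = m := inv_eq_of_mul_eq_one_left hm1
  have hstab : ∀ x ∈ P, m * d * x * (m * d)⁻¹ ∈ P := by
    intro x hx
    have h1 : δ ⟨x, le_sup_left (b := M) hx⟩ ∈ (S : Subgroup H).map δ.toMonoidHom :=
      ⟨_, hx, rfl⟩
    rw [← hh'] at h1
    obtain ⟨y, hy, hey⟩ := h1
    have hy' : (y : G) ∈ P := hy
    have h2 : (h : G) * y * (h : G)⁻¹ = d * x * d := congrArg Subtype.val hey
    rw [mul_inv_rev, hdinv, show m * d * x * (d * m⁻¹) = m * (d * x * d) * m⁻¹ by
      simp only [mul_assoc], ← h2, he, hmdef, show n'⁻¹ * (n' * q' * y * (n' * q')⁻¹) * n'⁻¹⁻¹ =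
        q' * y * q'⁻¹ by group]
    exact mul_mem (mul_mem hq' hy') (inv_mem hq')
  -- its square
  set c := m * (d * m * d) with hcdef
  have hcM : c ∈ M := by
    refine mul_mem hmM ?_
    have := (inferInstance : M.Normal).conj_mem m hmM d
    rwa [hdinv] at this
  have hc0 : (m * d) * (m * d) = c := by rw [hcdef]; simp only [mul_assoc]
  have hcP : ∀ x ∈ P, Commute c x := by
    intro x hx
    have h1 := hstab _ (hstab x hx)
    have h2 : c * x * c⁻¹ ∈ P := by
      convert h1 using 1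
      rw [← hc0]; group
    have h3 : c * x * c⁻¹ * x⁻¹ ∈ M := by
      have := mul_mem hcM ((inferInstance : M.Normal).conj_mem c⁻¹ (inv_mem hcM) x)
      convert this using 1
      group
    have h4 := htriv _ (mul_mem h2 (inv_mem hx)) h3
    show c * x = x * c
    calc c * x = (c * x * c⁻¹ * x⁻¹) * (x * c) := by group
      _ = x * c := by rw [h4, one_mul]
  -- the subgroup of commutators with `d`
  let U : Subgroup G :=
    { carrier := {μ | μ ∈ M ∧ ∃ o ∈ O, o * d * o⁻¹ * d = μ}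
      one_mem' := ⟨one_mem _, 1, one_mem _, by rw [mul_one 1 |>.symm]; simp [hd]⟩
      mul_mem' := by
        rintro a b ⟨ha, o, ho, hoa⟩ ⟨hb, o', ho', hob⟩
        refine ⟨mul_mem ha hb, o * o', mul_mem ho ho', ?_⟩
        have e1 : o' * d * o'⁻¹ = b * d := by rw [← hob, mul_assoc _ d d, hd, mul_one]
        have e2 : o * d * o⁻¹ = a * d := by rw [← hoa, mul_assoc _ d d, hd, mul_one]
        have e3 : o * b = b * o := ((hMc b hb o ho).eq).symm
        calc o * o' * d * (o * o')⁻¹ * d = o * (o' * d * o'⁻¹) * o⁻¹ * d := by group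
          _ = (o * b) * d * o⁻¹ * d := by rw [e1]; simp only [mul_assoc]
          _ = b * (o * d * o⁻¹) * d := by rw [e3]; simp only [mul_assoc]
          _ = b * a := by rw [e2, mul_assoc, mul_assoc a d d, hd, mul_one]
          _ = a * b := (hMc b hb a (hMO ha)).eq
      inv_mem' := by
        rintro a ⟨ha, o, ho, hoa⟩
        rw [inv_eq_of_mul_eq_one_left (hM2 a ha)]
        exact ⟨ha, o, ho, hoa⟩ }
  let C : Subgroup G := M ⊓ Subgroup.centralizer (P : Set G)
  have hUM : U ≤ M := fun _ h => h.1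
  have hcomm : ∀ x ∈ M, ∀ y ∈ M, Commute x y := fun x hx y hy => hMc x hx y (hMO hy)
  haveI : IsMulCommutative M := ⟨⟨fun x y => Subtype.ext (hcomm x x.2 y y.2).eq⟩⟩
  let φ : M →* M ⧸ (U ⊔ C).subgroupOf M := QuotientGroup.mk' _
  have hφ : ∀ x : M, (x : G) ∈ U ⊔ C → φ x = 1 := fun x hx => (QuotientGroup.eq_one_iff x).2 hx
  have hA : ∀ a : M ⧸ (U ⊔ C).subgroupOf M, a * a = 1 := by
    intro a
    obtain ⟨x, rfl⟩ := QuotientGroup.mk'_surjective _ a
    rw [← map_mul, show x * x = 1 from Subtype.ext (hM2 x x.2), map_one]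
  let y : P → M := fun x => ⟨(x : G) * m * (x : G)⁻¹, (inferInstance : M.Normal).conj_mem m hmM x⟩
  let σ : P → P := fun x => ⟨m * d * x * (m * d)⁻¹, hstab x x.2⟩
  haveI : Fintype P := Fintype.ofFinite P
  have hσ : ∀ x, σ (σ x) = x := by
    intro x
    apply Subtype.ext
    show m * d * (m * d * (x : G) * (m * d)⁻¹) * (m * d)⁻¹ = x
    rw [show m * d * (m * d * (x : G) * (m * d)⁻¹) * (m * d)⁻¹ =
      (m * d * (m * d)) * x * (m * d * (m * d))⁻¹ by group, hc0, (hcP x x.2).eq, mul_inv_cancel_right]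
  have hyy : ∀ x, φ (y (σ x)) = φ (y x) := by
    intro x
    have hu : φ ⟨(y x : G) * (d * (y x : G) * d), mul_mem (y x).2 (by
        have := (inferInstance : M.Normal).conj_mem _ (y x).2 d
        rwa [hdinv] at this)⟩ = 1 := by
      refine hφ _ (Subgroup.mem_sup_left ⟨?_, (y x : G), hMO (y x).2, ?_⟩)
      · refine mul_mem (y x).2 ?_
        have := (inferInstance : M.Normal).conj_mem _ (y x).2 d
        rwa [hdinv] at this
      · rw [inv_eq_of_mul_eq_one_left (hM2 _ (y x).2)]; simp only [mul_assoc]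
    have hcC : φ ⟨c, hcM⟩ = 1 :=
      hφ _ (Subgroup.mem_sup_right ⟨hcM, Subgroup.mem_centralizer_iff.2 fun z hz =>
        (hcP z hz).eq.symm⟩)
    have key : (d * (y x : G) * d) = (y (σ x) : G) * c := by
      have e1 : d * m * d = m * c := by rw [hcdef, ← mul_assoc, hm1, one_mul]
      have e2 : m * (d * (y x : G) * d) * m⁻¹ = d * (y x : G) * d := by
        have hM' : d * (y x : G) * d ∈ M := by
          have := (inferInstance : M.Normal).conj_mem _ (y x).2 d
          rwa [hdinv] at this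
        rw [(hcomm m hmM _ hM').eq, mul_inv_cancel_right]
      have e3 : (m * d) * m * (m * d)⁻¹ = m * c := by
        rw [mul_inv_rev, hdinv, show m * d * m * (d * m⁻¹) = m * (d * m * d) * m⁻¹ by
          simp only [mul_assoc], ← hcdef, hminv, (hcomm c hcM m hmM).eq]
      show d * ((x : G) * m * (x : G)⁻¹) * d = (σ x : G) * m * (σ x : G)⁻¹ * c
      calc d * ((x : G) * m * (x : G)⁻¹) * d
          = m * (d * ((x : G) * m * (x : G)⁻¹) * d) * m⁻¹ := e2.symm
        _ = (σ x : G) * ((m * d) * m * (m * d)⁻¹) * (σ x : G)⁻¹ := by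
            show _ = (m * d * (x : G) * (m * d)⁻¹) * ((m * d) * m * (m * d)⁻¹) *
              (m * d * (x : G) * (m * d)⁻¹)⁻¹
            have dd : ∀ z : G, d * (d * z) = z := fun z => by rw [← mul_assoc, hd, one_mul]
            simp only [mul_inv_rev, inv_inv, hdinv, mul_assoc, inv_mul_cancel_left, dd]
        _ = (σ x : G) * m * (c * (σ x : G)⁻¹) := by rw [e3]; simp only [mul_assoc]
        _ = _ := by rw [((hcP _ (σ x).2).inv_right).eq]; simp only [mul_assoc]
    have h1 : (⟨(y x : G) * (d * (y x : G) * d), mul_mem (y x).2 (by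
        have := (inferInstance : M.Normal).conj_mem _ (y x).2 d
        rwa [hdinv] at this)⟩ : M) = y x * (y (σ x) * ⟨c, hcM⟩) := Subtype.ext (by
      show (y x : G) * (d * (y x : G) * d) = _
      rw [key]; rfl)
    rw [h1, map_mul, map_mul, hcC, mul_one] at hu
    rw [← mul_one (φ (y (σ x))), ← hA (φ (y x)), ← mul_assoc, mul_comm (φ (y (σ x))), hu, one_mul]
  have hprod : φ (∏ x, y x) = 1 := by
    refine hφ _ (Subgroup.mem_sup_right ⟨(∏ x, y x).2, Subgroup.mem_centralizer_iff.2 fun z hz => ?_⟩)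
    let ψ : M →* M := (MulAut.conjNormal z : M ≃* M).toMonoidHom
    have h1 : ψ (∏ x, y x) = ∏ x, y x := by
      rw [map_prod]
      refine Fintype.prod_equiv (Equiv.mulLeft (⟨z, hz⟩ : P)) _ _ fun x => ?_
      apply Subtype.ext
      show (MulAut.conjNormal z (y x) : M).1 = ((z * (x : G)) * m * (z * (x : G))⁻¹)
      rw [MulAut.conjNormal_apply]
      show z * ((x : G) * m * (x : G)⁻¹) * z⁻¹ = _
      group
    have h2 : z * ((∏ x, y x : M) : G) * z⁻¹ = ((∏ x, y x : M) : G) := by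
      have := congrArg Subtype.val h1
      rwa [show (ψ (∏ x, y x) : G) = z * ((∏ x, y x : M) : G) * z⁻¹ from
        MulAut.conjNormal_apply z _] at this
    exact (mul_inv_eq_iff_eq_mul.1 h2)
  have hodd : Odd (Fintype.card P) := by
    rw [← Nat.card_eq_fintype_card]
    obtain ⟨k, hk⟩ := IsPGroup.iff_card.1 hP
    rw [hk]
    exact ((Fact.out : p.Prime).odd_of_ne_two hp2).pow
  have hfix : ∀ x, σ x = x → φ (y x) = φ ⟨m, hmM⟩ := by
    intro x hx
    have hx' : m * d * (x : G) * (m * d)⁻¹ = x := congrArg Subtype.val hx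
    have e1 : (x : G) * d * (x : G)⁻¹ * d = (y x : G) * m := by
      have e2 : m * d * (x : G) = (x : G) * (m * d) := by
        conv_rhs => rw [← hx']
        group
      have hyi : (y x : G) * (y x : G) = 1 := hM2 _ (y x).2
      calc (x : G) * d * (x : G)⁻¹ * d = (x : G) * m⁻¹ * ((x : G)⁻¹ * ((x : G) * (m * d))) * (x : G)⁻¹ * d := by group
        _ = (x : G) * m⁻¹ * (x : G)⁻¹ * (m * d * x) * (x : G)⁻¹ * d := by rw [e2]; simp only [mul_assoc]
        _ = ((x : G) * m⁻¹ * (x : G)⁻¹) * m * (d * d) := by group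
        _ = _ := by rw [hd, mul_one, hminv]
    have h1 : (y x : G) * m ∈ M := mul_mem (y x).2 hmM
    obtain ⟨o, ho, heo⟩ := hyp x (by rw [e1]; exact hMO h1)
    have h2 := hφ (y x * ⟨m, hmM⟩) (Subgroup.mem_sup_left ⟨h1, o, ho, by rw [← heo, e1]; rfl⟩)
    rw [map_mul] at h2
    rw [← mul_one (φ (y x)), ← hA (φ ⟨m, hmM⟩), ← mul_assoc, h2, one_mul]
  have hm : φ ⟨m, hmM⟩ = 1 :=
    prod_eq_one_of_involution hA hodd σ hσ (fun x => φ (y x)) _ hyy hfix (by
      rw [← map_prod]; exact hprod)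
  have hmT : m ∈ U ⊔ C := (QuotientGroup.eq_one_iff (⟨m, hmM⟩ : M)).1 hm
  have hcommUC : ∀ u ∈ U, ∀ k ∈ C, Commute u k := fun u hu k hk => hcomm u (hUM hu) k hk.1
  have hnU : U ≤ Subgroup.normalizer (C : Set G) := fun u hu => Subgroup.mem_normalizer_iff.2 fun k => by
    refine ⟨fun hk => ?_, fun hk => ?_⟩
    · rwa [(hcommUC u hu k hk).eq, mul_inv_cancel_right]
    · have h1 := hcommUC u hu _ hk
      have h2 : k = u * k * u⁻¹ := by
        have := h1.eq
        calc k = u⁻¹ * (u * k * u⁻¹ * u) := by group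
          _ = u * k * u⁻¹ := by rw [← this]; group
      rw [h2]; exact hk
  rw [← SetLike.mem_coe, Subgroup.coe_mul_of_left_le_normalizer_right U C hnU, Set.mem_mul] at hmT
  obtain ⟨u, hu, k, hk, huk⟩ := hmT
  obtain ⟨o, ho, hou⟩ := hu.2
  refine ⟨o⁻¹, inv_mem ho, fun x hx => ?_⟩
  have hkx : ∀ z ∈ P, Commute k z := fun z hz => (Subgroup.mem_centralizer_iff.1 hk.2 z hz).symm
  have e1 : o * d * o⁻¹ = k * (m * d) := by
    have h1 : o * d * o⁻¹ = u * d := by rw [← hou, mul_assoc _ d d, hd, mul_one]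
    rw [h1, ← huk, ← mul_assoc, (hcommUC u hu k hk).eq, ← mul_assoc k, ← pow_two, pow_two,
      hM2 k hk.1, one_mul]
  refine ⟨m * d * x * (m * d)⁻¹, hstab x hx, ?_⟩
  show o⁻¹ * (m * d * x * (m * d)⁻¹) * o⁻¹⁻¹ = _
  have e2 : k * (m * d * x * (m * d)⁻¹) * k⁻¹ = m * d * x * (m * d)⁻¹ := by
    rw [(hkx _ (hstab x hx)).eq, mul_inv_cancel_right]
  rw [← e2, show k * (m * d * x * (m * d)⁻¹) * k⁻¹ = (k * (m * d)) * x * (k * (m * d))⁻¹ by group,
    ← e1]
  conv_rhs => rw [← hdinv]
  group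
  simp only [zpow_neg_one, hdinv, mul_assoc]

theorem exists_normalizes_aux {p : ℕ} [Fact p.Prime] (hp2 : p ≠ 2) :
    ∀ (n : ℕ) (G : Type u) [Group G] [Finite G] (O P : Subgroup G) [O.Normal] (d : G),
      Nat.card O ≤ n → IsPGroup 2 O → IsPGroup p P → d * d = 1 →
      (∀ x ∈ P, d * x * d ∈ P ⊔ O) →
      (∀ g : G, g * d * g⁻¹ * d ∈ O → ∃ o ∈ O, g * d * g⁻¹ = o * d * o⁻¹) →
      ∃ o ∈ O, ∀ x ∈ P, d * (o * x * o⁻¹) * d ∈ P.map (MulAut.conj o).toMonoidHom := by
  intro n
  induction n with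
  | zero =>
    intro G _ _ O P _ d hn _ _ _ _ _
    have := Nat.card_pos (α := O)
    omega
  | succ n ih =>
    intro G _ _ O P _ d hn hO hP hd hmem hyp
    by_cases hbot : O = ⊥
    · subst hbot
      refine ⟨1, one_mem _, fun x hx => ?_⟩
      have h := hmem x hx
      rw [sup_bot_eq] at h
      exact ⟨d * x * d, h, by simp⟩
    haveI : Fact (Nat.Prime 2) := ⟨Nat.prime_two⟩
    haveI : Nontrivial O := (Subgroup.nontrivial_iff_ne_bot O).2 hbot
    let M : Subgroup G :=
      { carrier := {x | x ∈ O ∧ x * x = 1 ∧ ∀ o ∈ O, Commute x o}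
        one_mem' := ⟨one_mem _, one_mul 1, fun o _ => Commute.one_left o⟩
        mul_mem' := fun {a b} ha hb => ⟨mul_mem ha.1 hb.1, by
          calc a * b * (a * b) = a * (b * a) * b := by simp only [mul_assoc]
            _ = (a * a) * (b * b) := by rw [(hb.2.2 a ha.1).eq]; simp only [mul_assoc]
            _ = 1 := by rw [ha.2.1, hb.2.1, one_mul], fun o ho =>
              (ha.2.2 o ho).mul_left (hb.2.2 o ho)⟩
        inv_mem' := fun {a} ha => by rwa [inv_eq_of_mul_eq_one_left ha.2.1] }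
    have hMn : M.Normal := ⟨fun x hx g => ⟨(inferInstance : O.Normal).conj_mem x hx.1 g, by
      rw [show g * x * g⁻¹ * (g * x * g⁻¹) = g * (x * x) * g⁻¹ by group, hx.2.1]; group,
      fun o ho => by
        have h1 := (Commute.conj_iff g).2 (hx.2.2 (g⁻¹ * o * g) (by
          have := (inferInstance : O.Normal).conj_mem o ho g⁻¹
          rwa [inv_inv] at this))
        rwa [show g * (g⁻¹ * o * g) * g⁻¹ = o by group] at h1⟩⟩
    have hMO : M ≤ O := fun _ h => h.1
    have hMne : M ≠ ⊥ := by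
      haveI := hO.center_nontrivial
      have hdvd : 2 ∣ Nat.card (Subgroup.center O) := by
        obtain ⟨k, hk⟩ := IsPGroup.iff_card.1 (hO.to_subgroup (Subgroup.center O))
        rw [hk]
        rcases k with _ | k
        · have := Finite.one_lt_card (α := Subgroup.center O)
          rw [hk] at this
          omega
        · exact dvd_pow_self 2 (Nat.succ_ne_zero k)
      obtain ⟨z, hz⟩ := exists_prime_orderOf_dvd_card' 2 hdvd
      rw [Subgroup.ne_bot_iff_exists_ne_one]
      have hz2 : z * z = 1 := by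
        have := pow_orderOf_eq_one z
        rwa [hz, pow_two] at this
      refine ⟨⟨((z : O) : G), (z : O).2, congrArg (fun w : Subgroup.center O => ((w : O) : G)) hz2,
        fun o ho => (congrArg Subtype.val ((Subgroup.mem_center_iff.1 z.2) ⟨o, ho⟩)).symm⟩, fun h => ?_⟩
      have hz0 : ((z : O) : G) = 1 := congrArg Subtype.val h
      have hz1 : z = 1 := Subtype.ext (Subtype.ext (hz0.trans rfl))
      rw [hz1, orderOf_one] at hz
      omega
    set π := QuotientGroup.mk' M with hπ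
    have hker : π.ker = M := QuotientGroup.ker_mk' M
    haveI : (O.map π).Normal := Subgroup.Normal.map inferInstance π (QuotientGroup.mk'_surjective M)
    have hlt : Nat.card (O.map π) ≤ n := by
      have h1 := Subgroup.card_eq_card_quotient_mul_card_subgroup (M.subgroupOf O)
      have h2 : (π.comp O.subtype).ker = M.subgroupOf O := by
        rw [← MonoidHom.comap_ker, hker]; rfl
      have h3 : Nat.card (O ⧸ M.subgroupOf O) = Nat.card (O.map π) := by
        rw [← h2]
        have e := QuotientGroup.quotientKerEquivRange (π.comp O.subtype)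
        rw [Nat.card_congr e.toEquiv, MonoidHom.range_comp, Subgroup.range_subtype]
      have h4 : Nat.card (M.subgroupOf O) = Nat.card M :=
        Nat.card_congr (Subgroup.subgroupOfEquivOfLe hMO).toEquiv
      haveI : Nontrivial M := (Subgroup.nontrivial_iff_ne_bot M).2 hMne
      have h5 : 1 < Nat.card M := Finite.one_lt_card
      rw [h3, h4] at h1
      have h6 : Nat.card (O.map π) < Nat.card O := by
        rw [h1]; exact lt_mul_of_one_lt_right Nat.card_pos h5
      omega
    obtain ⟨o', ho', hnorm⟩ := ih (G ⧸ M) (O.map π) (P.map π) (π d) hlt (hO.map π) (hP.map π)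
      (by rw [← map_mul, hd, map_one])
      (by
        rintro _ ⟨x, hx, rfl⟩
        rw [← Subgroup.map_sup, ← map_mul, ← map_mul]
        exact ⟨_, hmem x hx, rfl⟩)
      (by
        intro g' hg'
        obtain ⟨g, rfl⟩ := QuotientGroup.mk'_surjective M g'
        have h1 : g * d * g⁻¹ * d ∈ O := by
          rw [← map_inv, ← map_mul, ← map_mul, ← map_mul] at hg'
          obtain ⟨o, ho, he⟩ := hg'
          have h2 : o⁻¹ * (g * d * g⁻¹ * d) ∈ M := QuotientGroup.eq.1 he
          have := mul_mem ho (hMO h2)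
          rwa [mul_inv_cancel_left] at this
        obtain ⟨o, ho, he⟩ := hyp g h1
        refine ⟨π o, ⟨o, ho, rfl⟩, ?_⟩
        rw [← map_inv, ← map_inv, ← map_mul, ← map_mul, ← map_mul, ← map_mul, he])
    obtain ⟨o, ho, rfl⟩ := ho'
    set P₁ := P.map (MulAut.conj o).toMonoidHom with hP₁
    have hmem' : ∀ x ∈ P₁, d * x * d ∈ P₁ ⊔ M := by
      rintro _ ⟨x, hx, rfl⟩
      rw [← hker, ← Subgroup.comap_map_eq, Subgroup.mem_comap]
      obtain ⟨_, ⟨z, hz, rfl⟩, he⟩ := hnorm (π x) ⟨x, hx, rfl⟩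
      refine ⟨o * z * o⁻¹, ⟨z, hz, rfl⟩, ?_⟩
      show π (o * z * o⁻¹) = π (d * (o * x * o⁻¹) * d)
      simp only [map_mul, map_inv]
      exact he
    obtain ⟨o₂, ho₂, h₂⟩ := exists_normalizes_step (O := O) hMO
      (fun m hm o ho => hm.2.2 o ho) (fun m hm => hm.2.1) hp2 (hP.map _) hd hmem' hyp
    refine ⟨o₂ * o, mul_mem ho₂ ho, fun x hx => ?_⟩
    obtain ⟨_, ⟨z, hz, rfl⟩, he⟩ := h₂ (o * x * o⁻¹) ⟨x, hx, rfl⟩
    refine ⟨z, hz, ?_⟩
    show (o₂ * o) * z * (o₂ * o)⁻¹ = _
    rw [show d * ((o₂ * o) * x * (o₂ * o)⁻¹) * d = d * (o₂ * (o * x * o⁻¹) * o₂⁻¹) * d by group, ← he]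
    show _ = o₂ * (o * z * o⁻¹) * o₂⁻¹
    group

/-- Lifting: an involution whose class meets its coset modulo a normal `2`-subgroup `O` in one
`O`-orbit normalises an `O`-conjugate of every odd `p`-subgroup `P` with `P O` invariant. -/
theorem exists_normalizes {p : ℕ} [Fact p.Prime] (hp2 : p ≠ 2) {O P : Subgroup G} [O.Normal]
    (hO : IsPGroup 2 O) (hP : IsPGroup p P) {d : G} (hd : d * d = 1)
    (hmem : ∀ x ∈ P, d * x * d ∈ P ⊔ O)
    (hyp : ∀ g : G, g * d * g⁻¹ * d ∈ O → ∃ o ∈ O, g * d * g⁻¹ = o * d * o⁻¹) :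
    ∃ o ∈ O, ∀ x ∈ P, d * (o * x * o⁻¹) * d ∈ P.map (MulAut.conj o).toMonoidHom :=
  exists_normalizes_aux hp2 _ G O P d le_rfl hO hP hd hmem hyp

end Cfsg.Agent.Lib.ThreeTranspositions
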