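import Cfsg.Agent.Lib.ThreeTranspositions.Fischer

/-!
The involutions `t(x)` of a Fischer space.
-/
set_option autoImplicit false

open Cfsg

namespace Cfsg.Agent.Lib.ThreeTranspositions

open LineSystem

variable {X : Type*} {L : Set (Set X)}

theorem eq_or_of_mem (hP : IsPartialLinear L) {x y z w : X} (hxy : x ≠ y)
    (hl : ({x, y, z} : Set X) ∈ L) (hl' : ({x, y, w} : Set X) ∈ L) : w = x ∨ w = y ∨ w = z := by
  have h := hP _ hl _ hl' x y hxy (Or.inl rfl) (Or.inr (Or.inl rfl)) (Or.inl rfl) (Or.inr (Or.inl rfl))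
  have hw : w ∈ ({x, y, z} : Set X) := by rw [h]; exact Or.inr (Or.inr rfl)
  exact hw

theorem lineMap_eq (hP : IsPartialLinear L) {x y z : X} (hxy : x ≠ y) (hzx : z ≠ x) (hzy : z ≠ y)
    (hl : ({x, y, z} : Set X) ∈ L) : lineMap L x y = z := by
  have h : ∃ z : X, z ≠ x ∧ z ≠ y ∧ x ≠ y ∧ ({x, y, z} : Set X) ∈ L := ⟨z, hzx, hzy, hxy, hl⟩
  rw [lineMap, dif_pos h]
  obtain ⟨h1, h2, -, h4⟩ := h.choose_spec
  exact ((eq_or_of_mem hP hxy hl h4).resolve_left h1).resolve_left h2

theorem lineMap_fix {x y : X}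
    (h : ∀ z, z ≠ x → z ≠ y → x ≠ y → ({x, y, z} : Set X) ∉ L) : lineMap L x y = y := by
  rw [lineMap, dif_neg]
  rintro ⟨z, h1, h2, h3, h4⟩
  exact h z h1 h2 h3 h4

theorem lineMap_self (x : X) : lineMap L x x = x := lineMap_fix fun _ _ _ h => absurd rfl h

theorem exists_third (h3 : ∀ l ∈ L, l.ncard = 3) {l : Set X} (hl : l ∈ L) {x y : X} (hx : x ∈ l)
    (hy : y ∈ l) (hxy : x ≠ y) : ∃ z, z ≠ x ∧ z ≠ y ∧ l = {x, y, z} := by
  obtain ⟨a, b, c, hab, hac, hbc, rfl⟩ := Set.ncard_eq_three.1 (h3 l hl)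
  rcases hx with rfl | rfl | rfl <;> rcases hy with rfl | rfl | rfl <;>
    first
    | exact absurd rfl hxy
    | exact ⟨c, hac.symm, hbc.symm, rfl⟩
    | exact ⟨b, hab.symm, hbc, by ext w; simp only [Set.mem_insert_iff, Set.mem_singleton_iff]; tauto⟩
    | exact ⟨a, hab, hac, by ext w; simp only [Set.mem_insert_iff, Set.mem_singleton_iff]; tauto⟩
    | exact ⟨c, hbc.symm, hac.symm, by ext w; simp only [Set.mem_insert_iff, Set.mem_singleton_iff]; tauto⟩
    | exact ⟨b, hbc, hab.symm, by ext w; simp only [Set.mem_insert_iff, Set.mem_singleton_iff]; tauto⟩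
    | exact ⟨a, hac, hab, by ext w; simp only [Set.mem_insert_iff, Set.mem_singleton_iff]; tauto⟩

theorem lineMap_collinear (hP : IsPartialLinear L) (h3 : ∀ l ∈ L, l.ncard = 3) {x y : X}
    (h : Collinear L x y) :
    ∃ l ∈ L, lineMap L x y ≠ x ∧ lineMap L x y ≠ y ∧ l = {x, y, lineMap L x y} := by
  obtain ⟨hxy, l, hl, hx, hy⟩ := h
  obtain ⟨z, hzx, hzy, rfl⟩ := exists_third h3 hl hx hy hxy
  rw [lineMap_eq hP hxy hzx hzy hl]
  exact ⟨_, hl, hzx, hzy, rfl⟩

theorem lineMap_not_collinear {x y : X} (h : ¬ Collinear L x y) : lineMap L x y = y :=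
  lineMap_fix fun _ _ _ hxy hl => h ⟨hxy, _, hl, Or.inl rfl, Or.inr (Or.inl rfl)⟩

theorem lineMap_involutive (hP : IsPartialLinear L) (h3 : ∀ l ∈ L, l.ncard = 3) (x : X) :
    Function.Involutive (lineMap L x) := by
  intro y
  by_cases h : Collinear L x y
  · obtain ⟨l, hl, hzx, hzy, rfl⟩ := lineMap_collinear hP h3 h
    refine lineMap_eq hP hzx.symm h.1.symm hzy.symm ?_
    rwa [show ({x, lineMap L x y, y} : Set X) = {x, y, lineMap L x y} by
      ext w; simp only [Set.mem_insert_iff, Set.mem_singleton_iff]; tauto]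
  · rw [lineMap_not_collinear h, lineMap_not_collinear h]

theorem lineMap_mem (hP : IsPartialLinear L) (h3 : ∀ l ∈ L, l.ncard = 3) {x y : X} {l : Set X}
    (hl : l ∈ L) (hx : x ∈ l) (hy : y ∈ l) : lineMap L x y ∈ l := by
  by_cases hxy : x = y
  · subst hxy; rwa [lineMap_self]
  obtain ⟨z, hzx, hzy, rfl⟩ := exists_third h3 hl hx hy hxy
  rw [lineMap_eq hP hxy hzx hzy hl]
  exact Or.inr (Or.inr rfl)

/-- The `t(p)` of the system map lines to lines. -/
def LinesPreserved (L : Set (Set X)) : Prop := ∀ p : X, ∀ l ∈ L, lineMap L p '' l ∈ L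

theorem linesPreserved_model {Y : Type*} [DecidableEq Y] (third : Y → Y → Y) (coll : Y → Y → Prop)
    [DecidableRel coll]
    (hA : ∀ a b, coll a b → a ≠ b ∧ third a b ≠ a ∧ third a b ≠ b)
    (hB : ∀ a b, coll a b → coll b a ∧ third b a = third a b ∧
      coll a (third a b) ∧ third a (third a b) = b)
    (hC : ∀ p a b, coll a b →
      coll (if coll p a then third p a else a) (if coll p b then third p b else b) ∧
      third (if coll p a then third p a else a) (if coll p b then third p b else b) =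
        (if coll p (third a b) then third p (third a b) else third a b)) :
    LinesPreserved (ModelLine third coll) := by
  have pair : ∀ a b, coll a b → ∀ p q, p ∈ ({a, b, third a b} : Set Y) →
      q ∈ ({a, b, third a b} : Set Y) → p ≠ q →
      coll p q ∧ ({p, q, third p q} : Set Y) = {a, b, third a b} := by
    intro a b hab
    obtain ⟨hba, eba, hac, eac⟩ := hB a b hab
    obtain ⟨hbc, ebc⟩ := (hB b a hba).2.2
    rw [eba] at hbc ebc
    obtain ⟨hca, eca, -, -⟩ := hB _ _ hac
    obtain ⟨hcb, ecb, -, -⟩ := hB _ _ hbc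
    intro p q hp hq hne
    have aux : ∀ w, coll p q → third p q = w →
        (∀ r, r ∈ ({p, q, w} : Set Y) ↔ r ∈ ({a, b, third a b} : Set Y)) →
        coll p q ∧ ({p, q, third p q} : Set Y) = {a, b, third a b} := fun w h1 h2 h3 =>
      ⟨h1, by rw [h2]; exact Set.ext h3⟩
    rcases hp with rfl | rfl | rfl <;> rcases hq with rfl | rfl | rfl
    · exact absurd rfl hne
    · exact aux _ hab rfl fun r => Iff.rfl
    · exact aux _ hac eac fun r => by simp only [Set.mem_insert_iff, Set.mem_singleton_iff]; tauto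
    · exact aux _ hba eba fun r => by simp only [Set.mem_insert_iff, Set.mem_singleton_iff]; tauto
    · exact absurd rfl hne
    · exact aux _ hbc ebc fun r => by simp only [Set.mem_insert_iff, Set.mem_singleton_iff]; tauto
    · exact aux _ hca (eca.trans eac) fun r => by simp only [Set.mem_insert_iff, Set.mem_singleton_iff]; tauto
    · exact aux _ hcb (ecb.trans ebc) fun r => by simp only [Set.mem_insert_iff, Set.mem_singleton_iff]; tauto
    · exact absurd rfl hne
  have hP : IsPartialLinear (ModelLine third coll) := by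
    rintro _ ⟨a, b, hab, rfl⟩ _ ⟨c, d, hcd, rfl⟩ p q hne hp hq hp' hq'
    exact (pair a b hab p q hp hq hne).2.symm.trans (pair c d hcd p q hp' hq' hne).2
  have hτ : ∀ p q, lineMap (ModelLine third coll) p q = if coll p q then third p q else q := by
    intro p q
    split_ifs with h
    · exact lineMap_eq hP (hA p q h).1 (hA p q h).2.1 (hA p q h).2.2 ⟨p, q, h, rfl⟩
    · refine lineMap_fix fun z _ _ hpq hl => h ?_
      obtain ⟨a, b, hab, he⟩ := hl
      exact (pair a b hab p q (he ▸ Or.inl rfl) (he ▸ Or.inr (Or.inl rfl)) hpq).1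
  rintro p l ⟨a, b, hab, rfl⟩
  obtain ⟨h1, h2⟩ := hC p a b hab
  refine ⟨_, _, h1, ?_⟩
  rw [Set.image_insert_eq, Set.image_insert_eq, Set.image_singleton, hτ, hτ, hτ, h2]

theorem linesPreserved_dual : LinesPreserved dualAffinePlaneTwo := by
  rw [← dualModel_eq]
  refine linesPreserved_model dualThird dualColl ?_ ?_ ?_ <;> decide +kernel

theorem linesPreserved_affine : LinesPreserved affinePlaneThree := by
  rw [← affineModel_eq]
  refine linesPreserved_model (fun p q : Fin 2 → ZMod 3 => -p - q) (fun p q => p ≠ q) ?_ ?_ ?_ <;>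
    decide +kernel

theorem span_subset (S : Set X) : S ⊆ span L S := Set.subset_sInter fun _ hT => hT.1

theorem span_isSubspace (S : Set X) : IsSubspace L (span L S) := by
  intro l hl x hx y hy hxy hxl hyl z hz
  rw [span, Set.mem_sInter] at hx hy ⊢
  intro T hT
  exact hT.2 l hl x (hx T hT) y (hy T hT) hxy hxl hyl hz

theorem linesPreserved_of_fischer (hL : IsFischerSpace L) : LinesPreserved L := by
  obtain ⟨hP, h3, hplane⟩ := hL
  intro x l hl
  have hinv := lineMap_involutive hP h3 x
  by_cases hx : x ∈ l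
  · convert hl using 1
    refine Set.Subset.antisymm (by rintro _ ⟨y, hy, rfl⟩; exact lineMap_mem hP h3 hl hx hy) ?_
    exact fun y hy => ⟨_, lineMap_mem hP h3 hl hx hy, hinv y⟩
  by_cases hcol : ∃ a ∈ l, Collinear L x a
  swap
  · push Not at hcol
    convert hl using 1
    rw [show lineMap L x '' l = id '' l from Set.image_congr fun y hy => lineMap_not_collinear (hcol y hy),
      Set.image_id]
  obtain ⟨a, hal, hxa, m, hm, hxm, ham⟩ := hcol
  have hlm : l ≠ m := fun h => hx (h ▸ hxm)
  set P := span L (l ∪ m) with hPdef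
  have hsub : IsSubspace L P := span_isSubspace _
  have hxP : x ∈ P := span_subset _ (Or.inr hxm)
  have hlP : l ⊆ P := fun y hy => span_subset _ (Or.inl hy)
  have main : ∀ {Y : Type} (M : Set (Set Y)), LinesPreserved M →
      ∀ e : P ≃ Y, IsIso (restrict L P) M e → lineMap L x '' l ∈ L := by
    intro Y M hM e he
    set lY : Set Y := e '' {z : P | (z : X) ∈ l} with hlY
    have hlY' : lY ∈ M := (he _).1 ⟨l, hl, hlP, rfl⟩
    obtain ⟨k, hk, hkP, hke⟩ := (he (e ⁻¹' (lineMap M (e ⟨x, hxP⟩) '' lY))).2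
      (by rw [Set.image_preimage_eq _ e.surjective]; exact hM _ _ hlY')
    have hMP : IsPartialLinear M := by
      intro u hu v hv p q hpq hp hq hp' hq'
      have pre : ∀ w ∈ M, ∃ w' ∈ L, w' ⊆ P ∧ e ⁻¹' w = {z : P | (z : X) ∈ w'} := fun w hw =>
        (he (e ⁻¹' w)).2 (by rw [Set.image_preimage_eq _ e.surjective]; exact hw)
      obtain ⟨u', hu', -, eu⟩ := pre u hu
      obtain ⟨v', hv', -, ev⟩ := pre v hv
      have hmem : ∀ {w : Set Y} {w' : Set X}, e ⁻¹' w = {z : P | (z : X) ∈ w'} → ∀ r ∈ w,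
          (e.symm r : X) ∈ w' := fun h r hr =>
        (Set.ext_iff.1 h (e.symm r)).1 (by simpa using hr)
      have huv := hP u' hu' v' hv' _ _
        (fun h => hpq (e.symm.injective (Subtype.ext h)))
        (hmem eu p hp) (hmem eu q hq) (hmem ev p hp') (hmem ev q hq')
      calc u = e '' (e ⁻¹' u) := (Set.image_preimage_eq u e.surjective).symm
        _ = e '' (e ⁻¹' v) := by rw [eu, ev, huv]
        _ = v := Set.image_preimage_eq v e.surjective
    have key : ∀ y, (hy : y ∈ P) → ∃ hy' : lineMap L x y ∈ P,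
        e ⟨lineMap L x y, hy'⟩ = lineMap M (e ⟨x, hxP⟩) (e ⟨y, hy⟩) := by
      intro y hy
      by_cases hxy : Collinear L x y
      · obtain ⟨w, hw, hzx, hzy, hwe⟩ := lineMap_collinear hP h3 hxy
        have hwP : w ⊆ P := hsub w hw x hxP y hy hxy.1 (hwe ▸ Or.inl rfl) (hwe ▸ Or.inr (Or.inl rfl))
        have hzP : lineMap L x y ∈ P := hwP (hwe ▸ Or.inr (Or.inr rfl))
        refine ⟨hzP, (lineMap_eq hMP (fun h => hxy.1 (congrArg Subtype.val (e.injective h)))
          (fun h => hzx (congrArg Subtype.val (e.injective h)))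
          (fun h => hzy (congrArg Subtype.val (e.injective h))) ?_).symm⟩
        have hr := (he _).1 ⟨w, hw, hwP, rfl⟩
        convert hr using 1
        rw [show {z : P | (z : X) ∈ w} = {⟨x, hxP⟩, ⟨y, hy⟩, ⟨lineMap L x y, hzP⟩} by
          ext z; rw [hwe]; simp [Subtype.ext_iff]]
        rw [Set.image_insert_eq, Set.image_insert_eq, Set.image_singleton]
      · have hz := lineMap_not_collinear hxy
        refine ⟨hz.symm ▸ hy, ?_⟩
        have hne : ∀ z, ({e ⟨x, hxP⟩, e ⟨y, hy⟩, z} : Set Y) ∈ M → x ≠ y → False := by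
          intro z hz' hne
          obtain ⟨w, hw, -, hwe⟩ := (he (e ⁻¹' {e ⟨x, hxP⟩, e ⟨y, hy⟩, z})).2
            (by rw [Set.image_preimage_eq _ e.surjective]; exact hz')
          exact hxy ⟨hne, w, hw, (Set.ext_iff.1 hwe ⟨x, hxP⟩).1 (Or.inl rfl),
            (Set.ext_iff.1 hwe ⟨y, hy⟩).1 (Or.inr (Or.inl rfl))⟩
        rw [lineMap_fix fun z _ _ hne' hz' => hne z hz' fun h => hne' (by subst h; rfl)]
        exact congrArg e (Subtype.ext hz)
    convert hk using 1
    ext z
    constructor
    · rintro ⟨y, hy, rfl⟩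
      obtain ⟨hy', he'⟩ := key y (hlP hy)
      have : (⟨lineMap L x y, hy'⟩ : P) ∈ e ⁻¹' (lineMap M (e ⟨x, hxP⟩) '' lY) :=
        ⟨e ⟨y, hlP hy⟩, ⟨_, hy, rfl⟩, he'.symm⟩
      rw [hke] at this
      exact this
    · intro hz
      have : (⟨z, hkP hz⟩ : P) ∈ e ⁻¹' (lineMap M (e ⟨x, hxP⟩) '' lY) := by rw [hke]; exact hz
      obtain ⟨_, ⟨⟨y, hyP⟩, hy, rfl⟩, hye⟩ := this
      obtain ⟨hy', he'⟩ := key y hyP
      exact ⟨y, hy, congrArg Subtype.val (e.injective (he'.trans hye))⟩
  rcases hplane l hl m hm hlm ⟨a, hal, ham⟩ with ⟨e, he⟩ | ⟨e, he⟩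
  · exact main _ linesPreserved_dual e he
  · exact main _ linesPreserved_affine e he

/-- The permutation `t(x)`. -/
noncomputable def linePerm (hL : IsFischerSpace L) (x : X) : Equiv.Perm X :=
  Function.Involutive.toPerm _ (lineMap_involutive hL.1 hL.2.1 x)

theorem linePerm_apply (hL : IsFischerSpace L) (x y : X) : linePerm hL x y = lineMap L x y := rfl

theorem linePerm_mul_self (hL : IsFischerSpace L) (x : X) : linePerm hL x * linePerm hL x = 1 :=
  Equiv.ext fun y => lineMap_involutive hL.1 hL.2.1 x y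

theorem linePerm_image (hL : IsFischerSpace L) (x : X) (l : Set X) :
    l ∈ L ↔ linePerm hL x '' l ∈ L := by
  have hinv := lineMap_involutive hL.1 hL.2.1 x
  refine ⟨linesPreserved_of_fischer hL x l, fun h => ?_⟩
  have h2 : lineMap L x '' (lineMap L x '' l) ∈ L := linesPreserved_of_fischer hL x _ h
  rwa [← Set.image_comp, hinv.comp_self, Set.image_id] at h2

theorem linePerm_conj (hL : IsFischerSpace L) (x y : X) :
    linePerm hL x * linePerm hL y * linePerm hL x = linePerm hL (linePerm hL x y) := by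
  apply Equiv.ext
  intro z
  obtain ⟨hP, h3, -⟩ := id hL
  set s := linePerm hL x with hs
  have hinv : Function.Involutive (lineMap L x) := lineMap_involutive hP h3 x
  have hco : ∀ p q, Collinear L p q → Collinear L (s p) (s q) := by
    rintro p q ⟨hne, l, hl, hp, hq⟩
    exact ⟨fun h => hne (s.injective h), _, (linePerm_image hL x l).1 hl, ⟨p, hp, rfl⟩, ⟨q, hq, rfl⟩⟩
  show lineMap L x (lineMap L y (lineMap L x z)) = lineMap L (lineMap L x y) z
  by_cases h : Collinear L y (lineMap L x z)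
  · obtain ⟨l, hl, h1, h2, hle⟩ := lineMap_collinear hP h3 h
    have hl' := (linePerm_image hL x l).1 hl
    rw [hle, Set.image_insert_eq, Set.image_insert_eq, Set.image_singleton] at hl'
    simp only [linePerm_apply, hinv z] at hl'
    refine (lineMap_eq hP ?_ ?_ ?_ hl').symm
    · intro he; exact h.1 (hinv.injective (he.trans (hinv z).symm))
    · intro he; exact h1 (hinv.injective he)
    · intro he; exact h2 (hinv.injective (he.trans (hinv z).symm))
  · rw [lineMap_not_collinear h, hinv z, lineMap_not_collinear]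
    intro h'
    have := hco _ _ h'
    rw [hs, linePerm_apply, linePerm_apply, hinv y] at this
    exact h this

theorem orderOf_linePerm (hL : IsFischerSpace L) (hnd : IsNondegenerate L) (x : X) :
    orderOf (linePerm hL x) = 2 := by
  refine orderOf_eq_prime (by rw [pow_two, linePerm_mul_self]) fun h => ?_
  obtain ⟨l, hl, hx⟩ := hnd x
  obtain ⟨y, hy, hyx⟩ := Set.exists_ne_of_one_lt_ncard (by rw [hL.2.1 l hl]; norm_num) x
  obtain ⟨_, -, -, h2, -⟩ := lineMap_collinear hL.1 hL.2.1 ⟨hyx.symm, l, hl, hx, hy⟩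
  exact h2 (Equiv.ext_iff.1 h y)

theorem linePerm_sq_or_cube (hL : IsFischerSpace L) (x y : X) :
    (linePerm hL x * linePerm hL y) ^ 2 = 1 ∨ (linePerm hL x * linePerm hL y) ^ 3 = 1 := by
  obtain ⟨hP, h3, -⟩ := id hL
  set s := linePerm hL x with hs
  set t := linePerm hL y with ht
  have hs2 : s * s = 1 := linePerm_mul_self hL x
  have ht2 : t * t = 1 := linePerm_mul_self hL y
  by_cases h : Collinear L x y
  · refine Or.inr ?_
    have e : linePerm hL x y = linePerm hL y x := by
      obtain ⟨l, hl, h1, h2, hle⟩ := lineMap_collinear hP h3 h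
      show lineMap L x y = lineMap L y x
      refine (lineMap_eq hP h.1.symm h2 h1 ?_).symm
      rw [show ({y, x, lineMap L x y} : Set X) = {x, y, lineMap L x y} by
        ext w; simp only [Set.mem_insert_iff, Set.mem_singleton_iff]; tauto, ← hle]
      exact hl
    have hb : s * t * s = t * s * t := by
      rw [hs, ht, linePerm_conj, linePerm_conj, e]
    calc (s * t) ^ 3 = (s * t * s) * (t * s * t) := by rw [pow_succ, pow_two]; simp only [mul_assoc]
      _ = 1 := by
        rw [← hb, show s * t * s * (s * t * s) = s * t * (s * s) * t * s by simp only [mul_assoc],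
          hs2, mul_one, mul_assoc s t t, ht2, mul_one, hs2]
  · refine Or.inl ?_
    have hb : s * t * s = t := by
      rw [hs, ht, linePerm_conj]
      show linePerm hL (lineMap L x y) = _
      rw [lineMap_not_collinear h]
    rw [pow_two, ← mul_assoc, hb, ht2]

end Cfsg.Agent.Lib.ThreeTranspositions
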