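import Cfsg.Agent.Lib.ThreeTranspositions.Plane

/-!
The lines of a set of 3-transpositions and the two kinds of planes.
-/
set_option autoImplicit false

open Cfsg

namespace Cfsg.Agent.Lib.ThreeTranspositions

variable {G : Type*} [Group G] {D : Set G}

/-- The line through two non-commuting members. -/
def lineThrough (x y : D) : Set D :=
  {z : D | (z : G) = x ∨ (z : G) = y ∨ (z : G) = (y : G) * (x : G) * (y : G)⁻¹}

theorem mem_lines_iff {l : Set D} :
    l ∈ threeTranspositionLines D ↔ ∃ x y : D, ¬ Commute (x : G) (y : G) ∧ l = lineThrough x y :=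
  Iff.rfl

theorem line_eq (hD : IsClosedSet D) {x y p q : D} (hxy : ¬ Commute (x : G) (y : G))
    (hp : p ∈ lineThrough x y) (hq : q ∈ lineThrough x y) (hne : p ≠ q) :
    ¬ Commute (p : G) (q : G) ∧ lineThrough x y = lineThrough p q := by
  have hS := hD.1
  set z : G := (y : G) * x * (y : G)⁻¹ with hz
  have hz' : z = (y : G) * x * y := by rw [hz, inv_eq hS y.2]
  have hb : (x : G) * y * x = y * x * y := braid hS x.2 y.2 hxy
  have hxz : ¬ Commute (x : G) z := by
    rw [hz', ← hb]; exact third_not_commute_left hD x.2 y.2 hxy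
  have hyz : ¬ Commute (y : G) z := by
    rw [hz']; exact third_not_commute_left hD y.2 x.2 (not_commute_symm hxy)
  have cx : ∀ a : G, (x : G) * (x * a) = a := mul_self_assoc hS x.2
  have cy : ∀ a : G, (y : G) * (y * a) = a := mul_self_assoc hS y.2
  have xx : (x : G) * x = 1 := mul_self hS x.2
  have yy : (y : G) * y = 1 := mul_self hS y.2
  have e_yx : (x : G) * y * (x : G)⁻¹ = z := by rw [inv_eq hS x.2, hb, hz']
  have e_xz : z * (x : G) * z⁻¹ = y := by
    rw [hz', ← hb, mul_inv_rev, mul_inv_rev, inv_eq hS x.2, inv_eq hS y.2]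
    calc (x : G) * y * x * x * (x * (y * x)) = (x : G) * y * ((x * x) * x) * y * x := by
          simp only [mul_assoc]
      _ = (x : G) * (y * x * y) * x := by rw [xx, one_mul]; simp only [mul_assoc]
      _ = y := by rw [← hb]; simp only [mul_assoc, cx, xx, mul_one]
  have e_zx : (x : G) * z * (x : G)⁻¹ = y := by
    rw [inv_eq hS x.2, hz', ← hb]
    simp only [mul_assoc, cx, xx, mul_one]
  have e_yz : z * (y : G) * z⁻¹ = x := by
    rw [hz', mul_inv_rev, mul_inv_rev, inv_eq hS x.2, inv_eq hS y.2]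
    calc (y : G) * x * y * y * (y * (x * y)) = (y : G) * x * ((y * y) * y) * x * y := by
          simp only [mul_assoc]
      _ = (y : G) * (x * y * x) * y := by rw [yy, one_mul]; simp only [mul_assoc]
      _ = x := by rw [hb]; simp only [mul_assoc, cy, yy, mul_one]
  have e_zy : (y : G) * z * (y : G)⁻¹ = x := by
    rw [inv_eq hS y.2, hz']
    simp only [mul_assoc, cy, yy, mul_one]
  have hne' : (p : G) ≠ q := fun h => hne (Subtype.ext h)
  rcases hp with hp | hp | hp <;> rcases hq with hq | hq | hq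
  · exact absurd (hp.trans hq.symm) hne'
  · exact ⟨by rw [hp, hq]; exact hxy, by simp only [lineThrough, hp, hq]⟩
  · refine ⟨by rw [hp, hq]; exact hxz, ?_⟩
    ext w; simp only [lineThrough, Set.mem_setOf_eq, hp, hq, ← hz, e_xz]; tauto
  · refine ⟨by rw [hp, hq]; exact not_commute_symm hxy, ?_⟩
    ext w; simp only [lineThrough, Set.mem_setOf_eq, hp, hq, ← hz, e_yx]; tauto
  · exact absurd (hp.trans hq.symm) hne'
  · refine ⟨by rw [hp, hq]; exact hyz, ?_⟩
    ext w; simp only [lineThrough, Set.mem_setOf_eq, hp, hq, ← hz, e_yz]; tauto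
  · refine ⟨by rw [hp, hq]; exact not_commute_symm hxz, ?_⟩
    ext w; simp only [lineThrough, Set.mem_setOf_eq, hp, hq, ← hz, e_zx]; tauto
  · refine ⟨by rw [hp, hq]; exact not_commute_symm hyz, ?_⟩
    ext w; simp only [lineThrough, Set.mem_setOf_eq, hp, hq, ← hz, e_zy]; tauto
  · exact absurd (hp.trans hq.symm) hne'

theorem lines_partialLinear (hD : IsClosedSet D) :
    LineSystem.IsPartialLinear (threeTranspositionLines D) := by
  rintro l ⟨x, y, hxy, rfl⟩ m ⟨u, v, huv, rfl⟩ p q hne hpl hql hpm hqm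
  exact (line_eq hD hxy hpl hql hne).2.trans (line_eq hD huv hpm hqm hne).2.symm

theorem lineThrough_ncard (hD : IsClosedSet D) {x y : D} (hxy : ¬ Commute (x : G) (y : G)) :
    (lineThrough x y).ncard = 3 := by
  have h1 : (y : G) * x * (y : G)⁻¹ ≠ y := by
    rw [inv_eq hD.1 y.2]
    exact third_ne_left hD y.2 x.2 (not_commute_symm hxy)
  have h2 : (y : G) * x * (y : G)⁻¹ ≠ x := by
    rw [inv_eq hD.1 y.2]
    exact third_ne_right hD y.2 x.2 (not_commute_symm hxy)
  have he : lineThrough x y = {x, y, ⟨_, hD.2 (y : G) x x.2⟩} := by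
    ext w
    simp only [lineThrough, Set.mem_setOf_eq, Set.mem_insert_iff, Set.mem_singleton_iff,
      Subtype.ext_iff]
  rw [he, Set.ncard_eq_three]
  refine ⟨_, _, _, fun h => ne_of_not_commute hxy (congrArg Subtype.val h),
    fun h => h2 (congrArg Subtype.val h).symm, fun h => h1 (congrArg Subtype.val h).symm, rfl⟩

/-- Lines of a model plane as triples. -/
def ModelLine {Y : Type*} (third : Y → Y → Y) (coll : Y → Y → Prop) : Set (Set Y) :=
  {l | ∃ p q : Y, coll p q ∧ l = {p, q, third p q}}

/-- A bijection onto a set of members that matches the line structure of a model gives the induced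
line system on the subspace it spans. -/
theorem plane_iso (hD : IsClosedSet D) {Y : Type*} (third : Y → Y → Y) (coll : Y → Y → Prop)
    (f : Y → D) (hf : Function.Injective f)
    (hcoll : ∀ p q, p ≠ q → (coll p q ↔ ¬ Commute (f p : G) (f q : G)))
    (hne : ∀ p q, coll p q → p ≠ q)
    (hthird : ∀ p q, coll p q → (f (third p q) : G) = (f q : G) * (f p : G) * (f q : G)⁻¹)
    {S₀ : Set D} (hsub : S₀ ⊆ Set.range f)
    (hgen : ∀ T, S₀ ⊆ T → LineSystem.IsSubspace (threeTranspositionLines D) T → Set.range f ⊆ T) :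
    LineSystem.Isomorphic
      (LineSystem.restrict (threeTranspositionLines D) (LineSystem.span (threeTranspositionLines D) S₀))
      (ModelLine third coll) := by
  have hline : ∀ p q, coll p q → lineThrough (f p) (f q) = f '' {p, q, third p q} := by
    intro p q h
    rw [Set.image_insert_eq, Set.image_insert_eq, Set.image_singleton]
    ext w
    simp only [lineThrough, Set.mem_setOf_eq, Set.mem_insert_iff, Set.mem_singleton_iff,
      Subtype.ext_iff, hthird p q h]
  have hsp : LineSystem.IsSubspace (threeTranspositionLines D) (Set.range f) := by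
    rintro l ⟨x, y, hxy, rfl⟩ u ⟨p, rfl⟩ v ⟨q, rfl⟩ huv hu hv
    obtain ⟨hc, he⟩ := line_eq hD hxy hu hv huv
    show lineThrough x y ⊆ _
    rw [he, hline p q ((hcoll p q fun h => huv (by rw [h])).2 hc)]
    exact Set.image_subset_range _ _
  have hspan : LineSystem.span (threeTranspositionLines D) S₀ = Set.range f := by
    apply subset_antisymm
    · exact Set.sInter_subset_of_mem ⟨hsub, hsp⟩
    · exact Set.subset_sInter fun T hT => hgen T hT.1 hT.2
  rw [hspan]
  refine ⟨(Equiv.ofInjective f hf).symm, fun m => ?_⟩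
  constructor
  · rintro ⟨l, ⟨x, y, hxy, rfl⟩, hlS, rfl⟩
    have hx : x ∈ lineThrough x y := Or.inl rfl
    have hy : y ∈ lineThrough x y := Or.inr (Or.inl rfl)
    obtain ⟨p, hp⟩ := hlS hx
    obtain ⟨q, hq⟩ := hlS hy
    subst hp hq
    have hpq : p ≠ q := fun h => ne_of_not_commute hxy (by rw [h])
    have hc := (hcoll p q hpq).2 hxy
    refine ⟨p, q, hc, ?_⟩
    ext r
    rw [Set.mem_image]
    constructor
    · rintro ⟨⟨_, w, rfl⟩, hw, rfl⟩
      rw [Equiv.ofInjective_symm_apply]
      change f w ∈ lineThrough (f p) (f q) at hw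
      rw [hline p q hc] at hw
      obtain ⟨r, hr, he⟩ := hw
      rwa [← hf he]
    · intro hr
      exact ⟨⟨f r, r, rfl⟩, by show f r ∈ lineThrough _ _; rw [hline p q hc]; exact ⟨r, hr, rfl⟩,
        Equiv.ofInjective_symm_apply hf r⟩
  · rintro ⟨p, q, hc, hm⟩
    refine ⟨lineThrough (f p) (f q), ⟨f p, f q, (hcoll p q (hne p q hc)).1 hc, rfl⟩, ?_, ?_⟩
    · rw [hline p q hc]; exact Set.image_subset_range _ _
    · ext ⟨_, r, rfl⟩
      show _ ↔ f r ∈ lineThrough _ _
      rw [hline p q hc, hf.mem_set_image, ← hm,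
        (Equiv.ofInjective f hf).symm.injective.mem_set_image.symm, Equiv.ofInjective_symm_apply]

end Cfsg.Agent.Lib.ThreeTranspositions
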