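import Cfsg.Agent.Lib.ThreeTranspositions.LocalSThree

/-!
The Petersen component of 3-transpositions with neighbourhoods generating `S₃`.
-/
set_option autoImplicit false

open Cfsg

namespace Cfsg.Agent.Lib.ThreeTranspositions.LocalSThree

variable {G : Type*} [Group G] {D : Set G}

theorem swap_isConj_zero_one : ∀ i j : Fin 5, i ≠ j → ∃ π : Equiv.Perm (Fin 5),
    π * Equiv.swap 0 1 * π⁻¹ = Equiv.swap i j := by
  decide +kernel

theorem three_disjoint_swaps : ∀ i j : Fin 5, i ≠ j → ∃ k l m : Fin 5,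
    (k ≠ i ∧ k ≠ j ∧ l ≠ i ∧ l ≠ j ∧ m ≠ i ∧ m ≠ j) ∧ (k ≠ l ∧ k ≠ m ∧ l ≠ m) := by
  decide +kernel

theorem swaps_facts : ∀ i j k l m : Fin 5,
    ¬ (((k ≠ i ∧ k ≠ j) ∧ (l ≠ i ∧ l ≠ j) ∧ (m ≠ i ∧ m ≠ j)) ∧ (i ≠ j ∧ k ≠ l ∧ k ≠ m ∧ l ≠ m) ∧
      ¬ ((Equiv.swap i j * Equiv.swap k l = Equiv.swap k l * Equiv.swap i j ∧
          Equiv.swap i j * Equiv.swap k m = Equiv.swap k m * Equiv.swap i j) ∧
        (Equiv.swap k l ≠ Equiv.swap i j ∧ Equiv.swap k m ≠ Equiv.swap i j ∧
          Equiv.swap k l ≠ Equiv.swap k m) ∧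
        Equiv.swap k l * Equiv.swap k m * Equiv.swap k l = Equiv.swap l m)) := by
  decide +kernel

variable (hL : LocThree D)
include hL

/-- An element outside a Petersen component would give a quadrilateral. -/
theorem no_outside {e d x : G} (he : e ∈ D) (hd : d ∈ D) (hx : x ∈ nbr D d)
    (hB : ∀ a ∈ nbr D e, ¬ TypeA D a) (hed : ¬ Commute e d) (hex : ¬ Commute e x)
    (hout : ∀ a ∈ nbr D e, ¬ Commute a d ∧ ¬ Commute a x) : False := by
  have hS := hL.1.1
  set g := x * d with hg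
  have hdd := mul_self hS hd
  have hxx := mul_self hS hx.1
  have hee := mul_self hS he
  have hginv : g⁻¹ = g := by
    rw [hg, mul_inv_rev, inv_eq hS hd, inv_eq hS hx.1, hx.2.2.eq]
  have gg : g * g = 1 := by
    rw [← inv_mul_cancel g, hginv]
  have aux : ∀ w : G, x * (x * w * x) * x = w := fun w => by
    rw [show x * (x * w * x) * x = x * x * w * (x * x) by simp only [mul_assoc], hxx, one_mul,
      mul_one]
  have e2 : ∀ u : G, g * u * g⁻¹ = x * (d * u * d) * x := fun u => by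
    rw [hg, mul_inv_rev, inv_eq hS hd, inv_eq hS hx.1]
    simp only [mul_assoc]
  have base : ∀ u ∈ D, ¬ Commute u d → ¬ Commute u x → g * u * g⁻¹ ∈ nbr D u := by
    intro u hu hud hux
    have huu := mul_self hS hu
    refine ⟨hL.1.2 g u hu, ?_, ?_⟩
    · intro h
      have h1 : x * (d * u * d) * x = u := by rw [← e2, h]
      have h2 : d * u * d = x * u * x := by rw [← aux (d * u * d), h1]
      rw [braid hS hd hu (not_commute_symm hud), braid hS hx.1 hu (not_commute_symm hux)] at h2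
      exact hx.2.1 (mul_left_cancel (mul_right_cancel h2)).symm
    · have hb1 : u * d * u = d * u * d := braid hS hu hd hud
      have hb2 : u * x * u = x * u * x := braid hS hu hx.1 hux
      have hc : Commute (d * u * d) (x * u * x) := by
        rw [← hb1, ← hb2]
        have := (Commute.conj_iff u).2 hx.2.2
        rwa [inv_eq hS hu] at this
      have h3 := (Commute.conj_iff x).2 hc
      rw [inv_eq hS hx.1] at h3
      rw [aux, ← e2] at h3
      exact h3.symm
  have conj2 : ∀ u : G, g * (g * u * g⁻¹) * g⁻¹ = u := fun u => by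
    rw [show g * (g * u * g⁻¹) * g⁻¹ = g * g * u * (g * g)⁻¹ by group, gg, inv_one, one_mul, mul_one]
  set se := g * e * g⁻¹ with hse
  have hsn : se ∈ nbr D e := base e he hed hex
  obtain ⟨a, ha, hane⟩ : ∃ a ∈ nbr D e, a ≠ se := by
    obtain ⟨u, hu, v, hv, huv⟩ := exists_two hL he
    by_cases h : u = se
    · exact ⟨v, hv, fun h' => huv (h.trans h'.symm)⟩
    · exact ⟨u, hu, h⟩
  set sa := g * a * g⁻¹ with hsa
  have hsan : sa ∈ nbr D a := base a ha.1 (hout a ha).1 (hout a ha).2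
  have hsa_se : sa ∈ nbr D se := conj_nbr hL.1 g ha
  have hne : e ≠ sa := fun h => hane (by rw [hse, h, hsa, conj2])
  have h1 : nbr D e = nbr D sa :=
    nbr_eq_of_two hL he hsan.1 ha hsn (nbr_symm ha.1 hsan) (nbr_symm hsn.1 hsa_se) (Ne.symm hane).symm
  exact hB a ha (typeA_of_eq hL ha.1 (nbr_symm he ha) hsan hne h1)

/-- A Petersen component is everything. -/
theorem petersen {d : G} (hd : d ∈ D) (hB : ¬ TypeA D d) :
    Nonempty (↥(Subgroup.closure D) ≃* Equiv.Perm (Fin 5)) := by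
  have hS := hL.1.1
  obtain ⟨a, ha, b, hb, hab⟩ := exists_two hL hd
  have hda : d ∈ nbr D a := nbr_symm hd ha
  obtain ⟨d', hd', hd'd⟩ : ∃ d' ∈ nbr D a, d' ≠ d := by
    obtain ⟨u, hu, v, hv, huv⟩ := exists_two hL ha.1
    by_cases h : u = d
    · exact ⟨v, hv, fun h' => huv (h.trans h'.symm)⟩
    · exact ⟨u, hu, h⟩
  have n01 : ¬ Commute d d' := fun h => hd'd (nbr_tri hL ha.1 hda hd' h).symm
  have n12 : ¬ Commute d' b := by
    intro h
    by_cases he : d' = b
    · exact hab (nbr_tri hL hd ha hb (he ▸ hd'.2.2))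
    · have : d' ∈ nbr D b := ⟨hd'.1, he, h.symm⟩
      exact hB (typeA_of_eq hL hd ha hb hab
        (nbr_eq_of_two hL ha.1 hb.1 hda hd' (nbr_symm hd hb) this hd'd.symm))
  have n23 : ¬ Commute b a := fun h => hab (nbr_tri hL hd ha hb h.symm)
  let s : ℕ → G := fun i => if i = 0 then d else if i = 1 then d' else if i = 2 then b else a
  have hrel : Spectrum.CoxeterSym.SymRel 4 s := by
    refine ⟨fun i hi => ?_, fun i hi => ?_, fun i j hij hj => ?_⟩
    · interval_cases i <;> simp [s, mul_self hS hd, mul_self hS hd'.1, mul_self hS hb.1, mul_self hS ha.1]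
    · have : i < 3 := by omega
      interval_cases i <;>
        simp [s, braid hS hd hd'.1 n01, braid hS hd'.1 hb.1 n12, braid hS hb.1 ha.1 n23]
    · have : i < 2 := by omega
      interval_cases j <;> interval_cases i <;>
        first | omega | simp [s, hb.2.2.eq, ha.2.2.eq, hd'.2.2.eq]
  obtain ⟨φ, hφ, -⟩ := Spectrum.CoxeterSym.exists_lift hrel
  have h0 : φ (Equiv.swap 0 1) = d := hφ 0
  have h1 : φ (Equiv.swap 1 2) = d' := hφ 1
  have hinj : Function.Injective φ := injective_of_swap (by rw [h0, h1]; exact hd'd.symm)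
  have hmem : ∀ i j : Fin 5, i ≠ j → φ (Equiv.swap i j) ∈ D := by
    intro i j hij
    obtain ⟨π, hπ⟩ := swap_isConj_zero_one i j hij
    rw [← hπ, map_mul, map_mul, map_inv, h0]
    exact hL.1.2 _ d hd
  have hBall : ∀ i j : Fin 5, i ≠ j → ¬ TypeA D (φ (Equiv.swap i j)) := by
    intro i j hij hA
    obtain ⟨π, hπ⟩ := swap_isConj_zero_one i j hij
    rw [← hπ, map_mul, map_mul, map_inv, h0] at hA
    apply hB
    have := typeA_conj hL.1 hA (φ π)⁻¹
    rwa [show (φ π)⁻¹ * (φ π * d * (φ π)⁻¹) * (φ π)⁻¹⁻¹ = d by group] at this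
  set C : Set G := {y | ∃ i j : Fin 5, i ≠ j ∧ φ (Equiv.swap i j) = y} with hC
  have closed : ∀ y ∈ C, ∀ z ∈ nbr D y, z ∈ C := by
    rintro _ ⟨i, j, hij, rfl⟩ z hz
    obtain ⟨k, l, m, hk, hk'⟩ := three_disjoint_swaps i j hij
    have f := not_not.1 fun h => swaps_facts i j k l m
      ⟨⟨⟨hk.1, hk.2.1⟩, ⟨hk.2.2.1, hk.2.2.2.1⟩, ⟨hk.2.2.2.2.1, hk.2.2.2.2.2⟩⟩,
        ⟨hij, hk'.1, hk'.2.1, hk'.2.2⟩, h⟩
    obtain ⟨⟨hc1, hc2⟩, ⟨hne1, hne2, hne3⟩, h3⟩ := f
    have hkl : φ (Equiv.swap k l) ∈ nbr D (φ (Equiv.swap i j)) :=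
      ⟨hmem _ _ hk'.1, fun h => hne1 (hinj h), (show Commute _ _ from hc1).map φ⟩
    have hkm : φ (Equiv.swap k m) ∈ nbr D (φ (Equiv.swap i j)) :=
      ⟨hmem _ _ hk'.2.1, fun h => hne2 (hinj h), (show Commute _ _ from hc2).map φ⟩
    rcases nbr_third hL (hmem _ _ hij) hkl hkm (fun h => hne3 (hinj h)) hz with h | h | h
    · exact ⟨k, l, hk'.1, h.symm⟩
    · exact ⟨k, m, hk'.2.1, h.symm⟩
    · refine ⟨l, m, hk'.2.2, ?_⟩
      rw [h, ← map_mul, ← map_mul, h3]
  have hDC : D = C := by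
    refine Set.Subset.antisymm ?_ ?_
    · intro e he
      by_contra hec
      have hdC : d ∈ C := ⟨0, 1, by decide, h0⟩
      have haC : a ∈ C := closed d hdC a ha
      have out : ∀ u ∈ D, u ∉ C → ∀ y ∈ C, y ∈ D → ¬ Commute u y := by
        intro u hu huC y hy hyD h
        exact huC (closed y hy u ⟨hu, fun h' => huC (h' ▸ hy), h.symm⟩)
      have hed := out e he hec d hdC hd
      have hea := out e he hec a haC ha.1
      refine no_outside hL he hd ha ?_ hed hea ?_
      · intro u hu hA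
        have huC : u ∉ C := fun h => hec (closed u h e (nbr_symm he hu))
        have hud := out u hu.1 huC d hdC hd
        apply hB
        have := typeA_conj hL.1 hA (u * d)
        rwa [conj_of_not_commute hS hu.1 hd hud] at this
      · intro u hu
        have huC : u ∉ C := fun h => hec (closed u h e (nbr_symm he hu))
        exact ⟨out u hu.1 huC d hdC hd, out u hu.1 huC a haC ha.1⟩
    · rintro _ ⟨i, j, hij, rfl⟩
      exact hmem i j hij
  have hr : φ.range = Subgroup.closure D := by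
    rw [MonoidHom.range_eq_map, ← Equiv.Perm.closure_isSwap, MonoidHom.map_closure]
    congr 1
    ext y
    constructor
    · rintro ⟨σ, ⟨i, j, hij, rfl⟩, rfl⟩
      exact hmem i j hij
    · intro hy
      rw [hDC] at hy
      obtain ⟨i, j, hij, rfl⟩ := hy
      exact ⟨_, ⟨i, j, hij, rfl⟩, rfl⟩
  exact ⟨(MulEquiv.subgroupCongr hr.symm).trans (MonoidHom.ofInjective hinj).symm⟩

end Cfsg.Agent.Lib.ThreeTranspositions.LocalSThree
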