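import Mathlib
import Cfsg.Prelude.Def_Classical

/-!
Crossed homomorphisms of `Ω(Q)` on the natural module over `ZMod 2`.

A crossed homomorphism is determined by its values on products of two non-orthogonal
reflections; these values define a function on non-singular vectors which is additive on
non-orthogonal pairs, hence is linear as soon as a basis reaches all non-singular vectors.
-/
set_option autoImplicit false

open Cfsg
open scoped Matrix commutatorElement

namespace Cfsg.Agent.Lib.ThreeTranspositions.OrthCocycle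

variable {ι : Type} [Fintype ι] [DecidableEq ι]

abbrev V (ι : Type) : Type := ι → ZMod 2

def B (f : V ι → ZMod 2) (x y : V ι) : ZMod 2 := f (x + y) + f x + f y

def BAdd (f : V ι → ZMod 2) : Prop := ∀ x y z, B f (x + y) z = B f x z + B f y z

variable {f : V ι → ZMod 2}

theorem zz (a : ZMod 2) : a + a = 0 := by revert a; decide
theorem vv (x : V ι) : x + x = 0 := funext fun i => zz (x i)

theorem B_comm (x y : V ι) : B f x y = B f y x := by
  unfold B; rw [add_comm y x]; ring

section
variable (hB : BAdd f)
include hB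

theorem B_add (x y z : V ι) : B f x (y + z) = B f x y + B f x z := by
  rw [B_comm x, hB y z x, B_comm y, B_comm z]

theorem B_zero (x : V ι) : B f 0 x = 0 := by
  have := hB 0 0 x
  rw [add_zero] at this
  revert this
  generalize B f 0 x = a
  revert a
  decide

theorem f_zero : f 0 = 0 := by
  have := B_zero hB (0 : V ι)
  unfold B at this
  rw [add_zero] at this
  revert this
  generalize f 0 = a
  revert a
  decide

theorem B_self (x : V ι) : B f x x = 0 := by
  unfold B
  rw [vv, f_zero hB, zero_add, zz]

theorem B_smul (c : ZMod 2) (x y : V ι) : B f (c • x) y = c * B f x y := by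
  rcases (show c = 0 ∨ c = 1 by revert c; decide) with rfl | rfl
  · rw [zero_smul, B_zero hB, zero_mul]
  · rw [one_smul, one_mul]

theorem f_add (x y : V ι) : f (x + y) = f x + f y + B f x y := by
  unfold B
  linear_combination -(zz (f x + f y))

theorem f_smul (c : ZMod 2) (x : V ι) : f (c • x) = c * f x := by
  rcases (show c = 0 ∨ c = 1 by revert c; decide) with rfl | rfl
  · rw [zero_smul, f_zero hB, zero_mul]
  · rw [one_smul, one_mul]

end

abbrev act (g : ↥(isometryGroup (ZMod 2) f)) (x : V ι) : V ι :=
  ((g : GL ι (ZMod 2)) : Matrix ι ι (ZMod 2)) *ᵥ x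

theorem act_mul (g h : ↥(isometryGroup (ZMod 2) f)) (x : V ι) :
    act (g * h) x = act g (act h x) := by
  simp [act, Matrix.mulVec_mulVec]

theorem act_one (x : V ι) : act (1 : ↥(isometryGroup (ZMod 2) f)) x = x := by simp [act]

theorem act_add (g : ↥(isometryGroup (ZMod 2) f)) (x y : V ι) :
    act g (x + y) = act g x + act g y := Matrix.mulVec_add _ _ _

theorem act_smul (g : ↥(isometryGroup (ZMod 2) f)) (c : ZMod 2) (x : V ι) :
    act g (c • x) = c • act g x := Matrix.mulVec_smul _ _ _

theorem act_ext {g h : ↥(isometryGroup (ZMod 2) f)} (H : ∀ x, act g x = act h x) : g = h :=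
  Subtype.ext (Units.ext (Matrix.ext_of_mulVec_single fun i => H _))

theorem f_act (g : ↥(isometryGroup (ZMod 2) f)) (x : V ι) : f (act g x) = f x := g.2 x x

theorem B_act (g : ↥(isometryGroup (ZMod 2) f)) (x y : V ι) :
    B f (act g x) (act g y) = B f x y := by
  unfold B
  rw [← act_add, f_act g (x + y), f_act g x, f_act g y]

theorem act_inv (g : ↥(isometryGroup (ZMod 2) f)) (x : V ι) : act g (act g⁻¹ x) = x := by
  rw [← act_mul, mul_inv_cancel, act_one]

variable (hB : BAdd f)

/-- `x ↦ x + B(x,u) u`, as a linear map. -/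
def rmap (u : V ι) : V ι →ₗ[ZMod 2] V ι where
  toFun x := x + B f x u • u
  map_add' x y := by rw [hB, add_smul]; abel
  map_smul' c x := by rw [B_smul hB, RingHom.id_apply, smul_add, smul_smul]

theorem rmap_rmap {u : V ι} (hu : f u = 1) (x : V ι) : rmap hB u (rmap hB u x) = x := by
  show x + B f x u • u + B f (x + B f x u • u) u • u = x
  rw [hB, B_smul hB, B_self hB, mul_zero, add_zero, add_assoc, vv, add_zero]

theorem f_rmap {u : V ι} (hu : f u = 1) (x : V ι) : f (rmap hB u x) = f x := by
  show f (x + B f x u • u) = f x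
  rw [f_add hB, f_smul hB, hu, B_comm x (_ • u), B_smul hB, B_comm u x]
  generalize B f x u = a
  generalize f x = b
  revert a b
  decide

/-- The reflection in a non-singular vector. -/
noncomputable def refl (u : V ι) (hu : f u = 1) : ↥(isometryGroup (ZMod 2) f) :=
  ⟨⟨LinearMap.toMatrix' (rmap hB u), LinearMap.toMatrix' (rmap hB u),
      by rw [← LinearMap.toMatrix'_comp, show (rmap hB u).comp (rmap hB u) = LinearMap.id from
        LinearMap.ext (rmap_rmap hB hu), LinearMap.toMatrix'_id],
      by rw [← LinearMap.toMatrix'_comp, show (rmap hB u).comp (rmap hB u) = LinearMap.id from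
        LinearMap.ext (rmap_rmap hB hu), LinearMap.toMatrix'_id]⟩,
    fun x _ => by
      show f (LinearMap.toMatrix' (rmap hB u) *ᵥ x) = f x
      rw [LinearMap.toMatrix'_mulVec]
      exact f_rmap hB hu x⟩

include hB

theorem act_refl {u : V ι} (hu : f u = 1) (x : V ι) :
    act (refl hB u hu) x = x + B f x u • u :=
  LinearMap.toMatrix'_mulVec (rmap hB u) x

theorem refl_mul_self {u : V ι} (hu : f u = 1) : refl hB u hu * refl hB u hu = 1 := by
  refine act_ext fun x => ?_
  rw [act_mul, act_one, act_refl, act_refl]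
  exact rmap_rmap hB hu x

theorem refl_inv {u : V ι} (hu : f u = 1) : (refl hB u hu)⁻¹ = refl hB u hu :=
  inv_eq_of_mul_eq_one_left (refl_mul_self hB hu)

theorem refl_congr {u v : V ι} (h : u = v) (hu : f u = 1) (hv : f v = 1) :
    refl hB u hu = refl hB v hv := by subst h; rfl

theorem refl_conj (g : ↥(isometryGroup (ZMod 2) f)) {u : V ι} (hu : f u = 1) :
    g * refl hB u hu * g⁻¹ = refl hB (act g u) ((f_act g u).trans hu) := by
  refine act_ext fun x => ?_
  rw [act_mul, act_mul, act_refl, act_refl, act_add, act_smul, act_inv]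
  congr 2
  rw [← B_act g (act g⁻¹ x) u, act_inv]

/-- Non-orthogonal non-singular vectors. -/
structure Adj (f : V ι → ZMod 2) (u v : V ι) : Prop where
  left : f u = 1
  right : f v = 1
  adj : B f u v = 1

omit hB in
theorem Adj.symm {u v : V ι} (h : Adj f u v) : Adj f v u :=
  ⟨h.right, h.left, by rw [B_comm]; exact h.adj⟩

theorem Adj.add {u v : V ι} (h : Adj f u v) : f (u + v) = 1 := by
  rw [f_add hB, h.left, h.right, h.adj]; decide

theorem Adj.add_right {u v : V ι} (h : Adj f u v) : Adj f v (u + v) :=
  ⟨h.right, h.add hB, by rw [B_add hB, B_self hB, add_zero, B_comm]; exact h.adj⟩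

/-- `r_u r_v`. -/
noncomputable def pr {u v : V ι} (h : Adj f u v) : ↥(isometryGroup (ZMod 2) f) :=
  refl hB u h.left * refl hB v h.right

theorem pr_mem {u v : V ι} (h : Adj f u v) : pr hB h ∈ Omega (ZMod 2) f := by
  have hmap : act (refl hB (u + v) (h.add hB)) v = u := by
    rw [act_refl, B_add hB, B_self hB, add_zero, B_comm v u, h.adj, one_smul, add_comm u v,
      ← add_assoc, vv, zero_add]
  have := Subgroup.commutator_mem_commutator (Subgroup.mem_top (refl hB (u + v) (h.add hB)))
    (Subgroup.mem_top (refl hB v h.right))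
  rw [commutatorElement_def, refl_conj, refl_congr hB hmap _ h.left, refl_inv] at this
  exact this

/-- `r_u r_v` as a member of `Ω`. -/
noncomputable def po {u v : V ι} (h : Adj f u v) : ↥(Omega (ZMod 2) f) :=
  ⟨pr hB h, pr_mem hB h⟩

theorem act_pr {u v : V ι} (h : Adj f u v) (x : V ι) :
    act (pr hB h) x = x + B f x v • v + (B f x u + B f x v) • u := by
  rw [pr, act_mul, act_refl, act_refl, hB, B_smul hB, B_comm v u, h.adj, mul_one]

theorem act_pr_comb {u v : V ι} (h : Adj f u v) (a b : ZMod 2) :
    act (pr hB h) (a • u + b • v) = b • u + (a + b) • v := by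
  rw [act_pr, hB, hB, B_smul hB, B_smul hB, B_smul hB, B_smul hB, B_self hB, B_self hB,
    B_comm v u, h.adj]
  funext i
  simp only [Pi.add_apply, Pi.smul_apply, smul_eq_mul]
  generalize u i = p
  generalize v i = q
  revert a b p q
  decide

theorem pr_orbit {u v : V ι} (h : Adj f u v) (x : V ι) :
    x + act (pr hB h) x + act (pr hB h) (act (pr hB h) x) = x + B f x v • u + B f x u • v := by
  have e : act (pr hB h) x = x + ((B f x u + B f x v) • u + B f x v • v) := by
    rw [act_pr]; abel
  rw [e, act_add, e, act_pr_comb]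
  funext i
  simp only [Pi.add_apply, Pi.smul_apply, smul_eq_mul]
  generalize B f x u = p
  generalize B f x v = q
  generalize x i = s
  generalize u i = a
  generalize v i = b
  revert p q s a b
  decide

theorem pr_cube {u v : V ι} (h : Adj f u v) : pr hB h * (pr hB h * pr hB h) = 1 := by
  refine act_ext fun x => ?_
  have e : act (pr hB h) x = x + ((B f x u + B f x v) • u + B f x v • v) := by
    rw [act_pr]; abel
  rw [act_mul, act_mul, act_one, e, act_add, e, act_pr_comb, act_add, act_add, e, act_pr_comb,
    act_pr_comb]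
  funext i
  simp only [Pi.add_apply, Pi.smul_apply, smul_eq_mul]
  generalize B f x u = p
  generalize B f x v = q
  generalize x i = s
  generalize u i = a
  generalize v i = b
  revert p q s a b
  decide

/-- A crossed homomorphism. -/
def IsCrossed (f : V ι → ZMod 2) (φ : ↥(Omega (ZMod 2) f) → V ι) : Prop :=
  ∀ g h, φ (g * h) = φ g + act g.1 (φ h)

variable {φ : ↥(Omega (ZMod 2) f) → V ι} (hφ : IsCrossed f φ)
include hφ

omit hB in
theorem crossed_one : φ 1 = 0 := by
  have := hφ 1 1
  rw [one_mul] at this
  rw [show act ((1 : ↥(Omega (ZMod 2) f)).1) (φ 1) = φ 1 from act_one _, vv] at this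
  exact this

theorem value_eq {u v : V ι} (h : Adj f u v) :
    φ (po hB h) = B f (φ (po hB h)) v • u + B f (φ (po hB h)) u • v := by
  have h3 : po hB h * (po hB h * po hB h) = 1 := Subtype.ext (pr_cube hB h)
  have := congrArg φ h3
  rw [hφ, hφ, crossed_one hφ, show (po hB h).1 = pr hB h from rfl, act_add, ← add_assoc,
    pr_orbit hB h] at this
  have key : ∀ a b c : V ι, a + b + c = 0 → a = b + c := fun a b c e => by
    calc a = a + b + c + (b + c) := by
          rw [add_assoc a b c, add_assoc a (b + c) (b + c), vv, add_zero]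
      _ = b + c := by rw [e, zero_add]
  exact key _ _ _ this

omit hφ in
theorem po_swap {u v : V ι} (h : Adj f u v) : po hB h.symm = (po hB h)⁻¹ :=
  Subtype.ext (show pr hB h.symm = (pr hB h)⁻¹ by rw [pr, pr, mul_inv_rev, refl_inv, refl_inv])

omit hφ in
/-- On a plane all rotations in the same direction agree. -/
theorem po_rot {u v : V ι} (h : Adj f u v) : po hB h = po hB (h.add_right hB) := by
  apply Subtype.ext
  show pr hB h = pr hB (h.add_right hB)
  have hmap : act (refl hB v h.right) u = u + v := by
    rw [act_refl, h.adj, one_smul]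
  rw [pr, pr, ← refl_congr hB hmap ((f_act _ u).trans h.left) (h.add hB), ← refl_conj, refl_inv,
    mul_assoc, ← mul_assoc (refl hB v h.right) (refl hB v h.right), refl_mul_self, one_mul]

/-- The value of `φ` at the second vector. -/
noncomputable def cVal (φ : ↥(Omega (ZMod 2) f) → V ι) {u v : V ι} (h : Adj f u v) : ZMod 2 := B f (φ (po hB h)) u

theorem cVal_symm {u v : V ι} (h : Adj f u v) :
    cVal hB φ h.symm = B f (φ (po hB h)) u + B f (φ (po hB h)) v := by
  unfold cVal
  have h1 := hφ (po hB h) (po hB h.symm)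
  rw [show po hB h * po hB h.symm = 1 by rw [po_swap hB h, mul_inv_cancel], crossed_one hφ,
    show (po hB h).1 = pr hB h from rfl] at h1
  have h2 := congrArg (act (pr hB h.symm)) h1
  rw [act_add, show act (pr hB h.symm) (0 : V ι) = 0 from Matrix.mulVec_zero _, ← act_mul,
    show pr hB h.symm * pr hB h = 1 from congrArg Subtype.val
      (show po hB h.symm * po hB h = 1 by rw [po_swap hB h, inv_mul_cancel]), act_one] at h2
  have h3 : φ (po hB h.symm) = act (pr hB h.symm) (φ (po hB h)) := by
    calc φ (po hB h.symm) = act (pr hB h.symm) (φ (po hB h)) +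
          (act (pr hB h.symm) (φ (po hB h)) + φ (po hB h.symm)) := by
            rw [← add_assoc, vv, zero_add]
      _ = act (pr hB h.symm) (φ (po hB h)) := by rw [← h2, add_zero]
  rw [h3, act_pr, hB, hB, B_smul hB, B_smul hB, B_self hB, h.adj]
  ring

theorem cVal_plane {u v : V ι} (h : Adj f u v) :
    cVal hB φ (h.add_right hB) = cVal hB φ h.symm + cVal hB φ h := by
  rw [cVal_symm hB hφ h]
  unfold cVal
  rw [← po_rot hB h]
  generalize B f (φ (po hB h)) u = a
  generalize B f (φ (po hB h)) v = b
  revert a b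
  decide

theorem cVal_rot {u v : V ι} (h : Adj f u v) :
    cVal hB φ (h.symm.add_right hB).symm = cVal hB φ h.symm := by
  rw [cVal_symm hB hφ (h.symm.add_right hB)]
  unfold cVal
  rw [← po_rot hB h.symm, B_add hB]
  generalize B f (φ (po hB h.symm)) u = a
  generalize B f (φ (po hB h.symm)) v = b
  revert a b
  decide

theorem cVal_triangle {u v w : V ι} (h1 : Adj f u v) (h2 : Adj f v w) (h3 : Adj f u w)
    (hne : u + v + w ≠ 0) : cVal hB φ h3 = cVal hB φ h2 := by
  have hmul : po hB h3 = po hB h1 * po hB h2 := by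
    apply Subtype.ext
    show pr hB h3 = pr hB h1 * pr hB h2
    rw [pr, pr, pr, mul_assoc (refl hB u h1.left), ← mul_assoc (refl hB v _) (refl hB v _),
      refl_mul_self, one_mul]
  have e := congrArg φ hmul
  rw [hφ, value_eq hB hφ h3, value_eq hB hφ h1, value_eq hB hφ h2,
    show (po hB h1).1 = pr hB h1 from rfl] at e
  have eu := congrArg (fun z => B f z u) e
  have ev := congrArg (fun z => B f z v) e
  simp only [hB _ _, B_smul hB, act_pr, B_self hB, B_comm v u, B_comm w u, B_comm w v, h1.adj,
    h2.adj, h3.adj] at eu ev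
  unfold cVal
  -- the coefficient of `w` is determined since `u, v, w` are independent
  have indep : ∀ a b c : ZMod 2, a • u + b • v + c • w = 0 → c = 0 := by
    intro a b c h
    have hu := congrArg (fun z => B f z u) h
    have hv := congrArg (fun z => B f z v) h
    simp only [hB _ _, B_smul hB, B_self hB, B_comm v u, B_comm w u, B_comm w v, h1.adj,
      h2.adj, h3.adj, B_zero hB] at hu hv
    by_contra hc
    have : a = 1 ∧ b = 1 ∧ c = 1 := by
      revert hu hv hc; clear h; revert a b c; decide
    rw [this.1, this.2.1, this.2.2, one_smul, one_smul, one_smul] at h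
    exact hne h
  set a3 := B f (φ (po hB h3)) w
  set b3 := B f (φ (po hB h3)) u
  set a1 := B f (φ (po hB h1)) v
  set b1 := B f (φ (po hB h1)) u
  set a2 := B f (φ (po hB h2)) w
  set b2 := B f (φ (po hB h2)) v
  have hcoef : (a3 + a1 + a2) • u + (b1 + a2 + b2) • v + (b3 + b2) • w = 0 := by
    rw [act_add, act_smul, act_smul, act_pr hB h1 v, act_pr hB h1 w, B_self hB, B_comm v u,
      B_comm w u, B_comm w v, h1.adj, h2.adj, h3.adj] at e
    funext i
    have ei := congrFun e i
    simp only [Pi.add_apply, Pi.smul_apply, smul_eq_mul, Pi.zero_apply] at ei ⊢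
    revert ei
    generalize u i = p
    generalize v i = q
    generalize w i = r
    generalize a3 = x1
    generalize b3 = x2
    generalize a1 = x3
    generalize b1 = x4
    generalize a2 = x5
    generalize b2 = x6
    revert p q r x1 x2 x3 x4 x5 x6
    decide
  have := indep _ _ _ hcoef
  calc b3 = b3 + b2 + b2 := by rw [add_assoc, zz, add_zero]
    _ = b2 := by rw [this, zero_add]

theorem cVal_indep {u u' v : V ι} (h : Adj f u v) (h' : Adj f u' v) :
    cVal hB φ h = cVal hB φ h' := by
  have one : ∀ {a b : V ι} (ha : Adj f a v) (hb : Adj f b v), B f a b = 1 →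
      cVal hB φ ha = cVal hB φ hb := by
    intro a b ha hb hab
    by_cases hz : a + b + v = 0
    · have hba : b = a + v := by
        calc b = a + b + v + (a + v) := by
              calc b = b + (a + a) + (v + v) := by rw [vv, vv, add_zero, add_zero]
                _ = _ := by abel
          _ = a + v := by rw [hz, zero_add]
      subst hba
      have := cVal_rot hB hφ ha.symm
      exact this.symm
    · exact cVal_triangle hB hφ ⟨ha.left, hb.left, hab⟩ hb ha hz
  by_cases hc : B f u u' = 1
  · exact one h h' hc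
  · have hc0 : B f u u' = 0 := by
      revert hc
      generalize B f u u' = a
      revert a
      decide
    have h'' : Adj f (u' + v) v := (h'.add_right hB).symm
    have e1 : B f u (u' + v) = 1 := by rw [B_add hB, hc0, h.adj, zero_add]
    have e2 : B f (u' + v) u' = 1 := by rw [hB, B_self hB, B_comm v u', h'.adj, zero_add]
    exact (one h h'' e1).trans (one h'' h' e2)

theorem exists_c : ∃ c : V ι → ZMod 2,
    (∀ {u v : V ι} (h : Adj f u v), cVal hB φ h = c v) ∧
      ∀ {u v : V ι}, Adj f u v → c (u + v) = c u + c v := by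
  classical
  let c : V ι → ZMod 2 := fun v => if h : ∃ u, Adj f u v then cVal hB φ h.choose_spec else 0
  have hc : ∀ {u v : V ι} (h : Adj f u v), cVal hB φ h = c v := by
    intro u v h
    have he : ∃ u, Adj f u v := ⟨u, h⟩
    simp only [c, dif_pos he]
    exact cVal_indep hB hφ h he.choose_spec
  refine ⟨c, hc, fun {u v} h => ?_⟩
  rw [← hc (h.add_right hB), ← hc h.symm, ← hc h]
  exact cVal_plane hB hφ h

omit hφ in
/-- The subgroup generated by the products of two non-orthogonal reflections is all of `Ω`. -/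
theorem omega_le (hgen : Subgroup.closure {g : ↥(isometryGroup (ZMod 2) f) |
      ∃ u, ∃ hu : f u = 1, g = refl hB u hu} = ⊤)
    {n : ℕ} (b : Fin n → V ι) (hb : ∀ i, f (b i) = 1)
    (hcover : ∀ u, f u = 1 → ∃ i, u = b i ∨ B f u (b i) = 1)
    (hconn : ∀ i j, B f (b i) (b j) = 0 → b i ≠ b j →
      ∃ z, f z = 1 ∧ B f z (b i) = 1 ∧ B f z (b j) = 1) :
    Omega (ZMod 2) f ≤ Subgroup.closure {g | ∃ (u v : V ι) (h : Adj f u v), g = pr hB h} := by
  set W := Subgroup.closure {g | ∃ (u v : V ι) (h : Adj f u v), g = pr hB h}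
  haveI hn : W.Normal := by
    refine ⟨fun x hx g => ?_⟩
    induction hx using Subgroup.closure_induction with
    | mem y hy =>
      obtain ⟨u, v, h, rfl⟩ := hy
      refine Subgroup.subset_closure ⟨act g u, act g v,
        ⟨(f_act g u).trans h.left, (f_act g v).trans h.right, (B_act g u v).trans h.adj⟩, ?_⟩
      rw [pr, pr, ← refl_conj hB g h.left, ← refl_conj hB g h.right]
      group
    | one => simp
    | mul a b _ _ ha hb =>
      rw [show g * (a * b) * g⁻¹ = g * a * g⁻¹ * (g * b * g⁻¹) by group]
      exact W.mul_mem ha hb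
    | inv a _ ha =>
      rw [show g * a⁻¹ * g⁻¹ = (g * a * g⁻¹)⁻¹ by group]
      exact W.inv_mem ha
  have hadj : ∀ {u v : V ι} (h : Adj f u v), pr hB h ∈ W :=
    fun {u v} h => Subgroup.subset_closure ⟨u, v, h, rfl⟩
  have htrans : ∀ {u z v : V ι} (hu : f u = 1) (hz : f z = 1) (hv : f v = 1),
      refl hB u hu * refl hB z hz ∈ W → refl hB z hz * refl hB v hv ∈ W →
        refl hB u hu * refl hB v hv ∈ W := by
    intro u z v hu hz hv h1 h2
    have := W.mul_mem h1 h2
    rwa [mul_assoc (refl hB u hu), ← mul_assoc (refl hB z hz) (refl hB z hz), refl_mul_self,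
      one_mul] at this
  have hbase : ∀ i j, refl hB (b i) (hb i) * refl hB (b j) (hb j) ∈ W := by
    intro i j
    by_cases huv : b i = b j
    · rw [refl_congr hB huv (hb i) (hb j), refl_mul_self]; exact W.one_mem
    by_cases hc : B f (b i) (b j) = 1
    · exact hadj ⟨hb i, hb j, hc⟩
    · have hb0 : B f (b i) (b j) = 0 := by
        revert hc
        generalize B f (b i) (b j) = a
        revert a
        decide
      obtain ⟨z, hz, hzu, hzv⟩ := hconn i j hb0 huv
      exact htrans (hb i) hz (hb j) (hadj (Adj.symm ⟨hz, hb i, hzu⟩)) (hadj ⟨hz, hb j, hzv⟩)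
  have hto : ∀ (u : V ι) (hu : f u = 1), ∃ i,
      refl hB u hu * refl hB (b i) (hb i) ∈ W ∧ refl hB (b i) (hb i) * refl hB u hu ∈ W := by
    intro u hu
    obtain ⟨i, h | h⟩ := hcover u hu
    · refine ⟨i, ?_⟩
      rw [refl_congr hB h hu (hb i), refl_mul_self]
      exact ⟨W.one_mem, W.one_mem⟩
    · have ha : Adj f u (b i) := ⟨hu, hb i, h⟩
      exact ⟨i, hadj ha, hadj ha.symm⟩
  have hpair : ∀ (u v : V ι) (hu : f u = 1) (hv : f v = 1), refl hB u hu * refl hB v hv ∈ W := by
    intro u v hu hv
    obtain ⟨i, h1, -⟩ := hto u hu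
    obtain ⟨j, -, h2⟩ := hto v hv
    exact htrans hu (hb i) hv h1 (htrans (hb i) (hb j) hv (hbase i j) h2)
  have hq : ∀ a b : ↥(isometryGroup (ZMod 2) f) ⧸ W, a * b = b * a := by
    have hg : Subgroup.closure ((QuotientGroup.mk' W) '' {g | ∃ u, ∃ hu : f u = 1,
        g = refl hB u hu}) = ⊤ := by
      rw [← MonoidHom.map_closure, hgen, ← MonoidHom.range_eq_map, MonoidHom.range_eq_top]
      exact QuotientGroup.mk'_surjective W
    have hcomm : ∀ x ∈ (QuotientGroup.mk' W) '' {g | ∃ u, ∃ hu : f u = 1, g = refl hB u hu},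
        ∀ y ∈ (QuotientGroup.mk' W) '' {g | ∃ u, ∃ hu : f u = 1, g = refl hB u hu},
          x * y = y * x := by
      rintro _ ⟨_, ⟨u, hu, rfl⟩, rfl⟩ _ ⟨_, ⟨v, hv, rfl⟩, rfl⟩
      have e : ∀ (u v : V ι) (hu : f u = 1) (hv : f v = 1),
          QuotientGroup.mk' W (refl hB u hu) = QuotientGroup.mk' W (refl hB v hv) := by
        intro u v hu hv
        refine QuotientGroup.eq.2 ?_
        rw [refl_inv]
        exact hpair u v hu hv
      rw [e u v hu hv]
    intro a b
    exact Set.centralizer_centralizer_comm_of_comm hcomm _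
      (Subgroup.closure_le_centralizer_centralizer _ (hg ▸ Subgroup.mem_top a)) _
      (Subgroup.closure_le_centralizer_centralizer _ (hg ▸ Subgroup.mem_top b))
  rw [Omega, commutator_def, Subgroup.commutator_le]
  intro x _ y _
  rw [← QuotientGroup.eq_one_iff]
  show (QuotientGroup.mk' W) ⁅x, y⁆ = 1
  rw [map_commutatorElement]
  exact commutatorElement_eq_one_iff_commute.2 (hq _ _)

/-- Every non-singular vector is reached from `b` by adding non-orthogonal members. -/
def Reach {n : ℕ} (f : V ι → ZMod 2) (b : Fin n → V ι) : List (V ι) → Prop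
  | [] => True
  | v :: rest => Reach f b rest ∧ ((∃ i, v = b i) ∨
      ∃ i, B f v (b i) = 1 ∧ v + b i ∈ rest)

instance decReach {n : ℕ} (f : V ι → ZMod 2) (b : Fin n → V ι) :
    (L : List (V ι)) → Decidable (Reach f b L)
  | [] => .isTrue trivial
  | v :: rest =>
    have := decReach f b rest
    inferInstanceAs (Decidable (Reach f b rest ∧ _))

/-- Every crossed homomorphism is principal. -/
theorem principal
    (hgen : Subgroup.closure {g : ↥(isometryGroup (ZMod 2) f) |
      ∃ u, ∃ hu : f u = 1, g = refl hB u hu} = ⊤)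
    {n : ℕ} (b d : Fin n → V ι) (hb : ∀ i, f (b i) = 1)
    (hd : ∀ i j, B f (d j) (b i) = if i = j then 1 else 0)
    (hconn : ∀ i j, B f (b i) (b j) = 0 → b i ≠ b j →
      ∃ z, f z = 1 ∧ B f z (b i) = 1 ∧ B f z (b j) = 1)
    (L : List (V ι)) (hL : Reach f b L) (hall : ∀ v, f v = 1 → v ∈ L) :
    ∃ x : V ι, ∀ g : ↥(Omega (ZMod 2) f), φ g = act g.1 x - x := by
  obtain ⟨c, hc, hadd⟩ := exists_c hB hφ
  let x : V ι := ∑ j, c (b j) • d j
  have hsum : ∀ y : V ι, B f x y = ∑ j, c (b j) * B f (d j) y := by
    intro y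
    let F : V ι →+ ZMod 2 :=
      { toFun := fun z => B f z y, map_zero' := B_zero hB y, map_add' := fun p q => hB p q y }
    show F x = _
    rw [map_sum]
    exact Finset.sum_congr rfl fun j _ => B_smul hB _ _ _
  have hxb : ∀ i, B f x (b i) = c (b i) := by
    intro i
    rw [hsum, Finset.sum_eq_single i]
    · rw [hd, if_pos rfl, mul_one]
    · intro j _ hj; rw [hd, if_neg (Ne.symm hj), mul_zero]
    · intro h; exact absurd (Finset.mem_univ i) h
  have hlist : ∀ v ∈ L, f v = 1 ∧ c v = B f x v := by
    clear hall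
    induction L with
    | nil => simp
    | cons v rest ih =>
      have ih := ih hL.1
      intro w hw
      rcases List.mem_cons.1 hw with rfl | hw
      · rcases hL.2 with ⟨i, rfl⟩ | ⟨i, h1, h2⟩
        · exact ⟨hb i, (hxb i).symm⟩
        · obtain ⟨g1, g2⟩ := ih _ h2
          have hv : w + b i + b i = w := by rw [add_assoc, vv, add_zero]
          have ha : Adj f (w + b i) (b i) :=
            ⟨g1, hb i, by rw [hB, B_self hB, add_zero, h1]⟩
          refine ⟨by rw [← hv]; exact ha.add hB, ?_⟩
          have := hadd ha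
          rw [hv] at this
          rw [this, g2, B_add hB, hxb, add_assoc, zz, add_zero]
      · exact ih w hw
  refine ⟨x, fun g => ?_⟩
  let S : Subgroup ↥(isometryGroup (ZMod 2) f) :=
    { carrier := {h | ∃ hm : h ∈ Omega (ZMod 2) f, φ ⟨h, hm⟩ = act h x + x}
      one_mem' := ⟨one_mem _, by
        rw [show (⟨1, one_mem _⟩ : ↥(Omega (ZMod 2) f)) = 1 from rfl, crossed_one hφ, act_one, vv]⟩
      mul_mem' := by
        rintro p q ⟨hp, ep⟩ ⟨hq, eq⟩
        refine ⟨mul_mem hp hq, ?_⟩
        rw [show (⟨p * q, mul_mem hp hq⟩ : ↥(Omega (ZMod 2) f)) = ⟨p, hp⟩ * ⟨q, hq⟩ from rfl, hφ,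
          ep, eq, act_add, ← act_mul]
        rw [show act p x + x + (act (p * q) x + act p x)
          = act (p * q) x + x + (act p x + act p x) by abel, vv, add_zero]
      inv_mem' := by
        rintro p ⟨hp, ep⟩
        refine ⟨inv_mem hp, ?_⟩
        have e := hφ ⟨p⁻¹, inv_mem hp⟩ ⟨p, hp⟩
        rw [show (⟨p⁻¹, inv_mem hp⟩ : ↥(Omega (ZMod 2) f)) * ⟨p, hp⟩ = 1 from
          Subtype.ext (inv_mul_cancel p), crossed_one hφ, ep, act_add, ← act_mul, inv_mul_cancel,
          act_one] at e
        calc φ ⟨p⁻¹, _⟩ = φ ⟨p⁻¹, inv_mem hp⟩ + (x + act p⁻¹ x) + (act p⁻¹ x + x) := by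
              rw [add_assoc _ (x + act p⁻¹ x), add_comm x, vv, add_zero]
          _ = act p⁻¹ x + x := by rw [← e, zero_add] }
  have hle : Subgroup.closure {g | ∃ (u v : V ι) (h : Adj f u v), g = pr hB h} ≤ S := by
    rw [Subgroup.closure_le]
    rintro _ ⟨u, v, h, rfl⟩
    refine ⟨pr_mem hB h, ?_⟩
    show φ (po hB h) = _
    rw [value_eq hB hφ h, act_pr]
    have hu := (hlist u (hall u h.left)).2
    have hv := (hlist v (hall v h.right)).2
    have e1 : B f (φ (po hB h)) u = c v := hc h
    have e2 : B f (φ (po hB h)) v = c u + c v := by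
      have := hc h.symm
      rw [cVal_symm hB hφ h, e1] at this
      rw [← this, add_comm (c v), add_assoc, zz, add_zero]
    rw [e1, e2, hu, hv]
    rw [show x + B f x v • v + (B f x u + B f x v) • u + x
      = (B f x u + B f x v) • u + B f x v • v + (x + x) by abel, vv, add_zero]
  have hcov : ∀ v ∈ L, ∃ i, v = b i ∨ B f v (b i) = 1 := by
    clear hlist hall
    intro v hv
    induction L with
    | nil => simp at hv
    | cons w rest ih =>
      rcases List.mem_cons.1 hv with rfl | hv
      · rcases hL.2 with ⟨i, h⟩ | ⟨i, h, -⟩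
        exacts [⟨i, .inl h⟩, ⟨i, .inr h⟩]
      · exact ih hL.1 hv
  obtain ⟨hm, e⟩ := hle (omega_le hB hgen b hb (fun u hu => hcov u (hall u hu)) hconn g.2)
  rw [sub_eq_add_neg, neg_eq_of_add_eq_zero_left (vv x)]
  exact e

omit hφ in
/-- Generation by reflections from a chain of stabilisers along a spanning family. -/
theorem gen_of_chain {n : ℕ} (b d : Fin n → V ι) (hb : ∀ i, f (b i) = 1)
    (hspan : ∀ x, x = ∑ j, B f (d j) x • b j)
    (hstep : ∀ k v, f v = 1 → (∀ i, i < k → B f v (b i) = B f (b k) (b i)) → v ≠ b k →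
      B f v (b k) = 0 → ∃ z, f z = 1 ∧ B f z (b k) = 1 ∧ B f z v = 1 ∧
        ∀ i, i < k → B f z (b i) = B f (b k) (b i)) :
    Subgroup.closure {g : ↥(isometryGroup (ZMod 2) f) |
      ∃ u, ∃ hu : f u = 1, g = refl hB u hu} = ⊤ := by
  set R := Subgroup.closure {g : ↥(isometryGroup (ZMod 2) f) |
      ∃ u, ∃ hu : f u = 1, g = refl hB u hu}
  have hR : ∀ u (hu : f u = 1), refl hB u hu ∈ R :=
    fun u hu => Subgroup.subset_closure ⟨u, hu, rfl⟩
  have key : ∀ m, m ≤ n → ∀ g : ↥(isometryGroup (ZMod 2) f),
      (∀ i : Fin n, (i : ℕ) < n - m → act g (b i) = b i) → g ∈ R := by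
    intro m
    induction m with
    | zero =>
      intro _ g hg
      have : g = 1 := by
        refine act_ext fun x => ?_
        rw [act_one]
        nth_rw 1 [hspan x]
        rw [show act g (∑ j, B f (d j) x • b j) = ∑ j, act g (B f (d j) x • b j) from
          Matrix.mulVec_sum ..]
        refine Eq.trans (Finset.sum_congr rfl fun j _ => ?_) (hspan x).symm
        rw [act_smul, hg j (by simp)]
      rw [this]
      exact R.one_mem
    | succ m ih =>
      intro hm g hg
      set k : Fin n := ⟨n - (m + 1), by omega⟩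
      have finish : ∀ g : ↥(isometryGroup (ZMod 2) f),
          (∀ i : Fin n, (i : ℕ) < n - (m + 1) → act g (b i) = b i) → act g (b k) = b k → g ∈ R := by
        intro g hg hk
        refine ih (by omega) g fun i hi => ?_
        rcases Nat.lt_or_ge (i : ℕ) (n - (m + 1)) with h | h
        · exact hg i h
        · rwa [show i = k from Fin.ext (show (i : ℕ) = n - (m + 1) by omega)]
      have fix : ∀ {u : V ι} (hu : f u = 1) (i : Fin n), B f (b i) u = 0 →
          act (refl hB u hu) (b i) = b i := by
        intro u hu i h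
        rw [act_refl, h, zero_smul, add_zero]
      have move : ∀ {v w : V ι} (_ : f v = 1) (_ : f w = 1), B f v w = 1 →
          ∃ h : f (v + w) = 1, act (refl hB (v + w) h) v = w := by
        intro v w hv hw h
        refine ⟨by rw [f_add hB, hv, hw, h]; decide, ?_⟩
        rw [act_refl, B_add hB, B_self hB, h, zero_add, one_smul, ← add_assoc, vv, zero_add]
      set v := act g (b k) with hvdef
      have hv : f v = 1 := (f_act g _).trans (hb k)
      have hvi : ∀ i, i < k → B f v (b i) = B f (b k) (b i) := by
        intro i hi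
        conv_lhs => rw [← hg i hi]
        exact B_act g _ _
      by_cases hvk : v = b k
      · exact finish g hg hvk
      · by_cases hb1 : B f v (b k) = 1
        · obtain ⟨h, hmove⟩ := move hv (hb k) hb1
          have := finish (refl hB _ h * g)
            (fun i hi => by
              rw [act_mul, hg i hi]
              exact fix h i (by rw [B_comm, hB, hvi i hi, zz]))
            (by rw [act_mul, ← hvdef, hmove])
          simpa using R.mul_mem (R.inv_mem (hR _ h)) this
        · have hb0 : B f v (b k) = 0 := by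
            revert hb1
            generalize B f v (b k) = a
            revert a
            decide
          obtain ⟨z, hz, hzk, hzv, hzi⟩ := hstep k v hv hvi hvk hb0
          obtain ⟨h1, hm1⟩ := move hv hz (by rw [B_comm]; exact hzv)
          obtain ⟨h2, hm2⟩ := move hz (hb k) hzk
          have := finish (refl hB _ h2 * (refl hB _ h1 * g))
            (fun i hi => by
              rw [act_mul, act_mul, hg i hi,
                fix h1 i (by rw [B_comm, hB, hvi i hi, hzi i hi, zz]),
                fix h2 i (by rw [B_comm, hB, hzi i hi, zz])])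
            (by rw [act_mul, act_mul, ← hvdef, hm1, hm2])
          simpa using R.mul_mem (R.inv_mem (hR _ h1)) (R.mul_mem (R.inv_mem (hR _ h2)) this)
  rw [eq_top_iff]
  exact fun g _ => key n le_rfl g fun i hi => absurd hi (by omega)

end Cfsg.Agent.Lib.ThreeTranspositions.OrthCocycle
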