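import Cfsg.Agent.Lib.ThreeTranspositions.Width
import Cfsg.Agent.Lib.Components.GenFitting

/-!
The trichotomy for a generating class of 3-transpositions.
-/
set_option autoImplicit false

open Cfsg

namespace Cfsg.Agent.Lib.ThreeTranspositions

universe u

variable {G : Type u} [Group G] {D : Set G} {a b d e h v w : G}

/-- In a plane of type `S₄` the product of two commuting points moves the third. -/
theorem conj_mul_ne (hC : IsClosedSet D) (ha : a ∈ D) (hb : b ∈ D) (hab : a ≠ b)
    (hc : Commute a b) (hh : h ∈ D) (h1 : ¬ Commute a h) (h2 : ¬ Commute b h) :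
    (b * a) * h * (b * a)⁻¹ ≠ h := by
  have hS := hC.1
  set φ := s4Hom (mul_self hS ha) (mul_self hS hh) (mul_self hS hb) hc (braid hS ha hh h1)
    (braid hS hh hb (not_commute_symm h2)) with hφ
  have hinj : Function.Injective φ := s4Hom_injective _ _ _ _ _ _ hab
  have e0 : φ (Equiv.swap 0 1) = a := s4Hom_gen _ _ _ _ _ _ 0
  have e1 : φ (Equiv.swap 1 2) = h := s4Hom_gen _ _ _ _ _ _ 1
  have e2 : φ (Equiv.swap 2 3) = b := s4Hom_gen _ _ _ _ _ _ 2
  clear_value φ
  rw [← e0, ← e1, ← e2]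
  simp only [← map_mul, ← map_inv]
  exact fun h => absurd (hinj h) (by decide +kernel)

/-- A member commutes with a product of two commuting members only if it commutes with both. -/
theorem commute_mul_iff (hC : IsClosedSet D) (ha : a ∈ D) (hb : b ∈ D) (hab : a ≠ b)
    (hc : Commute a b) (hh : h ∈ D) : Commute (b * a) h ↔ Commute a h ∧ Commute b h := by
  refine ⟨fun hm => ?_, fun h => h.2.mul_left h.1⟩
  by_cases h1 : Commute a h
  · refine ⟨h1, ?_⟩
    have h2 := hm.mul_left h1
    rwa [mul_assoc, mul_self hC.1 ha, mul_one] at h2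
  · exfalso
    have h2 : ¬ Commute b h := fun h2 => h1 (by
      have h3 := h2.mul_left hm
      rwa [← mul_assoc, mul_self hC.1 hb, one_mul] at h3)
    exact conj_mul_ne hC ha hb hab hc hh h1 h2 (by rw [hm.eq, mul_inv_cancel_right])

theorem layer_mem_conj (g : G) {x : G} (hx : x ∈ layer G) : g * x * g⁻¹ ∈ layer G := by
  have := Components.Layer.map_layer (MulAut.conj g : G ≃* G)
  rw [← this]
  exact ⟨x, hx, rfl⟩

variable [Finite G]

theorem commute_layer_of_mem_fitting {x l : G} (hx : x ∈ fittingSubgroup G) (hl : l ∈ layer G) :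
    Commute l x := by
  have h := Subgroup.commutator_eq_bot_iff_le_centralizer.1
    (Components.Layer.commutator_layer_fitting (G := G)) hl
  exact (h x hx).symm

/-- If the commutators of `d` with the layer lie in a solvable subgroup normalised by the layer,
then `d` centralises the layer. -/
theorem commute_layer_of_solvable (hd : d * d = 1) {B : Subgroup G} (hBE : B ≤ layer G)
    (hBn : ∀ l ∈ layer G, ∀ x ∈ B, l * x * l⁻¹ ∈ B) (hBs : Group.IsSolvable B)
    (hmem : ∀ l ∈ layer G, l * d * l⁻¹ * d ∈ B) : ∀ l ∈ layer G, Commute d l := by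
  have hlayer : (layer G).Normal := ⟨fun x hx g => layer_mem_conj g hx⟩
  have hB : B.IsSubnormal := by
    have h1 : (B.subgroupOf (layer G)).Normal := ⟨fun x hx g => hBn g g.2 x hx⟩
    exact Subgroup.IsSubnormal.trans hBE h1.isSubnormal hlayer.isSubnormal
  have hc : layer G ≤ Subgroup.centralizer (B : Set G) := by
    refine sSup_le fun K hK => ?_
    haveI := hBs
    have h1 := Components.Component.commutator_eq_bot_of_isSolvable hK hB
    rw [Subgroup.commutator_comm] at h1
    exact Subgroup.commutator_eq_bot_iff_le_centralizer.mp h1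
  have hcm : ∀ x ∈ B, ∀ l ∈ layer G, Commute x l := fun x hx l hl => (hc hl x hx)
  set f : layer G → layer G := fun l => ⟨(l : G) * d * (l : G)⁻¹ * d, hBE (hmem l l.2)⟩ with hf
  have hfz : ∀ l, f l ∈ Subgroup.center (layer G) := fun l =>
    Subgroup.mem_center_iff.2 fun m => Subtype.ext ((hcm _ (hmem l l.2) m m.2).symm)
  have hmul : ∀ l m, f (l * m) = f m * f l := by
    intro l m
    apply Subtype.ext
    show ((l * m : layer G) : G) * d * ((l * m : layer G) : G)⁻¹ * d
      = ((m : G) * d * (m : G)⁻¹ * d) * ((l : G) * d * (l : G)⁻¹ * d)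
    have e1 := (hcm _ (hmem m m.2) l l.2).eq
    calc ((l * m : layer G) : G) * d * ((l * m : layer G) : G)⁻¹ * d
        = (l : G) * ((m : G) * d * (m : G)⁻¹ * d) * (d⁻¹ * (l : G)⁻¹ * d) := by
          push_cast; group
      _ = ((m : G) * d * (m : G)⁻¹ * d) * ((l : G) * d * (l : G)⁻¹ * d) := by
          rw [← e1, inv_eq_of_mul_eq_one_left hd]; simp only [mul_assoc]
  let φ : layer G →* Subgroup.center (layer G) := MonoidHom.mk' (fun l => ⟨f l, hfz l⟩)
    (fun l m => Subtype.ext (by
      show f (l * m) = f l * f m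
      rw [hmul]; exact (Subgroup.mem_center_iff.1 (hfz l) (f m))))
  intro l hl
  have hker : φ.ker = ⊤ := by
    rw [eq_top_iff]
    calc (⊤ : Subgroup (layer G)) = commutator (layer G) :=
          (Subgroup.map_injective (layer G).subtype_injective (by
            rw [← MonoidHom.range_eq_map, Subgroup.range_subtype, commutator_def,
              Subgroup.map_commutator, ← MonoidHom.range_eq_map, Subgroup.range_subtype,
              Components.Layer.commutator_layer_self]))
      _ ≤ φ.ker := by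
        rw [commutator_def, Subgroup.commutator_le]
        intro g₁ _ g₂ _
        rw [MonoidHom.mem_ker, map_commutatorElement, commutatorElement_eq_one_iff_mul_comm]
        exact Subtype.ext (Subgroup.mem_center_iff.1 (φ g₂).2 (φ g₁ : layer G))
  have h1 : φ ⟨l, hl⟩ = 1 := MonoidHom.mem_ker.1 (hker ▸ Subgroup.mem_top _)
  have h2 : l * d * l⁻¹ * d = 1 := congrArg (fun z : Subgroup.center (layer G) => ((z : layer G) : G)) h1
  have h3 : l * d * l⁻¹ = d := by
    rw [eq_inv_of_mul_eq_one_left h2, inv_eq_of_mul_eq_one_left hd]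
  show d * l = l * d
  conv_lhs => rw [← h3]
  group

theorem commute_layer_of_vSet (hC : IsClosedSet D) (hd : d ∈ D) (hv : v ∈ vSet D d)
    (hvd : v ≠ d) : ∀ l ∈ layer G, Commute d l := by
  have hS := hC.1
  haveI : Fact (Nat.Prime 2) := ⟨Nat.prime_two⟩
  have hcx : ∀ l ∈ layer G, Commute l (v * d) := fun l hl =>
    commute_layer_of_mem_fitting (Cores.pCore_le_fittingSubgroup 2 (mul_mem_pCore_two hC hd hv)) hl
  have hdv := commute_of_mem_vSet hd hv
  have hcom : ∀ l ∈ layer G, Commute (l * d * l⁻¹) d := by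
    intro l hl
    have h1 : Commute (v * d) d := hdv.mul_left (Commute.refl d)
    have h2 : Commute (v * d) (l * d * l⁻¹) :=
      ((hcx l hl).symm.mul_right h1).mul_right (hcx l hl).symm.inv_right
    exact ((commute_mul_iff hC hd hv.1 hvd.symm hdv.symm (hC.2 l d hd)).1 h2).1.symm
  set A := Subgroup.closure {x : G | ∃ l ∈ layer G, x = l * d * l⁻¹} with hA
  have hpair : ∀ x ∈ {x : G | ∃ l ∈ layer G, x = l * d * l⁻¹},
      ∀ y ∈ {x : G | ∃ l ∈ layer G, x = l * d * l⁻¹}, Commute x y := by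
    rintro _ ⟨l, hl, rfl⟩ _ ⟨m, hm, rfl⟩
    have := (Commute.conj_iff m).2 (hcom (m⁻¹ * l) (mul_mem (inv_mem hm) hl))
    rwa [show m * (m⁻¹ * l * d * (m⁻¹ * l)⁻¹) * m⁻¹ = l * d * l⁻¹ by group] at this
  have hAn : ∀ l ∈ layer G, ∀ x ∈ A, l * x * l⁻¹ ∈ A := by
    intro l hl x hx
    induction hx using Subgroup.closure_induction with
    | mem x hx =>
      obtain ⟨m, hm, rfl⟩ := hx
      exact Subgroup.subset_closure ⟨l * m, mul_mem hl hm, by group⟩
    | one => simp
    | mul y z _ _ hy hz => convert mul_mem hy hz using 1; group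
    | inv y _ hy => convert inv_mem hy using 1; group
  refine commute_layer_of_solvable (mul_self hS hd) (B := A ⊓ layer G) inf_le_right
    (fun l hl x hx => ⟨hAn l hl x hx.1, layer_mem_conj l hx.2⟩) ?_ fun l hl => ⟨?_, ?_⟩
  · haveI : IsMulCommutative A :=
      Subgroup.isMulCommutative_closure fun x hx y hy => (hpair x hx y hy).eq
    haveI : IsMulCommutative (A ⊓ layer G : Subgroup G) := ⟨⟨fun x y => Subtype.ext (by
      simpa using congrArg Subtype.val ((inferInstance : IsMulCommutative A).is_comm.comm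
        ⟨(x : G), x.2.1⟩ ⟨(y : G), y.2.1⟩))⟩⟩
    exact Coprime.isSolvable_of_isMulCommutative _
  · exact mul_mem (Subgroup.subset_closure ⟨l, hl, rfl⟩)
      (Subgroup.subset_closure ⟨1, one_mem _, by group⟩)
  · show _ ∈ layer G
    have h2 := mul_mem hl (inv_mem (layer_mem_conj d hl))
    convert h2 using 1
    rw [mul_inv_rev, mul_inv_rev, inv_inv, inv_eq hS hd]
    simp only [mul_assoc]

theorem commute_layer_of_wSet (hBS : QuaternionCentre.{u}) (hC : IsClosedSet D) (hd : d ∈ D)
    (hw : w ∈ wSet D d) (hwd : w ≠ d) : ∀ l ∈ layer G, Commute d l := by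
  have hS := hC.1
  haveI : Fact (Nat.Prime 3) := ⟨Nat.prime_three⟩
  have hcx : ∀ l ∈ layer G, Commute l (w * d) := fun l hl =>
    commute_layer_of_mem_fitting
      (Cores.pCore_le_fittingSubgroup 3 (mul_mem_pCore_three hBS hC hd hw)) hl
  have hne : ¬ Commute w d := not_commute_of_mem_wSet hd hw hwd
  set S : Set G := {x : G | ∃ l ∈ layer G, x = l * d * l⁻¹} with hSdef
  have key : ∀ e ∈ S, Commute e d → e = d := by
    rintro _ ⟨l, hl, rfl⟩ hed
    by_contra hne'
    have h1 := (mem_wSet_iff.1 hw).2 _ (hC.2 l d hd) |>.1 ⟨hne', hed.symm⟩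
    have h2 : Commute (l * d * l⁻¹) (w * d) := h1.2.symm.mul_right hed
    have h3 : Commute d (w * d) := by
      rw [← Commute.conj_iff l]
      rwa [(hcx l hl).eq, mul_inv_cancel_right]
    have h4 := h3.mul_right (Commute.refl d)
    rw [mul_assoc, mul_self hS hd, mul_one] at h4
    exact hne h4.symm
  set H := Subgroup.closure S with hH
  have hSD : S ⊆ D := by rintro _ ⟨l, -, rfl⟩; exact hC.2 l d hd
  have hnorm : ∀ g : G, (∀ x ∈ layer G, g * x * g⁻¹ ∈ layer G) →
      (∀ g' : G, g' = g → g * d * g⁻¹ ∈ S) → ∀ x ∈ S, g * x * g⁻¹ ∈ S := by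
    rintro g hg hgd _ ⟨l, hl, rfl⟩
    obtain ⟨m, hm, he⟩ := hgd g rfl
    refine ⟨g * l * g⁻¹ * m, mul_mem (hg l hl) hm, ?_⟩
    calc g * (l * d * l⁻¹) * g⁻¹ = (g * l * g⁻¹) * (g * d * g⁻¹) * (g * l * g⁻¹)⁻¹ := by group
      _ = _ := by rw [he]; group
  have hlay : ∀ l ∈ layer G, ∀ x ∈ S, l * x * l⁻¹ ∈ S := by
    rintro l hl _ ⟨m, hm, rfl⟩
    exact ⟨l * m, mul_mem hl hm, by group⟩
  have hd' : ∀ x ∈ S, d * x * d⁻¹ ∈ S :=
    hnorm d (fun x hx => layer_mem_conj d hx)
      (fun _ _ => ⟨1, one_mem _, by group⟩)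
  have hHS : ∀ g ∈ H, ∀ x ∈ S, g * x * g⁻¹ ∈ S := by
    intro g hg
    induction hg using Subgroup.closure_induction with
    | mem y hy =>
      obtain ⟨m, hm, rfl⟩ := hy
      intro x hx
      have := hlay m hm _ (hd' _ (hlay m⁻¹ (inv_mem hm) x hx))
      convert this using 1
      group
    | one => intro x hx; simpa using hx
    | mul y z _ _ hy hz => intro x hx; convert hy _ (hz x hx) using 1; group
    | inv y _ hy =>
      intro x hx
      have hinj : Set.InjOn (fun c => y * c * y⁻¹) S := fun c _ c' _ h => conj_injective h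
      have himg : (fun c => y * c * y⁻¹) '' S = S :=
        Set.eq_of_subset_of_ncard_le (by rintro _ ⟨c, hc, rfl⟩; exact hy c hc)
          (le_of_eq (hinj.ncard_image).symm) (Set.toFinite _)
      rw [← himg] at hx
      obtain ⟨c, hc, rfl⟩ := hx
      convert hc using 1
      group
  set E : Set H := {x | (x : G) ∈ S}
  have hE : IsClosedSet E := by
    refine ⟨⟨fun x hx => ?_, fun x hx y hy => ?_⟩, fun g x hx => hHS g g.2 _ hx⟩
    · rw [← Subgroup.orderOf_coe]; exact hS.1 _ (hSD hx)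
    · rcases hS.2 _ (hSD hx) _ (hSD hy) with h | h
      · exact Or.inl (Subtype.ext (by simpa using h))
      · exact Or.inr (Subtype.ext (by simpa using h))
  have hw1 : ∀ x ∈ E, ∀ y ∈ E, Commute x y → x = y := by
    intro x hx y hy h
    obtain ⟨m, hm, hym⟩ := hy
    have h1 : Commute (m⁻¹ * (x : G) * m⁻¹⁻¹) (m⁻¹ * (y : G) * m⁻¹⁻¹) :=
      (Commute.conj_iff _).2 (h.map H.subtype)
    have h2 : m⁻¹ * (y : G) * m⁻¹⁻¹ = d := by rw [hym]; group
    rw [h2] at h1
    have h3 := key _ (hlay m⁻¹ (inv_mem hm) _ hx) h1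
    exact Subtype.ext (conj_injective (h3.trans h2.symm))
  set P := (pCore 3 H).map H.subtype with hP
  have hmemP : ∀ x ∈ S, ∀ y ∈ S, x * y ∈ P := fun x hx y hy =>
    ⟨⟨x, Subgroup.subset_closure hx⟩ * ⟨y, Subgroup.subset_closure hy⟩,
      width_one_mul_mem hBS hE hw1 hx hy, rfl⟩
  have hSd : d ∈ S := ⟨1, one_mem _, by group⟩
  set B := Subgroup.closure {x : G | ∃ a ∈ S, ∃ b ∈ S, x = a * b} with hB
  have hBP : B ≤ P := (Subgroup.closure_le _).2 (by rintro _ ⟨a, ha, b, hb, rfl⟩; exact hmemP a ha b hb)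
  have hBn : ∀ l ∈ layer G, ∀ x ∈ B, l * x * l⁻¹ ∈ B := by
    intro l hl x hx
    induction hx using Subgroup.closure_induction with
    | mem x hx =>
      obtain ⟨a, ha, b, hb, rfl⟩ := hx
      exact Subgroup.subset_closure ⟨_, hlay l hl a ha, _, hlay l hl b hb, by group⟩
    | one => simp
    | mul y z _ _ hy hz => convert mul_mem hy hz using 1; group
    | inv y _ hy => convert inv_mem hy using 1; group
  refine commute_layer_of_solvable (mul_self hS hd) (B := B ⊓ layer G) inf_le_right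
    (fun l hl x hx => ⟨hBn l hl x hx.1, layer_mem_conj l hx.2⟩) ?_ fun l hl => ⟨?_, ?_⟩
  · exact Coprime.isSolvable_of_isPGroup
      (((Cores.pCore_isPGroup 3).map H.subtype).to_le (inf_le_left.trans hBP))
  · exact Subgroup.subset_closure ⟨_, ⟨l, hl, rfl⟩, d, hSd, rfl⟩
  · show _ ∈ layer G
    have h2 := mul_mem hl (inv_mem (layer_mem_conj d hl))
    convert h2 using 1
    rw [mul_inv_rev, mul_inv_rev, inv_inv, inv_eq hS hd]
    simp only [mul_assoc]

theorem layer_eq_bot_of_commute_all (hgen : Subgroup.closure D = ⊤)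
    (h : ∀ e ∈ D, ∀ l ∈ layer G, Commute e l) : layer G = ⊥ := by
  by_contra hne
  obtain ⟨K, hK⟩ := Components.Layer.layer_ne_bot_iff.1 hne
  refine Components.Component.not_le_centralizer_self hK fun x hx y _ => ?_
  have := mem_center_of_commute_gen hgen fun e he => (h e he x (le_sSup (a := K) hK hx)).symm
  exact (Subgroup.mem_center_iff.1 this y)

theorem exists_pair_of_pCore_not_central (hD : IsThreeTranspositionClass D) (p : ℕ)
    (h : ¬ pCore p G ≤ Subgroup.center G) (hd : d ∈ D) :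
    ∃ g ∈ pCore p G, g * d * g⁻¹ ≠ d := by
  by_contra hh
  push Not at hh
  apply h
  intro x hx
  refine mem_center_of_commute_gen hD.2.2 fun e he => ?_
  obtain ⟨g, rfl⟩ := class_exists_conj hD hd he
  have h1 := hh _ ((inferInstance : (pCore p G).Normal).conj_mem x hx g⁻¹)
  show x * (g * d * g⁻¹) = g * d * g⁻¹ * x
  calc x * (g * d * g⁻¹) = g * ((g⁻¹ * x * g⁻¹⁻¹) * d * (g⁻¹ * x * g⁻¹⁻¹)⁻¹) * g⁻¹ * x := by group
    _ = g * d * g⁻¹ * x := by rw [h1]

theorem pCore_le_center_of_three_lt (hD : IsThreeTranspositionClass D) {p : ℕ} (hp : p.Prime)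
    (hlt : 3 < p) : pCore p G ≤ Subgroup.center G := by
  intro x hx
  refine mem_center_of_commute_gen hD.2.2 fun e he => ?_
  have hC := isClosedSet_of_class hD
  have hod : ∀ y ∈ pCore p G, Commute e y := by
    intro y hy
    have h1 := hC.2 y e he
    have hm : e * (y * e * y⁻¹) ∈ pCore p G := by
      have h2 := mul_mem ((inferInstance : (pCore p G).Normal).conj_mem y hy e) (inv_mem hy)
      convert h2 using 1
      rw [inv_eq hC.1 he]; simp only [mul_assoc]
    obtain ⟨i, hi⟩ := Cores.pCore_isPGroup p ⟨_, hm⟩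
    have hi' : (e * (y * e * y⁻¹)) ^ p ^ i = 1 := by simpa [Subtype.ext_iff] using hi
    have h4 : e * (y * e * y⁻¹) = 1 := by
      rcases hC.1.2 e he _ h1 with h | h
      · have := pow_gcd_eq_one.2 ⟨hi', h⟩
        rwa [show Nat.gcd (p ^ i) 2 = 1 from
          Nat.Coprime.pow_left i ((Nat.coprime_primes hp Nat.prime_two).2 (by omega)),
          pow_one] at this
      · have := pow_gcd_eq_one.2 ⟨hi', h⟩
        rwa [show Nat.gcd (p ^ i) 3 = 1 from
          Nat.Coprime.pow_left i ((Nat.coprime_primes hp Nat.prime_three).2 (by omega)),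
          pow_one] at this
    have h5 : e = y * e * y⁻¹ := (eq_inv_of_mul_eq_one_left h4).trans (inv_eq hC.1 h1)
    show e * y = y * e
    conv_lhs => rw [h5]
    group
  exact (hod x hx).symm

theorem fitting_le_center (hD : IsThreeTranspositionClass D)
    (h2 : pCore 2 G ≤ Subgroup.center G) (h3 : pCore 3 G ≤ Subgroup.center G) :
    fittingSubgroup G ≤ Subgroup.center G := by
  rw [Cores.fittingSubgroup_eq_iSup_pCore]
  refine iSup_le fun ⟨p, hp⟩ => ?_
  rcases Nat.lt_or_ge 3 p with hlt | hge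
  · exact pCore_le_center_of_three_lt hD hp hlt
  · have h2' := hp.two_le
    interval_cases p
    · exact h2
    · exact h3

theorem trichotomy (hBS : QuaternionCentre.{u}) (hD : IsThreeTranspositionClass D)
    (hD2 : ∃ a ∈ D, ∃ b ∈ D, a ≠ b) :
    (¬ pCore 2 G ≤ Subgroup.center G ∧ pCore 3 G ≤ Subgroup.center G ∧ layer G = ⊥) ∨
    (pCore 2 G ≤ Subgroup.center G ∧ ¬ pCore 3 G ≤ Subgroup.center G ∧ layer G = ⊥) ∨
    (pCore 2 G ≤ Subgroup.center G ∧ pCore 3 G ≤ Subgroup.center G ∧ layer G ≠ ⊥) := by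
  have hC := isClosedSet_of_class hD
  obtain ⟨a, ha, b, hb, hab⟩ := hD2
  have hN : ∀ p, ∀ g ∈ pCore p G, ∀ d : G, d⁻¹ * (g * d * g⁻¹) ∈ pCore p G := by
    intro p g hg d
    have h2 := mul_mem ((inferInstance : (pCore p G).Normal).conj_mem g hg d⁻¹) (inv_mem hg)
    convert h2 using 1
    group
  have twoV : ¬ pCore 2 G ≤ Subgroup.center G → ∀ d ∈ D, ∃ v ∈ vSet D d, v ≠ d := by
    intro h d hd
    obtain ⟨g, hg, hne⟩ := exists_pair_of_pCore_not_central hD 2 h hd
    exact ⟨_, mem_vSet_of_mem_pGroup hC (Cores.pCore_isPGroup 2) hd (hC.2 g d hd) (hN 2 g hg d), hne⟩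
  have threeW : ¬ pCore 3 G ≤ Subgroup.center G → ∀ d ∈ D, ∃ w ∈ wSet D d, w ≠ d := by
    intro h d hd
    obtain ⟨g, hg, hne⟩ := exists_pair_of_pCore_not_central hD 3 h hd
    exact ⟨_, mem_wSet_of_mem_pGroup hC (Cores.pCore_isPGroup 3) hd (hC.2 g d hd) (hN 3 g hg d), hne⟩
  by_cases h2 : pCore 2 G ≤ Subgroup.center G
  · by_cases h3 : pCore 3 G ≤ Subgroup.center G
    · refine Or.inr (Or.inr ⟨h2, h3, fun hl => ?_⟩)
      have hF : generalizedFittingSubgroup G ≤ Subgroup.center G := by
        rw [generalizedFittingSubgroup, hl, bot_sup_eq]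
        exact fitting_le_center hD h2 h3
      have hC' : a ∈ Subgroup.centralizer (generalizedFittingSubgroup G : Set G) :=
        Subgroup.mem_centralizer_iff.2 fun x hx => (Subgroup.mem_center_iff.1 (hF hx) a).symm
      exact not_mem_center hD ⟨a, ha, b, hb, hab⟩ ha
        (hF (Components.GenFitting.centralizer_le hC'))
    · refine Or.inr (Or.inl ⟨h2, h3, layer_eq_bot_of_commute_all hD.2.2 fun d hd => ?_⟩)
      obtain ⟨w, hw, hne⟩ := threeW h3 d hd
      exact commute_layer_of_wSet hBS hC hd hw hne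
  · refine Or.inl ⟨h2, ?_, layer_eq_bot_of_commute_all hD.2.2 fun d hd => ?_⟩
    · by_contra h3
      obtain ⟨v, hv, hvd⟩ := twoV h2 a ha
      obtain ⟨w, hw, hwd⟩ := threeW h3 a ha
      have hav : Commute a v := (commute_of_mem_vSet ha hv).symm
      have h4 := ((mem_wSet_iff.1 hw).2 v hv.1).1 ⟨hvd, hav⟩
      have h5 : Commute a w := (hv.2 w hw.1).1 h4.2.symm
      exact not_commute_of_mem_wSet ha hw hwd h5.symm
    · obtain ⟨v, hv, hne⟩ := twoV h2 d hd
      exact commute_layer_of_vSet hC hd hv hne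

end Cfsg.Agent.Lib.ThreeTranspositions
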