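import Mathlib

/-!
The quotient by the 2-core of a 3-transposition group of 2,3,2 type, from its operators on the core.
-/

set_option autoImplicit false

open scoped commutatorElement

namespace Cfsg.Agent.Lib.ThreeTranspositions.TwoThreeTwo

/-- Two finite groups of equal order with a small common cover are isomorphic. -/
theorem graph_iso {A B : Type*} [Group A] [Group B] [Finite A] [Finite B] (K : Subgroup (A × B))
    (hA : ∀ a : A, ∃ b, (a, b) ∈ K) (hB : ∀ b : B, ∃ a, (a, b) ∈ K)
    (hK : Nat.card K ≤ Nat.card A) (hAB : Nat.card A = Nat.card B) : Nonempty (A ≃* B) := by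
  let f : K →* A := (MonoidHom.fst A B).comp K.subtype
  let g : K →* B := (MonoidHom.snd A B).comp K.subtype
  have hf : Function.Surjective f := fun a => by
    obtain ⟨b, hb⟩ := hA a; exact ⟨⟨(a, b), hb⟩, rfl⟩
  have hg : Function.Surjective g := fun b => by
    obtain ⟨a, ha⟩ := hB b; exact ⟨⟨(a, b), ha⟩, rfl⟩
  have h1 := Nat.card_le_card_of_surjective f hf
  have bf : Function.Bijective f := (Nat.bijective_iff_surjective_and_card _).2 ⟨hf, by omega⟩
  have bg : Function.Bijective g := (Nat.bijective_iff_surjective_and_card _).2 ⟨hg, by omega⟩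
  exact ⟨(MulEquiv.ofBijective f bf).symm.trans (MulEquiv.ofBijective g bg)⟩

/-- In a finite `p`-group a proper inclusion multiplies the order by at least `p`. -/
theorem mul_card_le_of_lt {G : Type*} [Group G] [Finite G] {p : ℕ} [Fact p.Prime] {A B : Subgroup G}
    (hB : IsPGroup p B) (h : A < B) : p * Nat.card A ≤ Nat.card B := by
  obtain ⟨n, hn⟩ := hB.exists_card_eq
  obtain ⟨m, hm, hA⟩ := (Nat.dvd_prime_pow Fact.out).1 (hn ▸ Subgroup.card_dvd_of_le h.le)
  rw [hA, hn, ← pow_succ']
  refine Nat.pow_le_pow_right (Fact.out : p.Prime).pos ?_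
  rcases hm.lt_or_eq with hlt | rfl
  · exact hlt
  · exact absurd (Subgroup.eq_of_le_of_card_ge h.le (by omega)) h.ne

section Ring

variable {R : Type*} [Ring R]

/-- The norm of an element. -/
def nrm (X : R) : R := 1 + X + X * X

/-- Two elements commuting up to the factor `W`, with four norms killed, kill `W`. -/
theorem kill (h2 : ∀ x : R, x + x = 0) {D X Y U U' W : R}
    (hU : U * W = X * Y * W) (hU2 : U * U * W = X * X * (Y * Y) * W)
    (hU' : U' * W = X * (Y * Y) * W) (hU'2 : U' * U' * W = X * X * Y * W)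
    (dX : D * nrm X = 0) (dY : D * nrm Y = 0) (dU : D * nrm U = 0) (dU' : D * nrm U' = 0) :
    D * W = 0 := by
  set S : R := X * W + X * X * W + Y * W + Y * Y * W + X * Y * W + X * X * (Y * Y) * W +
    X * (Y * Y) * W + X * X * Y * W with hS
  have e : nrm X * W + nrm Y * W + nrm U * W + nrm U' * W + nrm X * nrm Y * W = W + ((W + W) + (W + W) + (S + S)) := by
    simp only [nrm, add_mul, mul_add, one_mul, mul_one, hU, hU2, hU', hU'2, hS, ← mul_assoc]
    abel
  simp only [h2, add_zero] at e
  rw [← e]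
  simp only [mul_add, ← mul_assoc, dX, dY, dU, dU', zero_mul, add_zero]

end Ring

/-- The setting: the quotient by the 2-core with its operators on the core. -/
structure Data (Q R : Type*) [Group Q] [Finite Q] [Ring R] where
  P : Subgroup Q
  normal : P.Normal
  isP : IsPGroup 3 P
  d : Q
  dd : d * d = 1
  not_mem : d ∉ P
  mem_or : ∀ g : Q, g ∈ P ∨ d * g ∈ P
  cube : ∀ g h : Q, (g * d * g⁻¹ * (h * d * h⁻¹)) ^ 3 = 1
  gen : ∀ K : Subgroup Q, (∀ g : Q, g * d * g⁻¹ ∈ K) → K = ⊤
  core : ∀ K : Subgroup Q, K.Normal → IsPGroup 2 K → K = ⊥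
  σ : Q →* R
  two : ∀ x : R, x + x = 0
  d_ne : σ d + 1 ≠ 0
  killed : ∀ p : Q, p ∈ P → d * p * d = p⁻¹ → p ≠ 1 → (σ d + 1) * nrm (σ p) = 0

variable {Q R : Type*} [Group Q] [Finite Q] [Ring R] (S : Data Q R)

namespace Data

theorem inv_d : S.d⁻¹ = S.d := inv_eq_of_mul_eq_one_right S.dd

/-- Inverted elements of the odd part. -/
def Inv (p : Q) : Prop := p ∈ S.P ∧ S.d * p * S.d = p⁻¹

theorem inv_conj {p q : Q} (hp : S.Inv p) (hq : S.Inv q) : S.Inv (p * q * p) := by
  refine ⟨S.P.mul_mem (S.P.mul_mem hp.1 hq.1) hp.1, ?_⟩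
  calc S.d * (p * q * p) * S.d = (S.d * p * S.d) * (S.d * q * S.d) * (S.d * p * S.d) := by
        simp only [mul_assoc]; simp only [← mul_assoc S.d S.d, S.dd, one_mul]
    _ = _ := by rw [hp.2, hq.2]; simp only [mul_inv_rev, mul_assoc]

theorem inv_sq {p : Q} (hp : S.Inv p) : S.Inv (p * p) := by
  refine ⟨S.P.mul_mem hp.1 hp.1, ?_⟩
  calc S.d * (p * p) * S.d = (S.d * p * S.d) * (S.d * p * S.d) := by
        simp only [mul_assoc]; simp only [← mul_assoc S.d S.d, S.dd, one_mul]
    _ = _ := by rw [hp.2, mul_inv_rev]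

theorem inv_mul_comm {p q : Q} (hp : S.Inv p) (hq : S.Inv q) (h : Commute p q) : S.Inv (p * q) := by
  refine ⟨S.P.mul_mem hp.1 hq.1, ?_⟩
  calc S.d * (p * q) * S.d = (S.d * p * S.d) * (S.d * q * S.d) := by
        simp only [mul_assoc]; simp only [← mul_assoc S.d S.d, S.dd, one_mul]
    _ = _ := by rw [hp.2, hq.2, ← mul_inv_rev, h.eq]

/-- An inverted element is a quotient of two members. -/
theorem exists_member {p : Q} (hp : S.Inv p) : ∃ g : Q, g * S.d * g⁻¹ = S.d * p := by
  haveI : Fact (Nat.Prime 3) := ⟨Nat.prime_three⟩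
  obtain ⟨k, hk⟩ := S.isP ⟨p, hp.1⟩
  have hk' : p ^ 3 ^ k = 1 := congrArg Subtype.val hk
  obtain ⟨m, hm⟩ : Odd (3 ^ k) := Odd.pow (by decide)
  set q := p ^ (m + 1) with hq
  have hqq : q * q = p := by
    rw [hq, ← pow_add, show m + 1 + (m + 1) = 3 ^ k + 1 by omega, pow_succ, hk', one_mul]
  have hd : S.d * q * S.d = q⁻¹ := by
    have : SemiconjBy S.d p p⁻¹ := by
      show S.d * p = p⁻¹ * S.d
      rw [← hp.2, mul_assoc (S.d * p), S.dd, mul_one]
    rw [hq, (this.pow_right (m + 1)).eq, mul_assoc, S.dd, mul_one, inv_pow]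
  refine ⟨q⁻¹, ?_⟩
  rw [inv_inv, ← hqq, ← hd]
  simp only [mul_assoc]
  rw [← mul_assoc S.d S.d, S.dd, one_mul]

theorem inv_cube {p : Q} (hp : S.Inv p) : p ^ 3 = 1 := by
  obtain ⟨g, hg⟩ := S.exists_member hp
  have h := S.cube 1 g
  rw [one_mul, inv_one, mul_one, hg, ← mul_assoc, S.dd, one_mul] at h
  exact h

theorem mul_mul_self_eq {p : Q} (hp : S.Inv p) : p * p = p⁻¹ :=
  eq_inv_of_mul_eq_one_left (by rw [← pow_two, ← pow_succ, S.inv_cube hp])

/-- Two commuting inverted elements span one line. -/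
theorem not_indep {p q : Q} (h : Commute p q) (h3 : q ^ 3 = 1)
    (dp : (S.σ S.d + 1) * nrm (S.σ p) = 0) (dq : (S.σ S.d + 1) * nrm (S.σ q) = 0)
    (dpq : (S.σ S.d + 1) * nrm (S.σ (p * q)) = 0)
    (dpq' : (S.σ S.d + 1) * nrm (S.σ (p * (q * q))) = 0) : False := by
  refine S.d_ne ?_
  have q4 : q * q * (q * q) = q := by
    calc q * q * (q * q) = q ^ 3 * q := by simp only [pow_succ, pow_zero, one_mul, mul_assoc]
      _ = q := by rw [h3, one_mul]
  have := kill (W := (1 : R)) (X := S.σ p) (Y := S.σ q) S.two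
    (by rw [mul_one, mul_one, map_mul]) (by
      rw [mul_one, mul_one]; simp only [← map_mul]; congr 1
      exact h.symm.mul_mul_mul_comm p q)
    (by rw [mul_one, mul_one]; simp only [← map_mul]) (by
      rw [mul_one, mul_one]; simp only [← map_mul]; congr 1
      rw [(h.symm.mul_left h.symm).mul_mul_mul_comm p (q * q), q4])
    dp dq dpq dpq'
  rwa [mul_one] at this

theorem mem_line {p q : Q} (hp : S.Inv p) (hq : S.Inv q) (h : Commute p q) (hp1 : p ≠ 1) :
    q ∈ Subgroup.zpowers p := by
  by_contra hn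
  have hqq : S.Inv (q * q) := S.inv_sq hq
  have n1 : q ≠ 1 := fun e => hn (e ▸ one_mem _)
  have n2 : p * q ≠ 1 := fun e => hn (by
    rw [eq_inv_of_mul_eq_one_right e]; exact inv_mem (Subgroup.mem_zpowers p))
  have n3 : p * (q * q) ≠ 1 := fun e => hn (by
    rw [S.mul_mul_self_eq hq, mul_inv_eq_one] at e
    rw [← e]; exact Subgroup.mem_zpowers p)
  exact S.not_indep h (S.inv_cube hq) (S.killed p hp.1 hp.2 hp1) (S.killed q hq.1 hq.2 n1)
    (S.killed _ (S.inv_mul_comm hp hq h).1 (S.inv_mul_comm hp hq h).2 n2)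
    (S.killed _ (S.inv_mul_comm hp hqq (h.mul_right h)).1 (S.inv_mul_comm hp hqq (h.mul_right h)).2 n3)

/-- A subgroup with all inverted elements and `d` is everything. -/
theorem eq_top (K : Subgroup Q) (hd : S.d ∈ K) (hI : ∀ p, S.Inv p → p ∈ K) : K = ⊤ := by
  refine S.gen K fun g => ?_
  have hP := S.normal
  set p := S.d * (g * S.d * g⁻¹) with hp
  have hmem : p ∈ S.P := by
    rcases S.mem_or g with h | h
    · have : p = S.d * g * S.d⁻¹ * g⁻¹ := by rw [hp, S.inv_d]; simp only [mul_assoc]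
      rw [this]; exact S.P.mul_mem (hP.conj_mem g h S.d) (S.P.inv_mem h)
    · have : p = (S.d * g) * (S.d * (S.d * g)⁻¹ * S.d⁻¹) := by
        rw [hp, mul_inv_rev, S.inv_d]; simp only [mul_assoc]; rw [S.dd, mul_one]
      rw [this]; exact S.P.mul_mem h (hP.conj_mem _ (S.P.inv_mem h) S.d)
  have : g * S.d * g⁻¹ = S.d * p := by rw [hp, ← mul_assoc, S.dd, one_mul]
  rw [this]
  refine K.mul_mem hd (hI p ⟨hmem, ?_⟩)
  rw [hp, mul_inv_rev, ← mul_assoc S.d S.d, S.dd, one_mul, mul_inv_rev, mul_inv_rev, inv_inv, S.inv_d]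
  simp only [mul_assoc]

theorem exists_inv_ne_one : ∃ p, S.Inv p ∧ p ≠ 1 := by
  by_contra hn
  push Not at hn
  have htop := S.eq_top (Subgroup.zpowers S.d) (Subgroup.mem_zpowers _) fun p hp => by
    rw [hn p hp]; exact one_mem _
  have hbot := S.core (Subgroup.zpowers S.d) (htop ▸ inferInstance) (IsPGroup.of_card (n := 1) (by
    rw [Nat.card_zpowers, pow_one]
    exact orderOf_eq_prime (by rw [pow_two, S.dd]) fun h => S.not_mem (h ▸ S.P.one_mem)))
  exact S.not_mem (by rw [Subgroup.zpowers_eq_bot.1 hbot]; exact S.P.one_mem)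

/-- One central inverted element leaves one line. -/
theorem case_line {a : Q} (ha : S.Inv a) (ha1 : a ≠ 1) (hc : ∀ p ∈ S.P, Commute a p) :
    Nat.card Q = 6 ∧ Subgroup.closure {S.d, S.d * a} = ⊤ := by
  have hI : ∀ p, S.Inv p → p ∈ Subgroup.zpowers a := fun p hp => S.mem_line ha hp (hc p hp.1) ha1
  have hgen : Subgroup.closure {S.d, S.d * a} = ⊤ := by
    refine S.eq_top _ (Subgroup.subset_closure (by simp)) fun p hp =>
      (Subgroup.zpowers_le.2 ?_) (hI p hp)
    have := Subgroup.mul_mem (Subgroup.closure {S.d, S.d * a}) (Subgroup.subset_closure (by simp : S.d ∈ ({S.d, S.d * a} : Set Q)))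
      (Subgroup.subset_closure (by simp : S.d * a ∈ ({S.d, S.d * a} : Set Q)))
    rwa [← mul_assoc, S.dd, one_mul] at this
  refine ⟨?_, hgen⟩
  haveI : Fact (Nat.Prime 3) := ⟨Nat.prime_three⟩
  have hle : Subgroup.zpowers a ≤ S.P := Subgroup.zpowers_le.2 ha.1
  have o : Nat.card (Subgroup.zpowers a) = 3 := by
    rw [Nat.card_zpowers]; exact orderOf_eq_prime (S.inv_cube ha) ha1
  let K : Subgroup Q :=
    { carrier := {g | g ∈ Subgroup.zpowers a ∨ S.d * g ∈ Subgroup.zpowers a}
      one_mem' := Or.inl (one_mem _)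
      mul_mem' := by
        have sw : ∀ x ∈ Subgroup.zpowers a, S.d * x * S.d ∈ Subgroup.zpowers a := by
          rintro _ ⟨n, rfl⟩
          have : SemiconjBy S.d a a⁻¹ := by
            show S.d * a = a⁻¹ * S.d
            rw [← ha.2, mul_assoc (S.d * a), S.dd, mul_one]
          dsimp only
          rw [(this.zpow_right n).eq, mul_assoc, S.dd, mul_one]
          exact zpow_mem (inv_mem (Subgroup.mem_zpowers a)) n
        rintro x y (hx | hx) (hy | hy)
        · exact Or.inl (mul_mem hx hy)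
        · right
          have := mul_mem (sw x hx) hy
          rwa [mul_assoc (S.d * x), ← mul_assoc S.d S.d, S.dd, one_mul, mul_assoc] at this
        · right; rw [← mul_assoc]; exact mul_mem hx hy
        · left
          have := mul_mem (sw _ hx) hy
          rwa [mul_assoc (S.d * (S.d * x)), ← mul_assoc S.d S.d y, S.dd, one_mul, ← mul_assoc S.d S.d x, S.dd, one_mul] at this
      inv_mem' := by
        rintro x (hx | hx)
        · exact Or.inl (inv_mem hx)
        · right
          obtain ⟨n, hn⟩ := hx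
          have hx' : x = S.d * a ^ n := by
            dsimp only at hn; rw [hn, ← mul_assoc, S.dd, one_mul]
          rw [hx', mul_inv_rev, S.inv_d, ← zpow_neg, ← mul_assoc]
          have : SemiconjBy S.d a a⁻¹ := by
            show S.d * a = a⁻¹ * S.d
            rw [← ha.2, mul_assoc (S.d * a), S.dd, mul_one]
          rw [(this.zpow_right (-n)).eq, mul_assoc, S.dd, mul_one]
          exact zpow_mem (inv_mem (Subgroup.mem_zpowers a)) _ }
  have hK := S.eq_top K (Or.inr (by rw [S.dd]; exact one_mem _)) fun p hp => Or.inl (hI p hp)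
  have hmem : ∀ g : Q, g ∈ Subgroup.zpowers a ∨ S.d * g ∈ Subgroup.zpowers a := fun g =>
    (hK ▸ Subgroup.mem_top g : g ∈ K)
  have hbij : Function.Bijective (fun z : Subgroup.zpowers a × Bool => if z.2 then S.d * z.1 else (z.1 : Q)) := by
    constructor
    · rintro ⟨⟨x, hx⟩, bx⟩ ⟨⟨y, hy⟩, cy⟩ h
      cases bx <;> cases cy <;> simp only [Bool.false_eq_true, if_true, if_false] at h
      · subst h; rfl
      · exact absurd ((S.P.mul_mem_cancel_right (hle hy)).1 (h ▸ hle hx)) S.not_mem
      · exact absurd ((S.P.mul_mem_cancel_right (hle hx)).1 (h.symm ▸ hle hy)) S.not_mem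
      · have := mul_left_cancel h; subst this; rfl
    · intro g
      rcases hmem g with h | h
      · exact ⟨(⟨g, h⟩, false), rfl⟩
      · exact ⟨(⟨S.d * g, h⟩, true), by simp [← mul_assoc, S.dd]⟩
  rw [← Nat.card_congr (Equiv.ofBijective _ hbij), Nat.card_prod, o, Nat.card_eq_fintype_card, Fintype.card_bool]

omit [Finite Q] in
/-- Conjugating by an element commuting with a commutator. -/
theorem semiconj_mid {a y w e f : Q} (he : ∀ g, Commute e g) (hf : ∀ g, Commute f g)
    (hy : a * y = e * (y * a)) (hw : a * w = f * (w * a)) :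
    a * (y * w * y) = e * e * f * (y * w * y * a) := by
  calc a * (y * w * y) = e * (y * (a * w) * y) := by rw [← mul_assoc, ← mul_assoc, hy]; simp only [mul_assoc]
    _ = e * (f * (y * w * (a * y))) := by
      rw [hw]; simp only [← mul_assoc]; rw [mul_assoc e y f, ← (hf y).eq]; simp only [mul_assoc]
    _ = e * (f * (e * (y * w * y * a))) := by
      rw [hy]; congr 2; rw [← mul_assoc (y * w), ← (he (y * w)).eq]; simp only [mul_assoc]
    _ = e * e * f * (y * w * y * a) := by
      rw [← mul_assoc f, ← mul_assoc e, ← mul_assoc e f, ← mul_assoc, mul_assoc e f e, (hf e).eq]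
      simp only [mul_assoc]

omit [Finite Q] in
/-- Squaring under a central commutator. -/
theorem semiconj_sq {a y e : Q} (he : ∀ g, Commute e g) (h : a * y = e * (y * a)) :
    a * (y * y) = e * e * (y * y * a) := by
  have s : SemiconjBy a y (e * y) := by
    show a * y = e * y * a; rw [h, mul_assoc]
  rw [(s.mul_right s).eq, (he y).symm.mul_mul_mul_comm, mul_assoc]

/-- The norm of a central commutator is killed. -/
theorem killed_comm {a u e : Q} (ha : S.Inv a) (hu : S.Inv u) (he : ∀ g, Commute e g)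
    (hau : a * u = e * (u * a)) (he1 : e ≠ 1) :
    e ^ 3 = 1 ∧ (S.σ S.d + 1) * nrm (S.σ e) = 0 := by
  have s3 : SemiconjBy a u (e * u) := by
    show a * u = e * u * a; rw [hau, mul_assoc]
  have e3 : e ^ 3 = 1 := by
    have h := s3.pow_right 3
    rw [S.inv_cube hu, (he u).mul_pow, S.inv_cube hu, mul_one] at h
    have h' : a * 1 = e ^ 3 * a := h
    rw [mul_one] at h'
    exact mul_eq_right.1 h'.symm
  refine ⟨e3, ?_⟩
  have hne : ¬ Commute a u := fun h => he1 (mul_eq_right.1 (hau.symm.trans h.eq))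
  have a1 : a ≠ 1 := fun h => hne (h ▸ Commute.one_left u)
  have u1 : u ≠ 1 := fun h => hne (h ▸ Commute.one_right a)
  set Z := S.σ e
  have eee : e * (e * e) = 1 := by rw [← e3, pow_three]
  have hW : Z * nrm Z = nrm Z := by
    have : Z * (Z * Z) = 1 := by rw [← map_mul, ← map_mul, eee, map_one]
    simp only [nrm, mul_add, mul_one, this]
    abel
  have hcom : ∀ g, S.σ g * nrm Z = nrm Z * S.σ g := by
    intro g
    have h1 : S.σ g * Z = Z * S.σ g := by rw [← map_mul, ← map_mul, (he g).eq]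
    simp only [nrm, mul_add, add_mul, mul_one, one_mul, ← mul_assoc, h1]
    rw [mul_assoc Z (S.σ g), h1, ← mul_assoc]
  have uu : u * u = u⁻¹ := S.mul_mul_self_eq hu
  -- `u' a u'` and `u a u`
  have i1 : S.Inv (u * u * a * (u * u)) := S.inv_conj (S.inv_sq hu) ha
  have i2 : S.Inv (u * a * u) := S.inv_conj hu ha
  have n1 : u * u * a * (u * u) ≠ 1 := by
    rw [uu]; intro h
    apply hne
    rw [mul_inv_eq_one, inv_mul_eq_iff_eq_mul] at h
    rw [h]; exact (Commute.refl u).mul_left (Commute.refl u)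
  have n2 : u * a * u ≠ 1 := by
    intro h
    apply hne
    have : a = u⁻¹ * u⁻¹ := by
      calc a = u⁻¹ * (u * a * u) * u⁻¹ := by group
        _ = u⁻¹ * u⁻¹ := by rw [h, mul_one]
    rw [this]; exact (Commute.refl u).inv_left.mul_left (Commute.refl u).inv_left
  have abs : ∀ g, S.σ (e * g) * nrm Z = S.σ g * nrm Z := fun g => by
    rw [map_mul, mul_assoc, hcom, ← mul_assoc, hW]
  -- moving the central factor to the left, then `a`
  have swap : ∀ g, u * (a * g) = e * (e * (a * (u * g))) := fun g => by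
    rw [← mul_assoc a u g, hau]
    simp only [← mul_assoc]
    rw [mul_assoc e e e, eee, one_mul]
  have swap1 : u * a = e * (e * (a * u)) := by
    have := swap 1
    simpa only [mul_one] using this
  have mv : ∀ x g, x * (e * g) = e * (x * g) := fun x g => by
    rw [← mul_assoc, ← (he x).eq, mul_assoc]
  have ae : ∀ g, a * (e * g) = e * (a * g) := mv a
  have ue : ∀ g, u * (e * g) = e * (u * g) := mv u
  have uuu : u * (u * u) = 1 := by rw [← pow_three, S.inv_cube hu]
  have uuu' : ∀ g, u * (u * (u * g)) = g := fun g => by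
    rw [← mul_assoc u u g, ← mul_assoc, uuu, one_mul]
  refine kill S.two ?_ ?_ ?_ ?_
    (S.killed a ha.1 ha.2 a1) (S.killed u hu.1 hu.2 u1)
    (S.killed _ i1.1 i1.2 n1) (S.killed _ i2.1 i2.2 n2)
  all_goals
    simp only [← map_mul]
    simp only [mul_assoc, swap, swap1, ae, ue, uuu, mul_one]
    simp only [abs]

/-- No central inverted element leaves a group of order 54 on three members. -/
theorem case_plane (hno : ∀ p, S.Inv p → (∀ q ∈ S.P, Commute p q) → p = 1) :
    54 ≤ Nat.card Q ∧ ∃ a y, S.Inv a ∧ S.Inv y ∧ Subgroup.closure {S.d, S.d * a, S.d * y} = ⊤ := by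
  haveI : Fact (Nat.Prime 3) := ⟨Nat.prime_three⟩
  haveI hP := S.normal
  obtain ⟨b, hb, hb1⟩ := S.exists_inv_ne_one
  -- the second centre
  set Z2 : Subgroup Q := (Subgroup.upperCentralSeries S.P 2).map S.P.subtype with hZ2
  haveI : Z2.Normal := ConjAct.normal_of_characteristic_of_normal
  have hZc : ∀ z : S.P, z ∈ Subgroup.center S.P → ∀ g : Q, Commute (z : Q) g := by
    intro z hz g
    have hcomm : ∀ q ∈ S.P, Commute (z : Q) q := fun q hq =>
      (congrArg Subtype.val (Subgroup.mem_center_iff.1 hz ⟨q, hq⟩)).symm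
    have h1 : Commute (z : Q) S.d := by
      have hw : S.Inv ((z : Q)⁻¹ * (S.d * z * S.d)) := by
        have hm : S.d * z * S.d ∈ S.P := by
          have := hP.conj_mem (z : Q) z.2 S.d; rwa [S.inv_d] at this
        have hi : S.d * (z : Q)⁻¹ * S.d = (S.d * z * S.d)⁻¹ := by
          simp only [mul_inv_rev, S.inv_d, mul_assoc]
        refine ⟨S.P.mul_mem (S.P.inv_mem z.2) hm, ?_⟩
        rw [mul_inv_rev, inv_inv]
        simp only [mul_inv_rev, S.inv_d, mul_assoc, S.dd, mul_one]
      have hw1 : (z : Q)⁻¹ * (S.d * z * S.d) = 1 := hno _ hw fun q hq => by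
        have hd2 : Commute (S.d * (z : Q) * S.d) q := by
          have hq' : S.d * q * S.d ∈ S.P := by
            have := hP.conj_mem q hq S.d; rwa [S.inv_d] at this
          show S.d * (z : Q) * S.d * q = q * (S.d * z * S.d)
          calc S.d * (z : Q) * S.d * q = S.d * (z * (S.d * q * S.d)) * S.d := by
                simp only [mul_assoc]; rw [S.dd, mul_one]
            _ = S.d * ((S.d * q * S.d) * z) * S.d := by rw [(hcomm _ hq').eq]
            _ = q * (S.d * z * S.d) := by simp only [← mul_assoc]; rw [S.dd, one_mul]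
        exact (hcomm q hq).inv_left.mul_left hd2
      rw [inv_mul_eq_one] at hw1
      show (z : Q) * S.d = S.d * z
      nth_rw 1 [hw1]
      rw [mul_assoc, S.dd, mul_one]
    rcases S.mem_or g with hg | hg
    · exact hcomm g hg
    · have := h1.mul_right (hcomm _ hg)
      rwa [← mul_assoc, S.dd, one_mul] at this
  have hcom2 : ∀ v ∈ Z2, ∀ p ∈ S.P, ∀ g : Q, Commute (v * p * v⁻¹ * p⁻¹) g := by
    rintro _ ⟨v, hv, rfl⟩ p hp g
    have h := Subgroup.mem_upperCentralSeries_succ_iff.1 hv ⟨p, hp⟩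
    rw [Subgroup.upperCentralSeries_one] at h
    have := hZc _ h g
    simpa [commutatorElement_def] using this
  have hex : ∃ a, S.Inv a ∧ a ∈ Z2 ∧ a ≠ 1 := by
    by_contra hn
    push Not at hn
    have hfix : ∀ v ∈ Z2, Commute v S.d := by
      intro v hv
      have hm : S.d * v * S.d ∈ Z2 := by
        have := Subgroup.Normal.conj_mem inferInstance v hv S.d
        rwa [S.inv_d] at this
      have hle : Z2 ≤ S.P := Subgroup.map_subtype_le _
      have hi : S.Inv (v⁻¹ * (S.d * v * S.d)) := by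
        refine ⟨S.P.mul_mem (S.P.inv_mem (hle hv)) (hle hm), ?_⟩
        simp only [mul_inv_rev, inv_inv, S.inv_d, mul_assoc, S.dd, mul_one]
      have h1 := hn _ hi (Z2.mul_mem (Z2.inv_mem hv) hm)
      rw [inv_mul_eq_one] at h1
      show v * S.d = S.d * v
      nth_rw 1 [h1]
      rw [mul_assoc, S.dd, mul_one]
    have hcent : ∀ v ∈ Z2, ∀ g : Q, Commute v g := by
      intro v hv
      let C : Subgroup Q := Subgroup.centralizer {v}
      have hC : C = ⊤ := S.gen C fun g => by
        have h1 := hfix _ (Subgroup.Normal.conj_mem inferInstance v hv g⁻¹)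
        refine Subgroup.mem_centralizer_singleton_iff.2 ?_
        have h2 : v = g * (g⁻¹ * v * g⁻¹⁻¹) * g⁻¹ := by group
        rw [h2]
        exact ((Commute.conj_iff g).2 h1).symm.eq
      intro g
      have hg : g ∈ C := hC ▸ Subgroup.mem_top g
      exact (Subgroup.mem_centralizer_singleton_iff.1 hg).symm
    -- a noncentral element of the second centre exists
    have hne : Subgroup.center S.P ≠ ⊤ := by
      intro htop
      refine hb1 (hno b hb fun q hq => ?_)
      have := Subgroup.mem_center_iff.1 (htop ▸ Subgroup.mem_top (⟨q, hq⟩ : S.P)) ⟨b, hb.1⟩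
      exact congrArg Subtype.val this
    haveI : Nontrivial (S.P ⧸ Subgroup.center S.P) := by
      by_contra h
      rw [not_nontrivial_iff_subsingleton, QuotientGroup.subsingleton_iff] at h
      exact hne h
    haveI := (S.isP.to_quotient (Subgroup.center S.P)).center_nontrivial
    obtain ⟨⟨q, hq⟩, hq1⟩ := exists_ne (1 : Subgroup.center (S.P ⧸ Subgroup.center S.P))
    obtain ⟨v, rfl⟩ := QuotientGroup.mk'_surjective (Subgroup.center S.P) q
    have hv : (v : Q) ∈ Z2 := ⟨v, Subgroup.mem_upperCentralSeries_succ_iff.2 fun y => by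
      rw [Subgroup.upperCentralSeries_one, ← QuotientGroup.eq_one_iff]
      show QuotientGroup.mk' _ ⁅v, y⁆ = 1
      rw [map_commutatorElement, commutatorElement_eq_one_iff_commute]
      exact (Subgroup.mem_center_iff.1 hq _).symm, rfl⟩
    apply hq1
    refine Subtype.ext ((QuotientGroup.eq_one_iff v).2 ?_)
    exact Subgroup.mem_center_iff.2 fun y => Subtype.ext (hcent _ hv y).symm.eq
  obtain ⟨a, ha, haZ, ha1⟩ := hex
  have hcc : ∀ w, S.Inv w → ∃ e : Q, (∀ g, Commute e g) ∧ a * w = e * (w * a) ∧ e ∈ S.P := fun w hw =>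
    ⟨a * w * a⁻¹ * w⁻¹, hcom2 a haZ w hw.1, by group,
      S.P.mul_mem (S.P.mul_mem (S.P.mul_mem ha.1 hw.1) (S.P.inv_mem ha.1)) (S.P.inv_mem hw.1)⟩
  have hy : ∃ y, S.Inv y ∧ ¬ Commute a y := by
    by_contra hn
    push Not at hn
    refine ha1 (hno a ha fun q _ => ?_)
    have hI : ∀ p, S.Inv p → p ∈ Subgroup.zpowers a := fun p hp => S.mem_line ha hp (hn p hp) ha1
    have htop' := S.eq_top (Subgroup.zpowers S.d ⊔ Subgroup.zpowers a)
      (Subgroup.mem_sup_left (Subgroup.mem_zpowers _)) fun p hp => Subgroup.mem_sup_right (hI p hp)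
    haveI : (Subgroup.zpowers a).Normal := by
      rw [← Subgroup.normalizer_eq_top_iff, eq_top_iff, ← htop']
      refine sup_le (Subgroup.zpowers_le.2 ?_) Subgroup.le_normalizer
      refine Subgroup.mem_normalizer_iff.2 fun h => ?_
      have sd : SemiconjBy S.d a a⁻¹ := by
        show S.d * a = a⁻¹ * S.d
        rw [← ha.2, mul_assoc (S.d * a), S.dd, mul_one]
      have fwd : ∀ x ∈ Subgroup.zpowers a, S.d * x * S.d⁻¹ ∈ Subgroup.zpowers a := by
        rintro _ ⟨n, rfl⟩
        dsimp only
        rw [(sd.zpow_right n).eq, mul_assoc, mul_inv_cancel, mul_one]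
        exact zpow_mem (inv_mem (Subgroup.mem_zpowers a)) n
      refine ⟨fwd h, fun hh => ?_⟩
      have := fwd _ hh
      rwa [S.inv_d, ← mul_assoc, ← mul_assoc, S.dd, one_mul, mul_assoc, S.dd, mul_one] at this
    obtain ⟨x, hx, z, hz, rfl⟩ := Subgroup.mem_sup_of_normal_right.1 (htop'.ge (Subgroup.mem_top q))
    obtain ⟨n, rfl⟩ := hz
    obtain ⟨m, rfl⟩ := hx
    rename_i hqP
    dsimp only at hqP ⊢
    have hd : S.d ^ m ∈ S.P := by
      have h1 := S.P.mul_mem hqP (S.P.inv_mem (S.P.zpow_mem ha.1 n))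
      rwa [mul_inv_cancel_right] at h1
    rcases Int.even_or_odd m with ⟨k, rfl⟩ | ⟨k, rfl⟩
    · rw [zpow_add, ← (Commute.refl S.d).mul_zpow, S.dd, one_zpow, one_mul]
      exact (Commute.refl a).zpow_right n
    · exfalso
      rw [zpow_add_one, zpow_mul, zpow_ofNat, pow_two, S.dd, one_zpow, one_mul] at hd
      exact S.not_mem hd
  obtain ⟨y, hy, hay⟩ := hy
  obtain ⟨c, hc, hcy, hcP⟩ := hcc y hy
  have hc1 : c ≠ 1 := fun h => hay (by rw [Commute, SemiconjBy, hcy, h, one_mul])
  obtain ⟨c3, dc⟩ := S.killed_comm ha hy hc hcy hc1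
  set K := Subgroup.closure {S.d, S.d * a, S.d * y}
  have hdK : S.d ∈ K := Subgroup.subset_closure (by simp)
  have mK : ∀ x, S.d * x ∈ ({S.d, S.d * a, S.d * y} : Set Q) → x ∈ K := fun x h => by
    have := K.mul_mem hdK (Subgroup.subset_closure h)
    rwa [← mul_assoc, S.dd, one_mul] at this
  have haK : a ∈ K := mK a (by simp)
  have hyK : y ∈ K := mK y (by simp)
  have hgen : K = ⊤ := by
    refine S.eq_top K hdK fun w hw => ?_
    obtain ⟨c', hc', hcw, -⟩ := hcc w hw
    by_cases h1 : c' = 1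
    · exact (Subgroup.zpowers_le.2 haK) (S.mem_line ha hw
        (by rw [Commute, SemiconjBy, hcw, h1, one_mul]) ha1)
    -- the value of the pairing lies on the line of `c`
    have hval : c' = c ∨ c' = c * c := by
      by_contra hn
      push Not at hn
      obtain ⟨c'3, dc'⟩ := S.killed_comm ha hw hc' hcw h1
      have yy : a * (y * y) = c * c * (y * y * a) := semiconj_sq hc hcy
      have ww : a * (w * w) = c' * c' * (w * w * a) := semiconj_sq hc' hcw
      have cc : ∀ g, Commute (c * c) g := fun g => (hc g).mul_left (hc g)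
      have cc' : ∀ g, Commute (c' * c') g := fun g => (hc' g).mul_left (hc' g)
      have c4 : c * c * (c * c) = c := by
        calc c * c * (c * c) = c ^ 3 * c := by simp only [pow_succ, pow_zero, one_mul, mul_assoc]
          _ = c := by rw [c3, one_mul]
      have cinv : c⁻¹ = c * c := inv_eq_of_mul_eq_one_right (by rw [← c3, pow_three])
      have c'4 : c' * c' * (c' * c') = c' := by
        calc c' * c' * (c' * c') = c' ^ 3 * c' := by simp only [pow_succ, pow_zero, one_mul, mul_assoc]
          _ = c' := by rw [c'3, one_mul]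
      have k1 := semiconj_mid cc hc' yy hcw
      have k2 := semiconj_mid cc cc' yy ww
      rw [c4] at k1 k2
      have n1 : c * c' ≠ 1 := fun h => hn.2 (by rw [eq_inv_of_mul_eq_one_right h, cinv])
      have n2 : c * (c' * c') ≠ 1 := fun h => hn.1 (by
        have : c'⁻¹ = c' * c' := inv_eq_of_mul_eq_one_right (by rw [← c'3, pow_three])
        rw [← this, mul_inv_eq_one] at h; exact h.symm)
      exact S.not_indep (hc c') c'3 dc dc'
        (S.killed_comm ha (S.inv_conj (S.inv_sq hy) hw) (fun g => (hc g).mul_left (hc' g)) k1 n1).2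
        (S.killed_comm ha (S.inv_conj (S.inv_sq hy) (S.inv_sq hw)) (fun g => (hc g).mul_left (cc' g)) k2 n2).2
    rcases hval with h | h
    · -- pairing value `c`
      have k := semiconj_mid hc hc' hcy hcw
      rw [h, mul_assoc c c c, ← pow_three, c3, one_mul] at k
      have := (Subgroup.zpowers_le.2 haK) (S.mem_line ha (S.inv_conj hy hw) k ha1)
      have h2 := K.mul_mem (K.mul_mem (K.inv_mem hyK) this) (K.inv_mem hyK)
      rwa [mul_assoc y w y, inv_mul_cancel_left, mul_inv_cancel_right] at h2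
    · -- pairing value `c * c`
      have yy : a * (y * y) = c * c * (y * y * a) := semiconj_sq hc hcy
      have k := semiconj_mid (fun g => (hc g).mul_left (hc g)) hc' yy hcw
      have c6 : c * c * (c * c) * (c * c) = 1 := by
        calc c * c * (c * c) * (c * c) = c ^ 3 * c ^ 3 := by simp only [pow_succ, pow_zero, one_mul, mul_assoc]
          _ = 1 := by rw [c3, one_mul]
      rw [h, c6, one_mul] at k
      have := (Subgroup.zpowers_le.2 haK) (S.mem_line ha (S.inv_conj (S.inv_sq hy) hw) k ha1)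
      have hy2 := K.mul_mem hyK hyK
      have h2 := K.mul_mem (K.mul_mem (K.inv_mem hy2) this) (K.inv_mem hy2)
      rwa [mul_assoc (y * y) w, inv_mul_cancel_left, mul_inv_cancel_right] at h2
  refine ⟨?_, a, y, ha, hy, hgen⟩
  -- the order
  set A₁ := Subgroup.zpowers c with hA₁
  set A₂ := Subgroup.closure ({c, a} : Set Q) with hA₂
  have hA₂P : A₂ ≤ S.P := (Subgroup.closure_le _).2 (by rintro x (rfl | rfl); exacts [hcP, ha.1])
  have o : Nat.card A₁ = 3 := by rw [Nat.card_zpowers]; exact orderOf_eq_prime c3 hc1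
  have l1 : A₁ < A₂ := by
    refine lt_of_le_of_ne (Subgroup.zpowers_le.2 (Subgroup.subset_closure (by simp))) fun h => hay ?_
    obtain ⟨n, hn⟩ : a ∈ A₁ := h ▸ Subgroup.subset_closure (by simp)
    rw [← hn]; exact (hc y).zpow_left n
  have l2 : A₂ < S.P := by
    refine lt_of_le_of_ne hA₂P fun h => hay ?_
    have : A₂ ≤ Subgroup.centralizer {a} := (Subgroup.closure_le _).2 (by
      rintro x (rfl | rfl)
      · exact Subgroup.mem_centralizer_singleton_iff.2 (hc a).eq
      · exact Subgroup.mem_centralizer_singleton_iff.2 rfl)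
    exact (Subgroup.mem_centralizer_singleton_iff.1 (this (h.symm ▸ hy.1))).symm
  have b1 := mul_card_le_of_lt (p := 3) (S.isP.to_le hA₂P) l1
  have b2 := mul_card_le_of_lt (p := 3) S.isP l2
  have b3 : Nat.card (S.P × Bool) ≤ Nat.card Q := by
    refine Nat.card_le_card_of_injective (fun z => if z.2 then S.d * z.1 else (z.1 : Q)) ?_
    rintro ⟨⟨x, hx⟩, bx⟩ ⟨⟨y, hy⟩, cy⟩ h
    cases bx <;> cases cy <;> simp only [Bool.false_eq_true, if_true, if_false] at h
    · subst h; rfl
    · exact absurd ((S.P.mul_mem_cancel_right hy).1 (h ▸ hx)) S.not_mem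
    · exact absurd ((S.P.mul_mem_cancel_right hx).1 (h.symm ▸ hy)) S.not_mem
    · have := mul_left_cancel h; subst this; rfl
  rw [Nat.card_prod, Nat.card_eq_fintype_card (α := Bool), Fintype.card_bool] at b3
  omega

end Data

end Cfsg.Agent.Lib.ThreeTranspositions.TwoThreeTwo
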