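import Cfsg.Agent.Lib.ThreeTranspositions.UniqueOp

/-!
A group with trivial centre whose self-centralising 2-core is elementary abelian has only one
generating class of 3-transpositions.
-/

set_option autoImplicit false

namespace Cfsg.Agent.Lib.ThreeTranspositions.UniqueClass

open Cfsg Cfsg.Agent.Lib.ThreeTranspositions UniqueRing UniqueOp

attribute [local instance] commGroupV

variable {G : Type*} [Group G] [Finite G] {V : Subgroup G} [V.Normal] [IsMulCommutative V]
  (hV : Base V) {D E : Set G} (hD : IsThreeTranspositionClass D) (hE : IsThreeTranspositionClass E)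

local notation "ρ" => op (V := V)
local notation "ν" => nop (V := V)

include hV

theorem rad_eq_ops (A B : Op V) : 1 + (1 + A) * (1 + B) + (1 + B) * (1 + A) = rad A B := by
  have ee : 1 + (1 + A) * (1 + B) + (1 + B) * (1 + A) =
      rad A B + ((1 + 1) + (A + A) + (B + B)) := by
    simp only [rad, add_mul, mul_add, one_mul, mul_one]; abel
  rw [ee]; simp only [two hV, add_zero]

include hD hE

theorem op_conj_e {e : G} (he : e ∈ E) (d : G) : ν (e * d * e) = ρ e * ν d * ρ e :=
  nop_conj hV (mul_self' hV hE he) d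

/-- If `d` commutes with its image under `e`, both have the same operator. -/
theorem op_image_eq {e d : G} (he : e ∈ E) (hd : d ∈ D) (hf : e * d * e ∈ D)
    (h0 : ν d * ν (e * d * e) = 0) : ρ (e * d * e) = ρ d := by
  have hdd := mul_self' hV hD hd
  have hee := mul_self' hV hE he
  have he' : d * e * d ∈ E := by
    have := class_conj_mem hE d he
    rwa [inv_eq hD.1 hd] at this
  have hcom : Commute e (d * e * d) := by
    refine commute_of_sq_eq_one hee (mul_self' hV hE he') ?_
    rw [show e * (d * e * d) = (e * d * e) * d by simp only [mul_assoc]]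
    exact sq_eq_one_of_commute (mul_self' hV hD hf) hdd ((commute_iff hV hD hd hf).2 h0).symm
  have hN := nop_mul_of_commute hV hE he he' hcom
  rw [nop_conj hV hdd e] at hN
  set X := ν d with hX
  set N := ν e with hNdef
  set ε := ρ e with hε
  have hXX : X * X = 0 := nop_sq hV hdd
  have hNN : N * N = 0 := nop_sq hV hee
  have hεε : ε * ε = 1 := op_sq hV hee
  have hNXN : N * X * N = 0 := by
    have h1 : N * ρ d * N = 0 := by
      calc N * ρ d * N = N * (ρ d * N * ρ d) * ρ d := by
            simp only [mul_assoc]; rw [op_sq hV hdd, mul_one]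
        _ = 0 := by rw [hN, zero_mul]
    rw [op_eq_add hV (g := d), mul_add, mul_one, add_mul, hNN, zero_add] at h1
    exact h1
  have hF : ν (e * d * e) = ε * X * ε := op_conj_e hV hD hE he d
  set F := ν (e * d * e) with hFdef
  have hT : ε * (X + F) = X + F := by
    have h1 : (ε + 1) * X * (ε + 1) = 0 := hNXN
    have h2 : ε * X * ε + X * ε + (ε * X + X) = 0 := by
      rw [← h1]; simp only [add_mul, mul_add, one_mul, mul_one]
    refine eq_of_add_eq_zero (two hV) ?_
    rw [mul_add, hF, show ε * (ε * X * ε) = X * ε by rw [← mul_assoc, ← mul_assoc, hεε, one_mul], ← h2]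
    abel
  by_contra hne
  obtain ⟨k, hk, hkF, hkX⟩ : ∃ k ∈ D, ν k * F = 0 ∧ ν k * X ≠ 0 := by
    obtain ⟨k, hk, ⟨h1, h2⟩ | ⟨h1, h2⟩⟩ := exists_separating hV hD hd hf (fun h => hne h.symm)
    · exact ⟨k, hk, h1, h2⟩
    · refine ⟨e * k * e, ?_, ?_, ?_⟩
      · have := class_conj_mem hD e hk
        rwa [inv_eq hE.1 he] at this
      · rw [op_conj_e hV hD hE he k, hF, conj_mul_conj hεε, h1, mul_zero, zero_mul]
      · intro h
        apply h2
        rw [op_conj_e hV hD hE he k, ← hε] at h
        calc ν k * F = ε * (ε * ν k * ε * X) * ε := by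
              rw [hF]; simp only [← mul_assoc, hεε, one_mul]
          _ = 0 := by rw [h, mul_zero, zero_mul]
  have hFK : F * ν k = 0 := orth_symm hV hD hk hf hkF
  have hXKX : X * ν k * X = X := adj_sandwich hV hD hd hk (adj_symm hV hD hk hd hkX)
  have hfix : ε * X = X := by
    have h1 : (X + F) * ν k * X = X := by rw [add_mul, add_mul, hXKX, hFK, zero_mul, add_zero]
    conv_lhs => rw [← h1, ← mul_assoc, ← mul_assoc, hT, h1]
  apply hkX
  calc ν k * X = ν k * F * ε := by
        rw [hF, hfix, mul_assoc (ν k) _ ε, mul_assoc X, hεε, mul_one]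
    _ = 0 := by rw [hkF, zero_mul]

/-- `e` commutes with `d` as operators. -/
def Fixed (V : Subgroup G) [V.Normal] [IsMulCommutative V] (e d : G) : Prop :=
  op (V := V) e * nop d = nop d * op e

/-- `e` moves `d` to an adjacent member. -/
def Moved (V : Subgroup G) [V.Normal] [IsMulCommutative V] (e d : G) : Prop :=
  nop (V := V) d * nop (e * d * e) ≠ 0

omit hV hD hE in
theorem conj_mem_of {e d : G} (hD : IsThreeTranspositionClass D) (hE : IsThreeTranspositionClass E)
    (he : e ∈ E) (hd : d ∈ D) : e * d * e ∈ D := by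
  have := class_conj_mem hD e hd
  rwa [inv_eq hE.1 he] at this

theorem fixed_or_moved {e d : G} (he : e ∈ E) (hd : d ∈ D) : Fixed V e d ∨ Moved V e d := by
  by_cases h : ν d * ν (e * d * e) = 0
  · left
    have hF := op_conj_e hV hD hE he d
    rw [(nop_eq_iff hV).2 (op_image_eq hV hD hE he hd (conj_mem_of hD hE he hd) h)] at hF
    show ρ e * ν d = ν d * ρ e
    conv_rhs => rw [hF]
    rw [mul_assoc, mul_assoc, op_sq hV (mul_self' hV hE he), mul_one]
  · exact Or.inr h

theorem not_fixed_of_moved {e d : G} (he : e ∈ E) (hd : d ∈ D) (hm : Moved V e d) : ¬ Fixed V e d := by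
  intro hf
  apply hm
  rw [op_conj_e hV hD hE he d, show ρ e * ν d = ν d * ρ e from hf, mul_assoc (ν d) (ρ e),
    op_sq hV (mul_self' hV hE he), mul_one, nop_sq hV (mul_self' hV hD hd)]

/-- The facts about a moved member. -/
theorem moved_facts {e g : G} (he : e ∈ E) (hg : g ∈ D) (hm : Moved V e g) :
    ν g * ν (e * g * e) * ν g = ν g ∧ ν (e * g * e) * ν g * ν (e * g * e) = ν (e * g * e) ∧
    ρ e * rad (ν g) (ν (e * g * e)) = rad (ν g) (ν (e * g * e)) := by
  have hf := conj_mem_of hD hE he hg
  have hgg := mul_self' hV hD hg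
  have hee := mul_self' hV hE he
  refine ⟨adj_sandwich hV hD hg hf hm, adj_sandwich hV hD hf hg (adj_symm hV hD hg hf hm), ?_⟩
  have he' : g * e * g ∈ E := by
    have := class_conj_mem hE g he
    rwa [inv_eq hD.1 hg] at this
  have hnc : ¬ Commute e (g * e * g) := by
    intro hc
    apply hm
    refine nop_mul_of_commute hV hD hg hf (Commute.symm ?_)
    refine commute_of_sq_eq_one (mul_self' hV hD hf) hgg ?_
    rw [show e * g * e * g = e * (g * e * g) by simp only [mul_assoc]]
    exact sq_eq_one_of_commute hee (mul_self' hV hE he') hc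
  have hs := of_not_commute hV hE he he' hnc
  have h0 := mul_rad_left (two hV) (nop_sq hV hee) hs
  have key : rad (ν e) (ν (g * e * g)) = rad (ν g) (ν (e * g * e)) := by
    rw [← rad_eq_ops hV, ← rad_eq_ops hV (ν g), ← op_eq_add hV, ← op_eq_add hV, ← op_eq_add hV, ← op_eq_add hV]
    simp only [map_mul, mul_assoc]
    abel
  rw [key, nop, add_mul, one_mul] at h0
  exact eq_of_add_eq_zero (two hV) h0

omit hV hD hE in
theorem conj_conj {a : G} (ha : a * a = 1) (x : G) : a * (a * x * a) * a = x := by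
  rw [show a * (a * x * a) * a = a * a * x * (a * a) by simp only [mul_assoc], ha, one_mul, mul_one]

theorem nop_third {a b : G} (ha : a ∈ D) : ν (a * b * a) = third (ν a) (ν b) := by
  rw [nop_conj hV (mul_self' hV hD ha), third, ← op_eq_add hV]

theorem op_third_symm {a b : G} (ha : a ∈ D) (hb : b ∈ D) (h : ν a * ν b ≠ 0) :
    ρ (a * b * a) = ρ (b * a * b) := by
  rw [braid hD.1 ha hb fun hc => h (nop_mul_of_commute hV hD ha hb hc)]

/-- The third member of the line of a moved member. -/
def line (e g : G) : G := g * (e * g * e) * g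

theorem line_mem {e g : G} (he : e ∈ E) (hg : g ∈ D) : line e g ∈ D :=
  conj_mem' hV hD hg (conj_mem_of hD hE he hg)

theorem line_fixed {e g : G} (he : e ∈ E) (hg : g ∈ D) (hm : Moved V e g) : Fixed V e (line e g) := by
  have hee := mul_self' hV hE he
  have hf := conj_mem_of hD hE he hg
  have h1 : e * line e g * e = line e g := by
    rw [line, show e * (g * (e * g * e) * g) * e = (e * g * e) * g * (e * g * e) by simp only [mul_assoc]]
    exact (braid hD.1 hg hf fun hc => hm (nop_mul_of_commute hV hD hg hf hc)).symm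
  have h2 := op_conj_e hV hD hE he (line e g)
  rw [h1] at h2
  show ρ e * ν (line e g) = ν (line e g) * ρ e
  conv_rhs => rw [h2]
  rw [mul_assoc, mul_assoc, op_sq hV hee, mul_one]

/-- `h e` commutes with a moved member. -/
theorem line_comm {e g : G} (he : e ∈ E) (hg : g ∈ D) (hm : Moved V e g) :
    ρ (line e g * e) * ρ g = ρ g * ρ (line e g * e) ∧
    ρ (line e g * e) * ρ (e * g * e) = ρ (e * g * e) * ρ (line e g * e) := by
  have hf := conj_mem_of hD hE he hg
  have hb := braid hD.1 hg hf fun hc => hm (nop_mul_of_commute hV hD hg hf hc)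
  have hgg := mul_self' hV hD hg
  have hee := mul_self' hV hE he
  have hff := mul_self' hV hD hf
  constructor
  · rw [← map_mul, ← map_mul]
    congr 1
    calc line e g * e * g = (g * (e * g * e) * g) * (e * g * e) * e := by
          rw [line, show g * (e * g * e) * g * (e * g * e) * e = g * (e * g * e) * g * e * g * (e * e) by
            simp only [mul_assoc], hee, mul_one]
      _ = (e * g * e) * g * e := by rw [hb, mul_mul_self hD.1 hf]
      _ = g * (line e g * e) := by
          rw [line, show g * (g * (e * g * e) * g * e) = g * g * ((e * g * e) * g * e) by simp only [mul_assoc],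
            hgg, one_mul]
  · rw [← map_mul, ← map_mul]
    congr 1
    calc line e g * e * (e * g * e) = g * (e * g * e) * g * (g * e) := by
          rw [line, show g * (e * g * e) * g * e * (e * g * e) = g * (e * g * e) * g * ((e * e) * (g * e)) by
            simp only [mul_assoc], hee, one_mul]
      _ = g * (e * g * e) * e := by rw [← mul_assoc, mul_mul_self hD.1 hg]
      _ = (e * g * e) * ((e * g * e) * g * (e * g * e) * e) := by
          rw [show (e * g * e) * ((e * g * e) * g * (e * g * e) * e) =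
            ((e * g * e) * (e * g * e)) * (g * (e * g * e) * e) by simp only [mul_assoc], hff, one_mul]
      _ = (e * g * e) * (line e g * e) := by rw [line, hb]

/-- A fixed line member gives the operator of `e`. -/
theorem op_eq_line {e g : G} (he : e ∈ E) (hg : g ∈ D) (hm : Moved V e g)
    (hgood : ρ e * ν (line e g) = ν (line e g)) : ρ e = ρ (line e g) := by
  have hf := conj_mem_of hD hE he hg
  have hh := line_mem hV hD hE he hg
  obtain ⟨hABA, hBAB, hR⟩ := moved_facts hV hD hE he hg hm
  obtain ⟨hcg, hcf⟩ := line_comm hV hD hE he hg hm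
  set A := ν g with hA
  set B := ν (e * g * e) with hB
  set H := ν (line e g) with hH
  set z := ρ (line e g * e) with hz
  have hzη : z = ρ (line e g) * ρ e := map_mul _ _ _
  have hHt : H = third A B := nop_third hV hD hE hg
  have hzH : z * H = H := by
    rw [hzη, mul_assoc, hgood, op_eq_add hV, add_mul, one_mul, nop_sq hV (mul_self' hV hD hh), add_zero]
  have hzR : z * rad A B = rad A B := by
    rw [hzη, mul_assoc, hR, op_eq_add hV, add_mul, one_mul, ← hH, hHt,
      third_mul_rad (two hV) (nop_sq hV (mul_self' hV hD hg)) (nop_sq hV (mul_self' hV hD hf)) hABA hBAB, add_zero]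
  have hzB : z * B = B := by
    have hBH : B = ρ g * H * ρ g := by
      rw [hH, ← nop_conj hV (mul_self' hV hD hg), line, hB]
      congr 1
      exact (conj_conj (mul_self' hV hD hg) _).symm
    rw [hBH, ← mul_assoc, ← mul_assoc, hcg, mul_assoc (ρ g) z, hzH]
  have hzA : z * A = A := by
    have hAH : A = ρ (e * g * e) * H * ρ (e * g * e) := by
      rw [hH, ← nop_conj hV (mul_self' hV hD hf), line,
        braid hD.1 hg hf fun hc => hm (nop_mul_of_commute hV hD hg hf hc), hA]
      congr 1
      exact (conj_conj (mul_self' hV hD hf) _).symm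
    rw [hAH, ← mul_assoc, ← mul_assoc, hcf, mul_assoc (ρ (e * g * e)) z, hzH]
  have hone : z = 1 := by
    have h1 : (1 : Op V) = rad A B + A * B + B * A := by
      rw [rad, show (1 : Op V) + A * B + B * A + A * B + B * A = 1 + (A * B + A * B) + (B * A + B * A) by abel,
        two hV, two hV, add_zero, add_zero]
    calc z = z * 1 := (mul_one z).symm
      _ = z * (rad A B + A * B + B * A) := by rw [← h1]
      _ = rad A B + A * B + B * A := by
          rw [mul_add, mul_add, hzR, ← mul_assoc, ← mul_assoc, hzA, hzB]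
      _ = 1 := h1.symm
  rw [hzη] at hone
  calc ρ e = ρ (line e g) * ρ (line e g) * ρ e := by rw [op_sq hV (mul_self' hV hD hh), one_mul]
    _ = ρ (line e g) := by rw [mul_assoc, hone, mul_one]

/-- A fixed member not fixed pointwise. -/
def Bad (V : Subgroup G) [V.Normal] [IsMulCommutative V] (e d : G) : Prop :=
  Fixed V e d ∧ op (V := V) e * nop d ≠ nop d

theorem bad_vs_moved {e d g : G} (he : e ∈ E) (hd : d ∈ D) (hb : Bad V e d) (hg : g ∈ D)
    (hm : Moved V e g) : ν d * ν g ≠ 0 ∧ ν d * ν (line e g) = 0 := by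
  have hf := conj_mem_of hD hE he hg
  have hee := op_sq (V := V) hV (mul_self' hV hE he)
  obtain ⟨hfix, hne⟩ := hb
  have hfix' : ρ e * ν d = ν d * ρ e := hfix
  obtain ⟨hABA, -, hR⟩ := moved_facts hV hD hE he hg hm
  have hDg : ν d * ν g ≠ 0 := by
    intro h
    apply hne
    have hA : ν g * ν d = 0 := orth_symm hV hD hd hg h
    have hB : ν (e * g * e) * ν d = 0 := by
      rw [op_conj_e hV hD hE he g, mul_assoc, hfix', ← mul_assoc, mul_assoc (ρ e), hA, mul_zero, zero_mul]
    have hRD := rad_mul_of_orth (two hV) hA hB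
    conv_lhs => rw [← hRD, ← mul_assoc, hR, hRD]
  refine ⟨hDg, ?_⟩
  by_contra hH
  apply hne
  have hDf : ν d * ν (e * g * e) ≠ 0 := by
    intro h
    apply hDg
    rw [op_conj_e hV hD hE he g, ← mul_assoc, ← mul_assoc, ← hfix'] at h
    calc ν d * ν g = ρ e * (ρ e * ν d * ν g * ρ e) * ρ e := by
          simp only [← mul_assoc, hee, one_mul]; rw [mul_assoc, hee, mul_one]
      _ = 0 := by rw [h, mul_zero, zero_mul]
  have hh := line_mem hV hD hE he hg
  have hDR : ν d * rad (ν g) (ν (e * g * e)) * ν d = ν d :=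
    mul_rad_mul_of_adj (two hV) (nop_sq hV (mul_self' hV hD hd)) hABA (adj_sandwich hV hD hd hg hDg)
      (adj_sandwich hV hD hd hf hDf) (by
        rw [← nop_third hV hD hE hg]; exact adj_sandwich hV hD hd hh hH)
  calc ρ e * ν d = ρ e * ν d * rad (ν g) (ν (e * g * e)) * ν d := by
        rw [mul_assoc (ρ e), mul_assoc (ρ e), hDR]
    _ = ν d * (ρ e * rad (ν g) (ν (e * g * e))) * ν d := by rw [hfix', mul_assoc (ν d) (ρ e)]
    _ = ν d := by rw [hR, hDR]

theorem bad_conj {e d k : G} (hd : d ∈ D) (hb : Bad V e d) (hk : k ∈ D) (hf : Fixed V e k) :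
    Bad V e (k * d * k) := by
  have hκ : ρ e * ρ k = ρ k * ρ e := by
    rw [op_eq_add hV (g := k), mul_add, add_mul, one_mul, mul_one, show ρ e * ν k = ν k * ρ e from hf]
  have hkk := op_sq (V := V) hV (mul_self' hV hD hk)
  have e1 : ν (k * d * k) = ρ k * ν d * ρ k := nop_conj hV (mul_self' hV hD hk) d
  have e2 : ρ e * ν (k * d * k) = ρ k * (ρ e * ν d) * ρ k := by
    rw [e1, ← mul_assoc, ← mul_assoc, hκ, mul_assoc (ρ k) (ρ e)]
  refine ⟨?_, fun h => hb.2 ?_⟩
  · show ρ e * ν (k * d * k) = ν (k * d * k) * ρ e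
    rw [e2, e1, show ρ e * ν d = ν d * ρ e from hb.1, mul_assoc _ (ρ k) (ρ e), ← hκ]
    simp only [mul_assoc]
  · rw [e2, e1] at h
    calc ρ e * ν d = ρ k * (ρ k * (ρ e * ν d) * ρ k) * ρ k := by
          simp only [← mul_assoc, hkk, one_mul]; rw [mul_assoc _ (ρ k), hkk, mul_one]
      _ = ν d := by rw [h]; simp only [← mul_assoc, hkk, one_mul]; rw [mul_assoc, hkk, mul_one]

/-- Every member of the second class acts as a member of the first. -/
theorem exists_same_op {e : G} (he : e ∈ E) : ∃ d ∈ D, ρ e = ρ d := by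
  by_contra hno
  push Not at hno
  have hee := mul_self' hV hE he
  obtain ⟨g0, hg0, hm0⟩ : ∃ g ∈ D, Moved V e g := by
    by_contra hc
    push Not at hc
    apply not_mem hV hE he
    refine mem_of_central hV hD (op_sq hV hee) fun d hd => ?_
    rw [op_eq_add hV (g := d), mul_add, add_mul, one_mul, mul_one,
      show ρ e * ν d = ν d * ρ e from (fixed_or_moved hV hD hE he hd).resolve_right (hc d hd)]
  have hbad : ∀ g ∈ D, Moved V e g → Bad V e (line e g) := fun g hg hm =>
    ⟨line_fixed hV hD hE he hg hm, fun h => hno _ (line_mem hV hD hE he hg) (op_eq_line hV hD hE he hg hm h)⟩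
  have hh0 := line_mem hV hD hE he hg0
  have hb0 := hbad g0 hg0 hm0
  -- a bad member is never adjacent to a line member
  have key : ∀ k ∈ D, Fixed V e k → ∀ g ∈ D, Moved V e g → ν k * ν (line e g) = 0 := by
    intro k hk hf g hg hm
    by_contra hne
    have hh := line_mem hV hD hE he hg
    have hb := bad_conj hV hD hE hh (hbad g hg hm) hk hf
    have h1 := (bad_vs_moved hV hD hE he (conj_mem' hV hD hk hh) hb hg hm).2
    exact third_not_commute_right (isClosedSet_of_class hD) hk hh
      (fun hc => hne (nop_mul_of_commute hV hD hk hh hc))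
      ((commute_iff hV hD (conj_mem' hV hD hk hh) hh).2 h1).symm
  have hline : ∀ g ∈ D, Moved V e g → ρ (line e g) = ρ (line e g0) := by
    intro g hg hm
    by_contra hne
    have hh := line_mem hV hD hE he hg
    obtain ⟨c, hc, hcase⟩ := exists_separating hV hD hh hh0 hne
    rcases fixed_or_moved hV hD hE he hc with hf | hmc
    · rcases hcase with ⟨-, h⟩ | ⟨-, h⟩
      · exact h (key c hc hf g hg hm)
      · exact h (key c hc hf g0 hg0 hm0)
    · rcases hcase with ⟨h, -⟩ | ⟨h, -⟩
      · exact (bad_vs_moved hV hD hE he hh0 hb0 hc hmc).1 (orth_symm hV hD hc hh0 h)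
      · exact (bad_vs_moved hV hD hE he hh (hbad g hg hm) hc hmc).1 (orth_symm hV hD hc hh h)
  set h := line e g0 with hhdef
  have hηε : ρ e * ρ h = ρ h * ρ e := by
    rw [op_eq_add hV (g := h), mul_add, add_mul, one_mul, mul_one,
      show ρ e * ν h = ν h * ρ e from hb0.1]
  have hmem : h * e ∈ V := by
    refine mem_of_central hV hD ?_ fun p hp => ?_
    · rw [map_mul, mul_assoc, ← mul_assoc (ρ e), hηε, mul_assoc (ρ h) (ρ e), op_sq hV hee, mul_one,
        op_sq hV (mul_self' hV hD hh0)]
    · rcases fixed_or_moved hV hD hE he hp with hf | hm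
      · have h1 := key p hp hf g0 hg0 hm0
        have h2 := orth_symm hV hD hp hh0 h1
        have hηκ : ρ h * ρ p = ρ p * ρ h := by
          rw [op_eq_add hV (g := h), op_eq_add hV (g := p)]
          simp only [mul_add, add_mul, one_mul, mul_one]
          rw [← hhdef] at h1
          rw [h1, h2]; abel
        have hεκ : ρ e * ρ p = ρ p * ρ e := by
          rw [op_eq_add hV (g := p), mul_add, add_mul, one_mul, mul_one, show ρ e * ν p = ν p * ρ e from hf]
        rw [map_mul, mul_assoc, hεκ, ← mul_assoc, hηκ, mul_assoc]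
      · have h1 := (line_comm hV hD hE he hp hm).1
        rw [map_mul, hline p hp hm, ← map_mul] at h1
        exact h1
  apply hno h hh0
  have h1 : ρ (h * e) = 1 := (op_eq_one_iff hV).2 hmem
  rw [map_mul] at h1
  calc ρ e = ρ h * ρ h * ρ e := by rw [op_sq hV (mul_self' hV hD hh0), one_mul]
    _ = ρ h := by rw [mul_assoc, h1, mul_one]

/-- `ζ` turns `g` into a member of the second class. -/
def Rep (E : Set G) (g : G) (ζ : Mo V) : Prop := g * elt ζ ∈ E

theorem exists_rep {g : G} (hg : g ∈ D) : ∃ ζ : Mo V, Rep E g ζ := by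
  obtain ⟨d₀, hd₀, -⟩ := hE.2.1
  obtain ⟨d, hd, hop⟩ := exists_same_op hV hD hE hd₀
  obtain ⟨c, hc⟩ := class_exists_conj hD hd hg
  have he' := class_conj_mem hE c hd₀
  have hop' : ρ g = ρ (c * d₀ * c⁻¹) := by rw [← hc, map_mul, map_mul, map_mul, map_mul, hop]
  obtain ⟨m, hm⟩ := exists_vec (V := V) ((op_eq_iff hV).1 hop')
  refine ⟨m, ?_⟩
  show g * elt m ∈ E
  rw [hm, mul_inv_cancel_left]
  exact he'

theorem nop_rep {g : G} {ζ : Mo V} : ν (g * elt ζ) = ν g := by
  rw [nop_eq_iff hV, map_mul, (op_eq_one_iff hV).2 (elt_mem ζ), mul_one]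

theorem rep_fixed {g : G} (hg : g ∈ D) {ζ : Mo V} (h : Rep E g ζ) : ν g ζ = 0 := by
  apply elt_inj
  rw [elt_nop, elt_zero, inv_eq hD.1 hg, mul_assoc (g * elt ζ)]
  exact mul_self' hV hE h

theorem op_apply_eq {g : G} {m : Mo V} : ρ g m = m + ν g m := by
  have h := congrArg (fun f : Op V => f m) (op_eq_add hV (g := g))
  exact h

theorem rep_adj {g k : G} (hg : g ∈ D) (hk : k ∈ D) (h : ν g * ν k ≠ 0) {ζ η : Mo V}
    (hζ : Rep E g ζ) (hη : Rep E k η) : rad (ν g) (ν k) (ζ + η) = 0 := by
  have hnc : ¬ Commute (g * elt ζ) (k * elt η) := fun hc => h (by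
    have := nop_mul_of_commute hV hE hζ hη hc
    rwa [nop_rep hV hD hE, nop_rep hV hD hE] at this)
  have h3 := cube_eq_one hE.1 hζ hη hnc
  have hx := cube_eq_one hD.1 hg hk fun hc => h (nop_mul_of_commute hV hD hg hk hc)
  have e1 : g * elt ζ * (k * elt η) = elt (ρ g ζ + ρ (g * k) η) * (g * k) := by
    rw [elt_add, elt_op, elt_op]; group
  have hn := norm_eq hV (elt_mem _) hx (by rw [← e1]; exact h3) (ρ g ζ + ρ (g * k) η) rfl
  have hsum : (1 + ρ (g * k) + ρ (g * k) * ρ (g * k) : Op V) = rad (ν g) (ν k) := by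
    rw [← rad_eq_ops hV, ← op_eq_add hV, ← op_eq_add hV, ← map_mul, ← map_mul, ← map_mul]
    congr 2
    have h4 : (g * k) * ((g * k) * (g * k)) = 1 := by rw [← hx, pow_three]
    rw [eq_inv_of_mul_eq_one_right h4, mul_inv_rev, inv_eq hD.1 hg, inv_eq hD.1 hk]
  rw [hsum, show ρ g ζ = ζ by rw [op_apply_eq hV hD hE, rep_fixed hV hD hE hg hζ, add_zero], map_add,
    ← op_mul_apply _ (ρ (g * k))] at hn
  have hRX : rad (ν g) (ν k) * ρ (g * k) = rad (ν g) (ν k) := by
    rw [map_mul, op_eq_add hV (g := g), op_eq_add hV (g := k), ← mul_assoc]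
    simp only [mul_add, mul_one,
      rad_mul_left (two hV) (nop_sq hV (mul_self' hV hD hg)) (adj_sandwich hV hD hg hk h), add_zero,
      rad_mul_right (two hV) (nop_sq hV (mul_self' hV hD hk))
        (adj_sandwich hV hD hk hg (adj_symm hV hD hg hk h))]
  rw [hRX, ← map_add] at hn
  exact hn

theorem rep_orth {g k : G} (hg : g ∈ D) (hk : k ∈ D) (h : ν g * ν k = 0) {ζ η : Mo V}
    (hζ : Rep E g ζ) (hη : Rep E k η) : ν k ζ = ν g η := by
  have hc : Commute (g * elt ζ) (k * elt η) := (commute_iff hV hE hζ hη).2 (by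
    rw [nop_rep hV hD hE, nop_rep hV hD hE]; exact h)
  have hgk := (commute_iff hV hD hg hk).2 h
  have e1 : g * elt ζ * (k * elt η) = g * k * elt (ρ k ζ + η) := by
    rw [elt_add, elt_op, inv_eq hD.1 hk]
    simp only [mul_assoc]
    rw [mul_self_assoc hD.1 hk]
  have e2 : k * elt η * (g * elt ζ) = g * k * elt (ρ g η + ζ) := by
    rw [hgk.eq, elt_add, elt_op, inv_eq hD.1 hg]
    simp only [mul_assoc]
    rw [mul_self_assoc hD.1 hg]
  have h3 : ρ k ζ + η = ρ g η + ζ := elt_inj (mul_left_cancel (e1.symm.trans (hc.eq.trans e2)))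
  rw [op_apply_eq hV hD hE, op_apply_eq hV hD hE] at h3
  have h4 : ζ + η + ν k ζ = ζ + η + ν g η :=
    (show ζ + η + ν k ζ = ζ + ν k ζ + η by abel).trans (h3.trans (by abel))
  exact add_left_cancel h4

variable {h : G} {ζ : Mo V}

theorem rad_split {a b : G} (m : Mo V) (ha : ν a m = 0) :
    m + rad (ν a) (ν b) m = ν a (ν b m) := by
  show m + (m + ν a (ν b m) + ν b (ν a m)) = _
  rw [ha, map_zero, add_zero, ← add_assoc, add_self_vec hV, zero_add]

/-- The vector attached to the line through `h` and `g` does not depend on `g`. -/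
theorem same_orth (hh : h ∈ D) (hζ : Rep E h ζ) {g k : G} (hg : g ∈ D) (hk : k ∈ D)
    (hag : ν h * ν g ≠ 0) (hak : ν h * ν k ≠ 0) (h0 : ν g * ν k = 0) :
    rad (ν h) (ν g) ζ = rad (ν h) (ν k) ζ := by
  by_cases hop : ρ g = ρ k
  · rw [(nop_eq_iff hV).2 hop]
  obtain ⟨ξ, hξ⟩ := exists_rep hV hD hE hg
  obtain ⟨θ, hθ⟩ := exists_rep hV hD hE hk
  have hpq : ν k ξ = ν g θ := rep_orth hV hD hE hg hk h0 hξ hθ
  have hkg : ν k * ν g = 0 := orth_symm hV hD hg hk h0
  set w := rad (ν h) (ν g) ζ with hw
  set w' := rad (ν h) (ν k) ζ with hw'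
  have hwξ : ∀ (a : G), a ∈ D → ν h * ν a ≠ 0 → ∀ χ : Mo V, Rep E a χ →
      rad (ν h) (ν a) ζ = χ + ν a (ν h χ) := by
    intro a ha haa χ hχ
    have h1 := rep_adj hV hD hE hh ha haa hζ hχ
    rw [map_add] at h1
    have h2 : rad (ν h) (ν a) ζ = rad (ν h) (ν a) χ := by
      calc rad (ν h) (ν a) ζ = rad (ν h) (ν a) ζ + (rad (ν h) (ν a) χ + rad (ν h) (ν a) χ) := by
            rw [add_self_vec hV, add_zero]
        _ = rad (ν h) (ν a) χ := by rw [← add_assoc, h1, zero_add]
    rw [h2, ← rad_split hV hD hE χ (rep_fixed hV hD hE ha hχ) (b := h), rad_comm (ν a), ← add_assoc,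
      add_self_vec hV, zero_add]
  have hkw : ν k w = ν k ξ := by
    rw [hw, hwξ g hg hag ξ hξ, map_add, ← op_mul_apply (ν k) (ν g), hkg]
    exact add_zero _
  have hgw' : ν g w' = ν g θ := by
    rw [hw', hwξ k hk hak θ hθ, map_add, ← op_mul_apply (ν g) (ν k), h0]
    exact add_zero _
  have hzero : ν k w = 0 :=
    inter_zero hV hD hk hg hkg (fun e => hop e.symm) (show ν k w = ν g w' by rw [hkw, hpq, hgw'])
  have hk' : ν k w' = 0 := by
    rw [hw', ← op_mul_apply, mul_rad_right (two hV) (nop_sq hV (mul_self' hV hD hk))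
      (adj_sandwich hV hD hk hh (adj_symm hV hD hh hk hak))]
    rfl
  have hu : w + w' = ν h (ν g ζ + ν k ζ) := by
    rw [map_add, ← rad_split hV hD hE ζ (rep_fixed hV hD hE hh hζ),
      ← rad_split hV hD hE ζ (rep_fixed hV hD hE hh hζ), ← hw, ← hw']
    calc w + w' = (ζ + ζ) + (w + w') := by rw [add_self_vec hV, zero_add]
      _ = ζ + w + (ζ + w') := by abel
  have hu0 : w + w' = 0 := by
    have h1 := congrArg (fun f : Op V => f (ν g ζ + ν k ζ)) (adj_sandwich hV hD hh hk hak)
    simp only [op_mul_apply] at h1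
    rw [← hu, map_add, hzero, hk', add_zero, map_zero] at h1
    exact h1.symm
  calc w = w + (w' + w') := by rw [add_self_vec hV, add_zero]
    _ = w' := by rw [← add_assoc, hu0, zero_add]

theorem same_adj (hh : h ∈ D) (hζ : Rep E h ζ) {g k : G} (hg : g ∈ D) (hk : k ∈ D)
    (hag : ν h * ν g ≠ 0) (hak : ν h * ν k ≠ 0) :
    rad (ν h) (ν g) ζ = rad (ν h) (ν k) ζ := by
  by_cases h0 : ν g * ν k = 0
  · exact same_orth hV hD hE hh hζ hg hk hag hak h0
  have hm := conj_mem' hV hD hg hk
  by_cases hhm : ν h * ν (g * k * g) = 0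
  · have hk' := conj_mem' hV hD hh hk
    have hchk : ¬ Commute h k := fun hc => hak (nop_mul_of_commute hV hD hh hk hc)
    have hchg : ¬ Commute h g := fun hc => hag (nop_mul_of_commute hV hD hh hg hc)
    have hcm : Commute h (g * k * g) := (commute_iff hV hD hh hm).2 hhm
    have hgg := mul_self' hV hD hg
    have hhh := mul_self' hV hD hh
    have h1 : Commute (g * h * g) k := by
      have := (Commute.conj_iff g).2 hcm
      rw [inv_eq hD.1 hg] at this
      rwa [show g * (g * k * g) * g = k by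
        rw [← mul_assoc, ← mul_assoc, hgg, one_mul, mul_assoc, hgg, mul_one]] at this
    rw [← braid hD.1 hh hg hchg] at h1
    have h2 : Commute g (h * k * h) := by
      have := (Commute.conj_iff h).2 h1
      rw [inv_eq hD.1 hh] at this
      rwa [show h * (h * g * h) * h = g by
        rw [← mul_assoc, ← mul_assoc, hhh, one_mul, mul_assoc, hhh, mul_one]] at this
    have hadj : ν h * ν (h * k * h) ≠ 0 := fun e =>
      third_not_commute_left (isClosedSet_of_class hD) hh hk hchk ((commute_iff hV hD hh hk').2 e)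
    rw [same_orth hV hD hE hh hζ hg hk' hag hadj (nop_mul_of_commute hV hD hg hk' h2)]
    have hH := nop_sq (V := V) hV hhh
    have hrad : rad (ν h) (ν (h * k * h)) = rad (ν h) (ν k) := by
      rw [nop_conj hV hhh, ← conj_rad_conj (two hV) (B := ν k) hH (adj_sandwich hV hD hh hk hak),
        ← op_eq_add hV]
      have e1 : ρ h * ν h = ν h := by rw [op_eq_add hV, add_mul, one_mul, hH, add_zero]
      have e2 : ν h * ρ h = ν h := by rw [op_eq_add hV, mul_add, mul_one, hH, add_zero]
      rw [rad, rad]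
      simp only [mul_add, add_mul, mul_one, op_sq hV hhh, ← mul_assoc, e1, e2]
      simp only [mul_assoc, e1, e2]
    rw [hrad]
  · obtain ⟨ξ, hξ⟩ := exists_rep hV hD hE hg
    obtain ⟨θ, hθ⟩ := exists_rep hV hD hE hk
    set w := rad (ν h) (ν g) ζ with hw
    set w' := rad (ν h) (ν k) ζ with hw'
    set R' := rad (ν g) (ν k) with hR'
    have hg2 := nop_sq (V := V) hV (mul_self' hV hD hg)
    have hk2 := nop_sq (V := V) hV (mul_self' hV hD hk)
    have hgkg := adj_sandwich hV hD hg hk h0
    have hkgk := adj_sandwich hV hD hk hg (adj_symm hV hD hg hk h0)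
    have hR'' : R' (w + w') = 0 := by
      have hξw : ∀ (a : G), a ∈ D → ν h * ν a ≠ 0 → ∀ χ : Mo V, Rep E a χ → R' * ν a = 0 →
          R' (rad (ν h) (ν a) ζ) = R' χ := by
        intro a ha haa χ hχ hRa
        have h1 := rep_adj hV hD hE hh ha haa hζ hχ
        rw [map_add] at h1
        have h2 : rad (ν h) (ν a) ζ = rad (ν h) (ν a) χ := by
          calc rad (ν h) (ν a) ζ = rad (ν h) (ν a) ζ + (rad (ν h) (ν a) χ + rad (ν h) (ν a) χ) := by
                rw [add_self_vec hV, add_zero]
            _ = rad (ν h) (ν a) χ := by rw [← add_assoc, h1, zero_add]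
        have h3 := rad_split hV hD hE χ (rep_fixed hV hD hE ha hχ) (b := h)
        rw [rad_comm (ν a)] at h3
        have h4 := congrArg (fun m => R' m) h3
        simp only [map_add, ← op_mul_apply R' (ν a), hRa] at h4
        rw [h2]
        calc R' (rad (ν h) (ν a) χ) = R' χ + (R' χ + R' (rad (ν h) (ν a) χ)) := by
              rw [← add_assoc, add_self_vec hV, zero_add]
          _ = R' χ := by rw [h4]; exact add_zero _
      rw [map_add, hw, hw', hξw g hg hag ξ hξ (rad_mul_left (two hV) hg2 hgkg),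
        hξw k hk hak θ hθ (rad_mul_right (two hV) hk2 hkgk), ← map_add]
      exact rep_adj hV hD hE hg hk h0 hξ hθ
    have hu : w + w' = ν h (ν g ζ + ν k ζ) := by
      rw [map_add, ← rad_split hV hD hE ζ (rep_fixed hV hD hE hh hζ),
        ← rad_split hV hD hE ζ (rep_fixed hV hD hE hh hζ), ← hw, ← hw']
      calc w + w' = (ζ + ζ) + (w + w') := by rw [add_self_vec hV, zero_add]
        _ = ζ + w + (ζ + w') := by abel
    have hs : ν h * R' * ν h = ν h :=
      mul_rad_mul_of_adj (two hV) (nop_sq hV (mul_self' hV hD hh)) hgkg (adj_sandwich hV hD hh hg hag)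
        (adj_sandwich hV hD hh hk hak) (by
          rw [← nop_third hV hD hE hg]; exact adj_sandwich hV hD hh hm hhm)
    have h1 := congrArg (fun f : Op V => f (ν g ζ + ν k ζ)) hs
    simp only [op_mul_apply] at h1
    rw [← hu, hR'', map_zero] at h1
    calc w = w + (w' + w') := by rw [add_self_vec hV, add_zero]
      _ = w' := by rw [← add_assoc, ← h1, zero_add]

/-- The two classes are equal. -/
theorem classes_eq : E = D := by
  obtain ⟨h, hh, hDh⟩ := hD.2.1
  obtain ⟨ζ, hζ⟩ := exists_rep hV hD hE hh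
  let S : Set G := {g | g ∈ D ∧ ¬ Commute h g}
  obtain ⟨g0, hg0, hn0⟩ : ∃ g ∈ D, ¬ Commute h g := by
    by_contra hc
    push Not at hc
    have hcen : h ∈ Subgroup.center G := mem_center_of_commute_gen hD.2.2 hc
    rw [hV.trivialCenter, Subgroup.mem_bot] at hcen
    exact ne_one hD.1 hh hcen
  let L := Subgroup.closure S
  have hcl := isClosedSet_of_class hD
  have hmemS : ∀ g ∈ S, g ∈ L := fun g hg => Subgroup.subset_closure hg
  have hdich : ∀ d ∈ D, d ∈ L ∨ ∀ g ∈ S, Commute d g := by
    intro d hd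
    by_cases hhd : Commute h d
    · by_cases hall : ∀ g ∈ S, Commute d g
      · exact Or.inr hall
      push Not at hall
      obtain ⟨g, hgS, hdg⟩ := hall
      left
      have h1 : d * g * d ∈ S := by
        refine ⟨conj_mem' hV hD hd hgS.1, fun hc => hgS.2 ?_⟩
        have := (Commute.conj_iff d).2 hc
        rw [inv_eq hD.1 hd, hhd.symm.eq, mul_assoc h, mul_self' hV hD hd, mul_one] at this
        rwa [show d * (d * g * d) * d = g by
          rw [← mul_assoc, ← mul_assoc, mul_self' hV hD hd, one_mul, mul_assoc, mul_self' hV hD hd, mul_one]] at this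
      have h2 : d = g * (d * g * d) * g := by
        rw [braid hD.1 hd hgS.1 hdg, ← mul_assoc, ← mul_assoc, mul_self' hV hD hgS.1, one_mul,
          mul_assoc, mul_self' hV hD hgS.1, mul_one]
      rw [h2]
      exact L.mul_mem (L.mul_mem (hmemS g hgS) (hmemS _ h1)) (hmemS g hgS)
    · exact Or.inl (hmemS d ⟨hd, hhd⟩)
  have hnorm : ∀ d ∈ D, ∀ x ∈ L, d * x * d⁻¹ ∈ L := by
    intro d hd x hx
    rcases hdich d hd with hdL | hc
    · exact L.mul_mem (L.mul_mem hdL hx) (L.inv_mem hdL)
    · have : Commute d x := by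
        induction hx using Subgroup.closure_induction with
        | mem g hg => exact hc g hg
        | one => exact Commute.one_right d
        | mul a b _ _ ha hb => exact ha.mul_right hb
        | inv a _ ha => exact ha.inv_right
      rw [this.eq, mul_inv_cancel_right]
      exact hx
  have hLn : ∀ c : G, ∀ x ∈ L, c * x * c⁻¹ ∈ L := by
    intro c
    have hc : c ∈ Subgroup.closure D := by rw [hD.2.2]; trivial
    induction hc using Subgroup.closure_induction_left with
    | one => intro x hx; simpa using hx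
    | mul_left s hs t _ ih =>
      intro x hx
      have := hnorm s hs _ (ih x hx)
      rwa [mul_inv_rev, show s * t * x * (t⁻¹ * s⁻¹) = s * (t * x * t⁻¹) * s⁻¹ by group]
    | inv_mul_cancel s hs t _ ih =>
      intro x hx
      have := hnorm s hs _ (ih x hx)
      rwa [inv_eq hD.1 hs, mul_inv_rev, show s * t * x * (t⁻¹ * s⁻¹) = s * (t * x * t⁻¹) * s⁻¹ by group]
  have hhL : h ∈ L := by
    have h1 : h * g0 * h ∈ S :=
      ⟨conj_mem' hV hD hh hg0, third_not_commute_left hcl hh hg0 hn0⟩
    have h2 : h = g0 * (h * g0 * h) * g0 := by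
      rw [braid hD.1 hh hg0 hn0, ← mul_assoc, ← mul_assoc, mul_self' hV hD hg0, one_mul, mul_assoc,
        mul_self' hV hD hg0, mul_one]
    rw [h2]
    exact L.mul_mem (L.mul_mem (hmemS g0 ⟨hg0, hn0⟩) (hmemS _ h1)) (hmemS g0 ⟨hg0, hn0⟩)
  have htop : L = ⊤ := by
    rw [eq_top_iff, ← hD.2.2, Subgroup.closure_le]
    intro d hd
    obtain ⟨c, rfl⟩ := class_exists_conj hD hh hd
    exact hLn c h hhL
  have hadj : ∀ g ∈ S, ν h * ν g ≠ 0 := fun g hg e => hg.2 ((commute_iff hV hD hh hg.1).2 e)
  set w := rad (ν h) (ν g0) ζ with hw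
  have hfix : ∀ g ∈ S, g * elt w * g⁻¹ = elt w := by
    intro g hg
    have h0 : ν g w = 0 := by
      rw [hw, same_adj hV hD hE hh hζ hg0 hg.1 (hadj g0 ⟨hg0, hn0⟩) (hadj g hg), ← op_mul_apply,
        mul_rad_right (two hV) (nop_sq hV (mul_self' hV hD hg.1))
          (adj_sandwich hV hD hg.1 hh (adj_symm hV hD hh hg.1 (hadj g hg)))]
      rfl
    rw [← elt_op, op_apply_eq hV hD hE, h0, add_zero]
  have hwc : elt w ∈ Subgroup.center G := by
    rw [Subgroup.mem_center_iff]
    intro x
    have hx : x ∈ L := htop ▸ trivial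
    have : Commute x (elt w) := by
      induction hx using Subgroup.closure_induction with
      | mem g hg =>
        show g * elt w = elt w * g
        conv_rhs => rw [← hfix g hg]
        group
      | one => exact Commute.one_left _
      | mul a b _ _ ha hb => exact ha.mul_left hb
      | inv a _ ha => exact ha.inv_left
    exact this.eq
  rw [hV.trivialCenter, Subgroup.mem_bot] at hwc
  have hw0 : w = 0 := elt_inj hwc
  have hsplit := rad_split hV hD hE ζ (rep_fixed hV hD hE hh hζ) (b := g0)
  rw [← hw, hw0, add_zero] at hsplit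
  have hmem : h * elt ζ ∈ D := by
    rw [hsplit]
    exact (conj_vec hV hD hh _).2
  obtain ⟨e₀, -, hEe⟩ := hE.2.1
  rw [hDh] at hmem
  have hζ' : IsConj e₀ (h * elt ζ) := (show (h * elt ζ) ∈ conjugatesOf e₀ from hEe ▸ hζ)
  have hmem' : IsConj h (h * elt ζ) := hmem
  rw [hEe, hDh]
  exact ((hζ'.trans hmem'.symm).conjugatesOf_eq)

end Cfsg.Agent.Lib.ThreeTranspositions.UniqueClass
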