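import Mathlib

/-!
Identities between square-zero operators in a ring of characteristic two.

`A`, `B` stand for `a + 1`, `b + 1` where `a`, `b` are the actions of two transpositions on a module.
-/

set_option autoImplicit false

namespace Cfsg.Agent.Lib.ThreeTranspositions.UniqueRing

variable {R : Type*} [Ring R] (h2 : ∀ x : R, x + x = 0)

/-- The norm of the product of two transpositions. -/
def rad (A B : R) : R := 1 + A * B + B * A

theorem rad_comm (A B : R) : rad A B = rad B A := by rw [rad, rad]; abel

include h2

theorem eq_of_add_eq_zero {x y : R} (h : x + y = 0) : x = y := by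
  calc x = x + (y + y) := by rw [h2, add_zero]
    _ = (x + y) + y := by rw [add_assoc]
    _ = y := by rw [h, zero_add]

theorem add_cancel_right_self (x y : R) : x + y + y = x := by rw [add_assoc, h2, add_zero]

theorem sq_zero {a : R} (ha : a * a = 1) : (a + 1) * (a + 1) = 0 := by
  rw [add_mul, mul_add, one_mul, ha, mul_one, add_comm (1 : R) a, h2]

theorem eq_one_add {a : R} : a = 1 + (a + 1) := by
  rw [← add_assoc, add_comm 1 a, add_cancel_right_self h2]

theorem sq_one {A : R} (hA : A * A = 0) : (1 + A) * (1 + A) = 1 := by
  rw [add_mul, mul_add, mul_add, one_mul, one_mul, mul_one, hA, add_zero, add_cancel_right_self h2]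

theorem rad_mul_left {A B : R} (hA : A * A = 0) (hABA : A * B * A = A) : rad A B * A = 0 := by
  rw [rad, add_mul, add_mul, one_mul, mul_assoc B, hA, mul_zero, add_zero, hABA, h2]

theorem mul_rad_left {A B : R} (hA : A * A = 0) (hABA : A * B * A = A) : A * rad A B = 0 := by
  rw [rad, mul_add, mul_add, mul_one, ← mul_assoc A A, hA, zero_mul, add_zero, ← mul_assoc, hABA, h2]

theorem rad_mul_right {A B : R} (hB : B * B = 0) (hBAB : B * A * B = B) : rad A B * B = 0 := by
  rw [rad_comm]; exact rad_mul_left h2 hB hBAB

theorem mul_rad_right {A B : R} (hB : B * B = 0) (hBAB : B * A * B = B) : B * rad A B = 0 := by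
  rw [rad_comm]; exact mul_rad_left h2 hB hBAB

/-- The third transvection of a line. -/
def third (A B : R) : R := (1 + A) * B * (1 + A)

theorem third_eq {A B : R} (hABA : A * B * A = A) : third A B = B + B * A + A * B + A := by
  rw [third, mul_add, mul_one, add_mul, one_mul, add_mul, hABA]
  abel

theorem third_comm {A B : R} (hABA : A * B * A = A) (hBAB : B * A * B = B) : third A B = third B A := by
  rw [third_eq h2 hABA, third_eq h2 hBAB]; abel

theorem third_mul_rad {A B : R} (hA : A * A = 0) (hB : B * B = 0) (hABA : A * B * A = A)
    (hBAB : B * A * B = B) : third A B * rad A B = 0 := by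
  rw [third_eq h2 hABA, add_mul, add_mul, add_mul, mul_assoc B, mul_assoc A B,
    mul_rad_left h2 hA hABA, mul_rad_right h2 hB hBAB, mul_zero, mul_zero, add_zero, add_zero, add_zero]

theorem conj_rad_conj {A B : R} (hA : A * A = 0) (hABA : A * B * A = A) :
    (1 + A) * rad A B * (1 + A) = rad A B := by
  rw [add_mul, one_mul, mul_rad_left h2 hA hABA, add_zero, mul_add, mul_one, rad_mul_left h2 hA hABA, add_zero]

/-- A transposition orthogonal to both sees the norm as the identity. -/
theorem rad_mul_of_orth {A B D : R} (hAD : A * D = 0) (hBD : B * D = 0) : rad A B * D = D := by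
  rw [rad, add_mul, add_mul, one_mul, mul_assoc, hBD, mul_zero, mul_assoc, hAD, mul_zero, add_zero, add_zero]

/-- A transposition adjacent to the whole line sees the norm as the identity. -/
theorem mul_rad_mul_of_adj {A B D : R} (hD : D * D = 0) (hABA : A * B * A = A) (hDA : D * A * D = D)
    (hDB : D * B * D = D) (hDH : D * third A B * D = D) : D * rad A B * D = D := by
  have key : D * B * A * D + D * A * B * D = D := by
    rw [third_eq h2 hABA] at hDH
    simp only [mul_add, add_mul, ← mul_assoc, hDA, hDB] at hDH
    calc D * B * A * D + D * A * B * D = D * B * A * D + D * A * B * D + (D + D) := by rw [h2, add_zero]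
      _ = D + D * B * A * D + D * A * B * D + D := by abel
      _ = D := hDH
  simp only [rad, mul_add, add_mul, mul_one, hD, zero_add, ← mul_assoc]
  rw [add_comm, key]

omit h2 in
theorem conj_mul_conj {s : R} (hs : s * s = 1) (X Y : R) : s * X * s * (s * Y * s) = s * (X * Y) * s := by
  simp only [mul_assoc]
  rw [← mul_assoc s s, hs, one_mul]

end Cfsg.Agent.Lib.ThreeTranspositions.UniqueRing
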