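import Cfsg.Agent.Lib.ThreeTranspositions.Blocks
import Cfsg.Agent.Lib.ThreeTranspositions.UniqueRing
import Cfsg.Prelude.Def_Transfer
import Cfsg.Prelude.Def_Solvable

/-!
3-transpositions acting on a self-centralising elementary abelian normal 2-subgroup, as operators.
-/

set_option autoImplicit false

namespace Cfsg.Agent.Lib.ThreeTranspositions.UniqueOp

open Cfsg Cfsg.Agent.Lib.ThreeTranspositions UniqueRing

variable {G : Type*} [Group G] {V : Subgroup G} [V.Normal] [IsMulCommutative V]

/-- The normal subgroup as a commutative group. -/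
@[reducible] def commGroupV (V : Subgroup G) [IsMulCommutative V] : CommGroup ↥V :=
  { (inferInstance : Group ↥V) with mul_comm := fun a b => mul_comm' a b }

attribute [local instance] commGroupV

/-- The module. -/
abbrev Mo (V : Subgroup G) : Type _ := Additive ↥V

/-- The operators. -/
abbrev Op (V : Subgroup G) [IsMulCommutative V] : Type _ := AddMonoid.End (Additive ↥V)

/-- The element of the module. -/
def vec (v : ↥V) : Mo V := Additive.ofMul v

/-- The group element of a vector. -/
def elt (m : Mo V) : G := (Additive.toMul m : ↥V).1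

theorem elt_mem (m : Mo V) : elt m ∈ V := (Additive.toMul m).2

theorem elt_add (a b : Mo V) : elt (a + b) = elt a * elt b := rfl

theorem elt_zero : elt (0 : Mo V) = 1 := rfl

theorem elt_inj {a b : Mo V} (h : elt a = elt b) : a = b := Additive.toMul.injective (Subtype.ext h)

theorem elt_vec (v : ↥V) : elt (vec v) = v := rfl

theorem exists_vec {x : G} (hx : x ∈ V) : ∃ m : Mo V, elt m = x := ⟨vec ⟨x, hx⟩, rfl⟩

/-- The action by conjugation. -/
def op : G →* Op V where
  toFun g := MonoidHom.toAdditive (MulAut.conjNormal (H := V) g).toMonoidHom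
  map_one' := AddMonoidHom.ext fun m => elt_inj (show (1 : G) * elt m * 1⁻¹ = elt m by group)
  map_mul' g h := AddMonoidHom.ext fun m => elt_inj
    (show g * h * elt m * (g * h)⁻¹ = g * (h * elt m * h⁻¹) * g⁻¹ by group)

theorem elt_op (g : G) (m : Mo V) : elt (op (V := V) g m) = g * elt m * g⁻¹ := rfl

theorem elt_one_apply (m : Mo V) : elt ((1 : Op V) m) = elt m := rfl

theorem op_mul_apply (a b : Op V) (m : Mo V) : (a * b) m = a (b m) := rfl

/-- Standing hypotheses on the normal subgroup. -/
structure Base (V : Subgroup G) : Prop where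
  sq : ∀ v ∈ V, v * v = 1
  cent : Subgroup.centralizer (V : Set G) ≤ V
  core : ∀ W : Subgroup G, W.Normal → IsPGroup 2 W → W ≤ V
  trivialCenter : Subgroup.center G = ⊥

/-- The nilpotent operator of an element. -/
def nop (g : G) : Op V := op g + 1

theorem elt_nop (g : G) (m : Mo V) : elt (nop (V := V) g m) = g * elt m * g⁻¹ * elt m := rfl

variable (hV : Base V)
include hV

theorem add_self_vec (m : Mo V) : m + m = 0 := elt_inj (hV.sq _ (elt_mem m))

theorem two (x : Op V) : x + x = 0 := AddMonoidHom.ext fun m => add_self_vec hV (x m)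

theorem op_eq_one_iff {g : G} : op (V := V) g = 1 ↔ g ∈ V := by
  constructor
  · intro h
    refine hV.cent (Subgroup.mem_centralizer_iff.2 fun x hx => ?_)
    obtain ⟨m, rfl⟩ := exists_vec (V := V) hx
    have h1 := congrArg elt (DFunLike.congr_fun h m)
    rw [elt_op, elt_one_apply] at h1
    calc elt m * g = g * elt m * g⁻¹ * g := by rw [h1]
      _ = g * elt m := by group
  · intro h
    refine AddMonoidHom.ext fun m => elt_inj ?_
    show g * elt m * g⁻¹ = elt m
    have hc : (⟨g, h⟩ : ↥V) * Additive.toMul m = Additive.toMul m * ⟨g, h⟩ := mul_comm' _ _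
    have hc' : g * elt m = elt m * g := congrArg Subtype.val hc
    rw [hc', mul_inv_cancel_right]

theorem op_eq_iff {g k : G} : op (V := V) g = op k ↔ g⁻¹ * k ∈ V := by
  rw [← op_eq_one_iff hV]
  constructor
  · intro h
    rw [map_mul, ← h, ← map_mul, inv_mul_cancel, map_one]
  · intro h
    rw [show k = g * (g⁻¹ * k) by group, map_mul, h, mul_one]

theorem op_sq {g : G} (hg : g * g = 1) : op (V := V) g * op g = 1 := by rw [← map_mul, hg, map_one]

theorem op_eq_add {g : G} : op (V := V) g = 1 + nop g := eq_one_add (two hV)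

theorem nop_sq {g : G} (hg : g * g = 1) : nop (V := V) g * nop g = 0 := sq_zero (two hV) (op_sq hV hg)

theorem nop_conj {s : G} (hs : s * s = 1) (g : G) :
    nop (V := V) (s * g * s) = op s * nop g * op s := by
  rw [nop, nop, map_mul, map_mul, mul_add, add_mul, mul_one, op_sq hV hs]

theorem nop_eq_iff {g k : G} : nop (V := V) g = nop k ↔ op (V := V) g = op k := by
  rw [nop, nop]; exact add_left_inj 1

theorem norm_eq {n x : G} (hn : n ∈ V) (hx : x ^ 3 = 1) (hnx : (n * x) ^ 3 = 1) (m : Mo V)
    (hm : elt m = n) : ((1 + op (V := V) x + op (V := V) x * op x : Op V)) m = 0 := by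
  subst hm
  apply elt_inj
  rw [elt_zero]
  show elt m * (x * elt m * x⁻¹) * (x * (x * elt m * x⁻¹) * x⁻¹) = 1
  calc elt m * (x * elt m * x⁻¹) * (x * (x * elt m * x⁻¹) * x⁻¹)
      = (elt m * x) ^ 3 * (x ^ 3)⁻¹ := by simp only [pow_succ, pow_zero, one_mul]; group
    _ = 1 := by rw [hnx, hx, inv_one, mul_one]

variable {D : Set G} (hD : IsThreeTranspositionClass D)
include hD

theorem mul_self' {d : G} (hd : d ∈ D) : d * d = 1 := mul_self hD.1 hd

theorem conj_mem' {d : G} (hd : d ∈ D) {k : G} (hk : k ∈ D) : d * k * d ∈ D :=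
  third_mem (isClosedSet_of_class hD) hd hk

theorem not_mem {d : G} (hd : d ∈ D) : d ∉ V := by
  intro h
  have hsub : D ⊆ V := fun k hk => by
    obtain ⟨g, rfl⟩ := class_exists_conj hD hd hk
    exact Subgroup.Normal.conj_mem ‹V.Normal› d h g
  have htop : (⊤ : Subgroup G) ≤ V := hD.2.2 ▸ (Subgroup.closure_le V).2 hsub
  have hc : d ∈ Subgroup.center G := Subgroup.mem_center_iff.2 fun g =>
    congrArg Subtype.val (mul_comm' (⟨g, htop trivial⟩ : ↥V) ⟨d, h⟩)
  rw [hV.trivialCenter, Subgroup.mem_bot] at hc
  exact ne_one hD.1 hd hc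

theorem nop_ne_zero {d : G} (hd : d ∈ D) : nop (V := V) d ≠ 0 := fun h =>
  not_mem hV hD hd ((op_eq_one_iff hV).1 (eq_of_add_eq_zero (two hV) h))

/-- The conjugate of `d` by a vector. -/
theorem conj_vec {d : G} (hd : d ∈ D) (m : Mo V) :
    elt m * d * (elt m)⁻¹ = d * elt (nop (V := V) d m) ∧ d * elt (nop (V := V) d m) ∈ D := by
  have e : elt m * d * (elt m)⁻¹ = d * elt (nop (V := V) d m) := by
    rw [elt_nop, inv_eq_of_mul_eq_one_right (hV.sq _ (elt_mem m)), inv_eq hD.1 hd]
    simp only [mul_assoc]
    rw [mul_self_assoc hD.1 hd]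
  exact ⟨e, e ▸ class_conj_mem hD _ hd⟩

/-- Commuting modulo `V` is commuting; the operators are orthogonal. -/
theorem of_sq_mem {d k : G} (hd : d ∈ D) (hk : k ∈ D) (h : (d * k) ^ 2 ∈ V) :
    Commute d k ∧ nop (V := V) k * nop d = 0 := by
  have hall : ∀ m : Mo V, Commute (d * elt (nop (V := V) d m)) k := by
    intro m
    set n := elt (nop (V := V) d m)
    have hnm : n ∈ V := elt_mem _
    have hd' : d * n ∈ D := (conj_vec hV hD hd m).2
    by_contra hc
    have h3 := cube_eq_one hD.1 hd' hk hc
    have h2 : (d * n * k) ^ 2 = 1 := by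
      have hmod : op (V := V) (d * n * k) = op (d * k) := by
        rw [map_mul, map_mul, map_mul, (op_eq_one_iff hV).2 hnm, mul_one]
      have hA : op (V := V) (d * n * k) ^ 2 = 1 := by
        rw [hmod, ← map_pow, (op_eq_one_iff hV).2 h]
      have hB : op (V := V) (d * n * k) ^ 3 = 1 := by rw [← map_pow, h3, map_one]
      have hmem : d * n * k ∈ V := (op_eq_one_iff hV).1 (by rwa [pow_succ, hA, one_mul] at hB)
      rw [pow_two]; exact hV.sq _ hmem
    exact hc (commute_of_sq_eq_one (mul_self' hV hD hd') (mul_self' hV hD hk) h2)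
  have hdk : Commute d k := by
    have := hall 0
    rwa [map_zero, elt_zero, mul_one] at this
  refine ⟨hdk, AddMonoidHom.ext fun m => elt_inj ?_⟩
  show elt (nop (V := V) k (nop (V := V) d m)) = 1
  rw [elt_nop]
  have hn : Commute (elt (nop (V := V) d m)) k := by
    have h1 := (hdk.mul_left (hall m))
    rwa [← mul_assoc, mul_self' hV hD hd, one_mul] at h1
  rw [← hn.eq, mul_inv_cancel_right]
  exact hV.sq _ (elt_mem _)

theorem nop_mul_of_commute {d k : G} (hd : d ∈ D) (hk : k ∈ D) (h : Commute d k) :
    nop (V := V) d * nop k = 0 := by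
  refine (of_sq_mem hV hD hk hd ?_).2
  rw [sq_eq_one_of_commute (mul_self' hV hD hk) (mul_self' hV hD hd) h.symm]
  exact V.one_mem

/-- The norm of an adjacent pair kills both operators. -/
theorem of_not_commute {d k : G} (hd : d ∈ D) (hk : k ∈ D) (h : ¬ Commute d k) :
    nop (V := V) d * nop k * nop d = nop d := by
  have h3 := cube_eq_one hD.1 hd hk h
  have hn : ∀ m : Mo V, ((1 + op (V := V) (d * k) + op (V := V) (d * k) * op (d * k) : Op V)) (nop (V := V) d m) = 0 := by
    intro m
    set n := elt (nop (V := V) d m) with hndef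
    have hd' : d * n ∈ D := (conj_vec hV hD hd m).2
    refine norm_eq hV (elt_mem _) h3 ?_ _ hndef.symm
    have hfix : d * n * d⁻¹ = n := by
      have e := congrArg elt (DFunLike.congr_fun (show op (V := V) d * nop d = nop d by
        rw [op_eq_add hV, add_mul, one_mul, nop_sq hV (mul_self' hV hD hd), add_zero]) m)
      rw [← elt_op] at *
      exact e
    have hprod : d * n * k = n * (d * k) := by
      calc d * n * k = (d * n * d⁻¹) * (d * k) := by group
        _ = n * (d * k) := by rw [hfix]
    have hnc : ¬ Commute (d * n) k := by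
      intro hc
      refine h (of_sq_mem hV hD hd hk ?_).1
      have e2 := sq_eq_one_of_commute (mul_self' hV hD hd') (mul_self' hV hD hk) hc
      rw [hprod] at e2
      rw [← op_eq_one_iff hV, map_pow]
      have e3 := congrArg (op (V := V)) e2
      rw [map_pow, map_mul, (op_eq_one_iff hV).2 (elt_mem (nop (V := V) d m) : n ∈ V), one_mul, map_one] at e3
      exact e3
    have := cube_eq_one hD.1 hd' hk hnc
    rwa [hprod] at this
  have hR : (1 + op (V := V) (d * k) + op (V := V) (d * k) * op (d * k)) * nop d = 0 :=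
    AddMonoidHom.ext hn
  have hx2 : op (V := V) (d * k) * op (d * k) = op k * op d := by
    rw [← map_mul, ← map_mul]
    congr 1
    have h4 : (d * k) * ((d * k) * (d * k)) = 1 := by rw [← h3, pow_three]
    have := eq_inv_of_mul_eq_one_right h4
    rw [this, mul_inv_rev, inv_eq hD.1 hd, inv_eq hD.1 hk]
  rw [hx2, map_mul, op_eq_add hV, op_eq_add hV (g := k)] at hR
  set A := nop (V := V) d
  set B := nop (V := V) k
  have hA : A * A = 0 := nop_sq hV (mul_self' hV hD hd)
  have e : 1 + (1 + A) * (1 + B) + (1 + B) * (1 + A) = rad A B := by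
    have ee : 1 + (1 + A) * (1 + B) + (1 + B) * (1 + A) =
        rad A B + ((1 + 1) + (A + A) + (B + B)) := by
      simp only [rad, add_mul, mul_add, one_mul, mul_one]; abel
    rw [ee]; simp only [two hV, add_zero]
  rw [e, rad, add_mul, add_mul, one_mul, mul_assoc B, hA, mul_zero, add_zero] at hR
  exact (eq_of_add_eq_zero (two hV) hR).symm

theorem commute_iff {d k : G} (hd : d ∈ D) (hk : k ∈ D) :
    Commute d k ↔ nop (V := V) d * nop k = 0 := by
  refine ⟨nop_mul_of_commute hV hD hd hk, fun h => ?_⟩
  by_contra hc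
  apply nop_ne_zero hV hD hd
  rw [← of_not_commute hV hD hd hk hc, h, zero_mul]

theorem adj_sandwich {d k : G} (hd : d ∈ D) (hk : k ∈ D) (h : nop (V := V) d * nop k ≠ 0) :
    nop (V := V) d * nop k * nop d = nop d :=
  of_not_commute hV hD hd hk fun hc => h (nop_mul_of_commute hV hD hd hk hc)

theorem orth_symm {d k : G} (hd : d ∈ D) (hk : k ∈ D) (h : nop (V := V) d * nop k = 0) :
    nop (V := V) k * nop d = 0 :=
  nop_mul_of_commute hV hD hk hd ((commute_iff hV hD hd hk).2 h).symm

theorem adj_symm {d k : G} (hd : d ∈ D) (hk : k ∈ D) (h : nop (V := V) d * nop k ≠ 0) :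
    nop (V := V) k * nop d ≠ 0 := fun h' => h (orth_symm hV hD hk hd h')

/-- Two commuting members with different operators are separated by a third. -/
theorem exists_separating [Finite G] {d k : G} (hd : d ∈ D) (hk : k ∈ D)
    (hne : op (V := V) d ≠ op k) : ∃ c ∈ D, (nop (V := V) c * nop k = 0 ∧ nop (V := V) c * nop d ≠ 0) ∨
      (nop (V := V) c * nop d = 0 ∧ nop (V := V) c * nop k ≠ 0) := by
  by_contra hno
  push Not at hno
  apply hne
  have hv : k ∈ vSet D d := ⟨hk, fun c hc => by
    obtain ⟨h1, h2⟩ := hno c hc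
    constructor
    · intro hcomm
      exact ((commute_iff hV hD hc hd).2 (h1 (nop_mul_of_commute hV hD hc hk hcomm.symm))).symm
    · intro hcomm
      exact ((commute_iff hV hD hc hk).2 (h2 (nop_mul_of_commute hV hD hc hd hcomm.symm))).symm⟩
  have hmem := mul_mem_pCore_two (isClosedSet_of_class hD) hd hv
  have hle : pCore 2 G ≤ V := sSup_le fun W hW => hV.core W hW.1 hW.2
  rw [eq_comm, op_eq_iff hV, inv_eq hD.1 hk]
  exact hle hmem

/-- The images of two orthogonal operators meet in zero. -/
theorem inter_zero [Finite G] {d k : G} (hd : d ∈ D) (hk : k ∈ D) (h0 : nop (V := V) d * nop k = 0)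
    (hne : op (V := V) d ≠ op k) {x y : Mo V} (he : nop (V := V) d x = nop (V := V) k y) :
    nop (V := V) d x = 0 := by
  obtain ⟨c, hc, ⟨hck, hcd⟩ | ⟨hcd, hck⟩⟩ := exists_separating hV hD hd hk hne
  · have h1 : nop (V := V) d (nop (V := V) c (nop (V := V) d x)) = nop (V := V) d x := by
      rw [← op_mul_apply, ← op_mul_apply, adj_sandwich hV hD hd hc (adj_symm hV hD hc hd hcd)]
    rw [← h1, he, ← op_mul_apply (nop (V := V) c), hck]
    exact map_zero _
  · have h1 : nop (V := V) k (nop (V := V) c (nop (V := V) k y)) = nop (V := V) k y := by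
      rw [← op_mul_apply, ← op_mul_apply, adj_sandwich hV hD hk hc (adj_symm hV hD hc hk hck)]
    rw [he, ← h1, ← he, ← op_mul_apply (nop (V := V) c), hcd]
    exact map_zero _

/-- An element acting centrally and squaring into `V` lies in `V`. -/
theorem mem_of_central [Finite G] {g : G} (hsq : op (V := V) g * op g = 1)
    (hcomm : ∀ d ∈ D, op (V := V) g * op d = op d * op g) : g ∈ V := by
  have hall : ∀ x : G, op (V := V) g * op x = op x * op g := by
    intro x
    have hx : x ∈ Subgroup.closure D := by rw [hD.2.2]; trivial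
    induction hx using Subgroup.closure_induction with
    | mem d hd => exact hcomm d hd
    | one => rw [map_one, mul_one, one_mul]
    | mul a b _ _ ha hb => rw [map_mul, ← mul_assoc, ha, mul_assoc, hb, mul_assoc]
    | inv a _ ha =>
      have h1 : op (V := V) a⁻¹ * op a = 1 := by rw [← map_mul, inv_mul_cancel, map_one]
      have h2 : op (V := V) a * op a⁻¹ = 1 := by rw [← map_mul, mul_inv_cancel, map_one]
      calc op (V := V) g * op a⁻¹ = op (V := V) a⁻¹ * (op a * op g) * op a⁻¹ := by
            rw [← mul_assoc (op (V := V) a⁻¹), h1, one_mul]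
        _ = op (V := V) a⁻¹ * op g := by rw [← ha, mul_assoc, mul_assoc, h2, mul_one]
  let W : Subgroup G :=
    { carrier := {x | op (V := V) x = 1 ∨ op (V := V) x = op g}
      one_mem' := Or.inl (map_one _)
      mul_mem' := by
        rintro x y (hx | hx) (hy | hy) <;> simp only [Set.mem_ofPred_eq, map_mul, hx, hy, one_mul, mul_one, hsq] <;> tauto
      inv_mem' := by
        rintro x (hx | hx)
        · exact Or.inl (by rw [op_eq_one_iff hV] at hx ⊢; exact V.inv_mem hx)
        · right
          have h1 : op (V := V) x * op x⁻¹ = 1 := by rw [← map_mul, mul_inv_cancel, map_one]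
          calc op (V := V) x⁻¹ = op (V := V) g * op g * op x⁻¹ := by rw [hsq, one_mul]
            _ = op (V := V) g * (op x * op x⁻¹) := by rw [hx, mul_assoc]
            _ = op g := by rw [h1, mul_one] }
  have hWn : W.Normal := ⟨fun x hx y => by
    have hy : op (V := V) y * op y⁻¹ = 1 := by rw [← map_mul, mul_inv_cancel, map_one]
    rcases hx with hx | hx
    · left; rw [map_mul, map_mul, hx, mul_one, hy]
    · right; rw [map_mul, map_mul, hx, ← hall y, mul_assoc, hy, mul_one]⟩
  have hWp : IsPGroup 2 W := fun x => ⟨2, Subtype.ext (by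
    have h1 : (x : G) * x ∈ V := by
      rw [← op_eq_one_iff hV, map_mul]
      rcases x.2 with hx | hx <;> rw [hx]
      · exact one_mul 1
      · exact hsq
    show (x : G) ^ (2 ^ 2) = 1
    rw [show (2 : ℕ) ^ 2 = 2 * 2 by norm_num, pow_mul, pow_two (x : G), pow_two]
    exact hV.sq _ h1)⟩
  exact hV.core W hWn hWp (Or.inr rfl : g ∈ W)

end Cfsg.Agent.Lib.ThreeTranspositions.UniqueOp
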